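import Cfsg.Agent.Zassenhaus.RegularMinimal
import Cfsg.Agent.Transfer.QuaternionSection
import Cfsg.Agent.Perm.DegreeTwoModFour
import Cfsg.Agent.Solvable.Basics
import Mathlib.Algebra.Field.Shrink
import Mathlib.Logic.Small.Basic

/-!
Solvable linear groups regular on the non-zero vectors: semilinear or one of four sizes, and the
existence of subgroups of index two.
-/

set_option autoImplicit false
set_option linter.unusedSectionVars false

namespace CfsgLib.SemiReg

open Subgroup CfsgLib.RegularLinear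

/-- An irreducible abelian normal subgroup puts a linear group into a semilinear group. -/
theorem exists_semilinear {p : ℕ} [Fact p.Prime] {V : Type*} [AddCommGroup V] [Module (ZMod p) V]
    [Finite V] [Nontrivial V] {H : Subgroup (V ≃ₗ[ZMod p] V)} (A : Subgroup H) [A.Normal]
    [IsMulCommutative A]
    (hirr : ∀ W : Submodule (ZMod p) V,
      (∀ a ∈ A, ∀ v ∈ W, ((a : H) : V ≃ₗ[ZMod p] V) v ∈ W) → W = ⊥ ∨ W = ⊤) :
    ∃ (F : Type) (_ : Field F) (_ : Fintype F) (e : V ≃+ F),
      ∀ h : H, ∃ (a : F) (σ : F ≃+* F), ∀ v : V, e ((h : V ≃ₗ[ZMod p] V) v) = a * σ (e v) := by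
  classical
  obtain ⟨v₀, hv₀⟩ := exists_ne (0 : V)
  have := env_comm A
  let L := env H A
  have : Finite (Module.End (ZMod p) V) :=
    Finite.of_injective (fun f => (f : V → V)) DFunLike.coe_injective
  let _ : CommRing L := { (inferInstance : Ring L) with
    mul_comm := fun a b => Subtype.ext (setLike_mul_comm a.2 b.2) }
  -- non-zero elements of the enveloping algebra are injective
  have hinj : ∀ f : L, f ≠ 0 → ∀ v : V, (f : Module.End (ZMod p) V) v = 0 → v = 0 := by
    intro f hf v hfv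
    rcases hirr (LinearMap.ker (f : Module.End (ZMod p) V)) (fun a ha w hw => by
      have hc : (f : Module.End (ZMod p) V) * act H a = act H a * f :=
        setLike_mul_comm f.2 (mem_env A ha)
      rw [LinearMap.mem_ker] at hw ⊢
      show ((f : Module.End (ZMod p) V) * act H a) w = 0
      rw [hc, Module.End.mul_apply, hw, map_zero]) with h | h
    · exact (Submodule.mem_bot _).1 (h ▸ LinearMap.mem_ker.2 hfv)
    · exact absurd (Subtype.ext (LinearMap.ker_eq_top.1 h)) hf
  have : Nontrivial L :=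
    ⟨⟨1, 0, fun e => hv₀ (LinearMap.congr_fun (congrArg Subtype.val e) v₀)⟩⟩
  have : NoZeroDivisors L := ⟨fun {a b} hab => by
    by_contra hc
    push Not at hc
    exact hv₀ (hinj b hc.2 v₀ (hinj a hc.1 _
      (LinearMap.congr_fun (congrArg Subtype.val hab) v₀)))⟩
  have : IsDomain L := NoZeroDivisors.to_isDomain L
  let _ : Field L := (Finite.isField_of_domain L).toField
  -- evaluation at `v₀`
  let ev : L →+ V :=
    { toFun := fun f => (f : Module.End (ZMod p) V) v₀
      map_zero' := rfl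
      map_add' := fun _ _ => rfl }
  have hev : Function.Bijective ev := by
    constructor
    · intro f g hfg
      by_contra hne
      refine hv₀ (hinj (f - g) (sub_ne_zero.2 hne) v₀ ?_)
      show (f : Module.End (ZMod p) V) v₀ - (g : Module.End (ZMod p) V) v₀ = 0
      exact sub_eq_zero.2 hfg
    · intro w
      rcases hirr (cyc A v₀) (fun a ha v hv => apply_mem_cyc A (mem_env A ha) hv) with h | h
      · exact absurd ((Submodule.mem_bot _).1 (h ▸ self_mem_cyc A v₀)) hv₀
      · obtain ⟨f, hf, hfw⟩ := (mem_cyc A).1 (h ▸ Submodule.mem_top : w ∈ cyc A v₀)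
        exact ⟨⟨f, hf⟩, hfw⟩
  let e₁ : V ≃+ L := (AddEquiv.ofBijective ev hev).symm
  let _ : Fintype L := Fintype.ofFinite L
  let _ : Fintype (Shrink.{0} L) := Fintype.ofEquiv L (equivShrink.{0} L)
  let r : Shrink.{0} L ≃+* L := Shrink.ringEquiv.{0} L
  refine ⟨Shrink.{0} L, inferInstance, inferInstance, e₁.trans r.symm.toAddEquiv, fun h => ?_⟩
  let σ : L ≃+* L :=
    { toFun := fun f => ⟨act H h * f * act H h⁻¹, env_conj A h f.2⟩
      invFun := fun f => ⟨act H h⁻¹ * f * act H h⁻¹⁻¹, env_conj A h⁻¹ f.2⟩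
      left_inv := fun f => Subtype.ext (by
        show act H h⁻¹ * (act H h * (f : Module.End (ZMod p) V) * act H h⁻¹) * act H h⁻¹⁻¹ = _
        rw [inv_inv, ← mul_assoc, ← mul_assoc, act_inv_mul, one_mul, mul_assoc, act_inv_mul, mul_one])
      right_inv := fun f => Subtype.ext (by
        show act H h * (act H h⁻¹ * (f : Module.End (ZMod p) V) * act H h⁻¹⁻¹) * act H h⁻¹ = _
        rw [inv_inv, ← mul_assoc, ← mul_assoc, act_mul_inv, one_mul, mul_assoc, act_mul_inv, mul_one])
      map_add' := fun f g => Subtype.ext (by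
        show act H h * ((f : Module.End (ZMod p) V) + g) * act H h⁻¹ = _
        rw [mul_add, add_mul]; rfl)
      map_mul' := fun f g => Subtype.ext (by
        show act H h * ((f : Module.End (ZMod p) V) * g) * act H h⁻¹ =
          act H h * f * act H h⁻¹ * (act H h * g * act H h⁻¹)
        simp only [mul_assoc]
        rw [← mul_assoc (act H h⁻¹) (act H h), act_inv_mul, one_mul]) }
  refine ⟨r.symm (e₁ ((h : V ≃ₗ[ZMod p] V) v₀)), (r.trans σ).trans r.symm, fun v => ?_⟩
  show r.symm (e₁ ((h : V ≃ₗ[ZMod p] V) v)) =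
    r.symm (e₁ ((h : V ≃ₗ[ZMod p] V) v₀)) * r.symm (σ (r (r.symm (e₁ v))))
  rw [r.apply_symm_apply, ← map_mul]
  congr 1
  apply e₁.symm.injective
  rw [e₁.symm_apply_apply]
  set c := e₁ ((h : V ≃ₗ[ZMod p] V) v₀) with hc
  have hcv : (c : Module.End (ZMod p) V) v₀ = (h : V ≃ₗ[ZMod p] V) v₀ :=
    e₁.symm_apply_apply _
  have hfv : ((e₁ v : L) : Module.End (ZMod p) V) v₀ = v := e₁.symm_apply_apply v
  show _ = (((c * σ (e₁ v) : L) : Module.End (ZMod p) V)) v₀
  rw [mul_comm c]
  show (h : V ≃ₗ[ZMod p] V) v =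
    (act H h * ((e₁ v : L) : Module.End (ZMod p) V) * act H h⁻¹) ((c : Module.End (ZMod p) V) v₀)
  rw [hcv]
  show (h : V ≃ₗ[ZMod p] V) v =
    (act H h * ((e₁ v : L) : Module.End (ZMod p) V) * act H h⁻¹ * act H h) v₀
  rw [mul_assoc, act_inv_mul, mul_one, Module.End.mul_apply, hfv]
  rfl

/-- Ring automorphisms of a finite field commute. -/
theorem ringEquiv_comm {F : Type*} [Field F] [Finite F] (σ τ : F ≃+* F) : σ * τ = τ * σ := by
  obtain ⟨w, hw⟩ := IsCyclic.exists_monoid_generator (α := Fˣ)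
  obtain ⟨i, hi⟩ : ∃ i : ℕ, σ (w : F) = (w : F) ^ i := by
    obtain ⟨i, hi⟩ := hw (Units.map σ.toRingHom.toMonoidHom w)
    exact ⟨i, by simpa using (congrArg Units.val hi).symm⟩
  obtain ⟨j, hj⟩ : ∃ j : ℕ, τ (w : F) = (w : F) ^ j := by
    obtain ⟨j, hj⟩ := hw (Units.map τ.toRingHom.toMonoidHom w)
    exact ⟨j, by simpa using (congrArg Units.val hj).symm⟩
  ext x
  by_cases hx : x = 0
  · simp [hx]
  obtain ⟨k, hk⟩ := hw (Units.mk0 x hx)
  have hkx : x = (w : F) ^ k := by simpa using (congrArg Units.val hk).symm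
  rw [RingAut.mul_apply, RingAut.mul_apply, hkx, map_pow, map_pow, map_pow, map_pow, hi, hj,
    map_pow, map_pow, hi, hj, ← pow_mul, ← pow_mul, ← pow_mul, ← pow_mul, Nat.mul_left_comm]

/-- A finite group with an abelian quotient of even order has a normal subgroup of index two. -/
theorem index_two_of_even {G : Type*} [Group G] [Finite G]
    (h : 2 ∣ Nat.card (Abelianization G)) : ∃ N : Subgroup G, N.Normal ∧ N.index = 2 := by
  classical
  have : Fact (Nat.Prime 2) := ⟨Nat.prime_two⟩
  obtain ⟨u, hu⟩ := exists_prime_orderOf_dvd_card' 2 h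
  let S : Subgroup (Abelianization G) := (powMonoidHom 2).range
  have hS : S ≠ ⊤ := by
    intro htop
    have hs : Function.Surjective (powMonoidHom 2 : Abelianization G →* Abelianization G) :=
      MonoidHom.range_eq_top.1 htop
    have hi := Finite.injective_iff_surjective.2 hs
    have h1 : u = 1 := hi (show u ^ 2 = 1 ^ 2 by rw [one_pow, ← hu, pow_orderOf_eq_one])
    rw [h1, orderOf_one] at hu
    omega
  obtain ⟨M, hM, hSM⟩ := (eq_top_or_exists_le_coatom S).resolve_left hS
  obtain ⟨y, hy⟩ : ∃ y, y ∉ M := by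
    by_contra hall
    push Not at hall
    exact hM.1 (eq_top_iff.2 fun x _ => hall x)
  have hy2 : y * y ∈ M := hSM ⟨y, pow_two y⟩
  have hidx : M.index = 2 := by
    rw [Subgroup.index_eq_two_iff]
    refine ⟨y, fun b => ?_⟩
    have hsup : M ⊔ zpowers y = ⊤ := hM.2 _ (lt_of_le_of_ne le_sup_left fun he =>
      hy (he.symm ▸ mem_sup_right (mem_zpowers y)))
    obtain ⟨m, hm, z, hz, rfl⟩ := Subgroup.mem_sup.1 (hsup ▸ mem_top b : b ∈ M ⊔ zpowers y)
    obtain ⟨n, rfl⟩ := mem_zpowers_iff.1 hz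
    have hy2' : y ^ (2 : ℤ) ∈ M := by rw [zpow_two]; exact hy2
    rcases Int.even_or_odd' n with ⟨k, rfl | rfl⟩
    · have hk : y ^ (2 * k) ∈ M := by rw [zpow_mul]; exact zpow_mem hy2' k
      refine Or.inr ⟨mul_mem hm hk, fun h => hy ?_⟩
      exact (M.mul_mem_cancel_left (mul_mem hm hk)).1 h
    · have hk : y ^ (2 * k) ∈ M := by rw [zpow_mul]; exact zpow_mem hy2' k
      refine Or.inl ⟨?_, fun h => hy ?_⟩
      · rw [mul_assoc, ← zpow_add_one, show 2 * k + 1 + 1 = 2 * k + 2 by ring, zpow_add]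
        exact mul_mem hm (mul_mem hk hy2')
      · rw [zpow_add_one, ← mul_assoc] at h
        exact (M.mul_mem_cancel_left (mul_mem hm hk)).1 h
  exact ⟨M.comap Abelianization.of, inferInstance, by
    rw [Subgroup.index_comap_of_surjective M (f := Abelianization.of) (QuotientGroup.mk'_surjective _), hidx]⟩

/-- A cyclic Sylow `2`-subgroup gives a normal subgroup of index two. -/
theorem index_two_of_cyclic {G : Type*} [Group G] [Finite G] (h2 : 2 ∣ Nat.card G) (P : Sylow 2 G)
    (hP : IsCyclic (P : Subgroup G)) : ∃ N : Subgroup G, N.Normal ∧ N.index = 2 := by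
  classical
  cases nonempty_fintype G
  have : Fact (Nat.Prime 2) := ⟨Nat.prime_two⟩
  obtain ⟨x, hx⟩ := hP.exists_generator
  have hord : orderOf (x : G) = 2 ^ (Nat.card G).factorization 2 := by
    rw [Subgroup.orderOf_coe, orderOf_eq_card_of_forall_mem_zpowers hx, Sylow.card_eq_multiplicity]
  set n := (Nat.card G).factorization 2
  have hn : 1 ≤ n := (Nat.prime_two.pow_dvd_iff_le_factorization Nat.card_pos.ne').1 (by simpa using h2)
  let φ : G →* ℤˣ := Equiv.Perm.sign.comp (MulAction.toPermHom G G)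
  let σ : Equiv.Perm G := MulAction.toPermHom G G (x : G)
  have hσ : ∀ k : ℕ, ∀ y : G, (σ ^ k) y = (x : G) ^ k * y := fun k y => by
    rw [← map_pow]; rfl
  have hlt : ∀ k : ℕ, 0 < k → k < 2 ^ n → ∀ y : G, (σ ^ k) y ≠ y := fun k hk hk' y h => by
    rw [hσ, mul_eq_right] at h
    have := Nat.le_of_dvd hk (orderOf_dvd_of_pow_eq_one h)
    omega
  have hσn : σ ^ (2 ^ n) = 1 := by
    rw [← map_pow, ← hord, pow_orderOf_eq_one, map_one]
  have h2n : 1 < 2 ^ n := Nat.one_lt_two_pow (by omega)
  have hsupp : σ.support = Finset.univ := by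
    ext y
    simp only [Equiv.Perm.mem_support, Finset.mem_univ, iff_true]
    have := hlt 1 one_pos h2n y
    rwa [pow_one] at this
  have hall : ∀ c ∈ σ.cycleType, c = 2 ^ n := by
    intro c hc
    rw [Equiv.Perm.cycleType_def] at hc
    obtain ⟨τ, hτ, rfl⟩ := Multiset.mem_map.1 hc
    have hτ' : τ ∈ σ.cycleFactorsFinset := hτ
    obtain ⟨hτc, hτe⟩ := Equiv.Perm.mem_cycleFactorsFinset_iff.1 hτ'
    have hle : τ.support.card ≤ 2 ^ n := by
      refine Nat.le_of_dvd (by omega) ?_
      have h1 : τ.support.card ∣ orderOf σ := by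
        rw [← Equiv.Perm.lcm_cycleType]
        exact Multiset.dvd_lcm (by rw [Equiv.Perm.cycleType_def]; exact Multiset.mem_map.2 ⟨τ, hτ, rfl⟩)
      exact h1.trans (orderOf_dvd_of_pow_eq_one hσn)
    refine le_antisymm hle (not_lt.1 fun hl => ?_)
    obtain ⟨y, hy⟩ := hτc.nonempty_support
    have hcy : σ.cycleOf y = τ := (Equiv.Perm.cycle_is_cycleOf hy hτ').symm
    refine hlt τ.support.card (Finset.card_pos.2 ⟨y, hy⟩) hl y ?_
    rw [← Equiv.Perm.cycleOf_pow_apply_self, hcy, ← hτc.orderOf, pow_orderOf_eq_one,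
      Equiv.Perm.one_apply]
  have hsum : σ.cycleType.sum = Nat.card G := by
    rw [Equiv.Perm.sum_cycleType, hsupp, Finset.card_univ, Nat.card_eq_fintype_card]
  have hrep := Multiset.eq_replicate_card.2 hall
  rw [hrep, Multiset.sum_replicate, smul_eq_mul] at hsum
  have hc : Odd (Multiset.card σ.cycleType) := by
    have hndvd : ¬ 2 ^ (n + 1) ∣ Nat.card G := Nat.pow_succ_factorization_not_dvd Nat.card_pos.ne' Nat.prime_two
    rcases Nat.even_or_odd (Multiset.card σ.cycleType) with ⟨k, hk⟩ | h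
    · refine absurd ⟨k, ?_⟩ hndvd
      rw [← hsum, hk, pow_succ]; ring
    · exact h
  have hx1 : φ (x : G) = -1 := by
    show Equiv.Perm.sign σ = -1
    rw [Equiv.Perm.sign_of_cycleType, hrep, Multiset.sum_replicate, Multiset.card_replicate,
      smul_eq_mul]
    exact (((Nat.even_pow.2 ⟨even_two, by omega⟩ : Even (2 ^ n)).mul_left _).add_odd hc).neg_one_pow
  refine ⟨φ.ker, inferInstance, ?_⟩
  rw [Subgroup.index_ker, show φ.range = ⊤ from top_unique fun z _ => ?_, Subgroup.card_top,
    Nat.card_eq_fintype_card]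
  · rfl
  · rcases Int.units_eq_one_or z with rfl | rfl
    · exact ⟨1, map_one φ⟩
    · exact ⟨x, hx1⟩

/-- A semilinear group of even order has a normal subgroup of index two. -/
theorem index_two_of_semilinear {G V : Type*} [Group G] [Finite G] [AddCommGroup V] {F : Type*}
    [Field F] [Finite F] (e : V ≃+ F) (act : G → V → V)
    (hmul : ∀ g h v, act (g * h) v = act g (act h v)) (hinj : ∀ g, Function.Injective (act g))
    (hone : ∀ g, (∀ v, act g v = v) → g = 1)
    (hsemi : ∀ g, ∃ (a : F) (σ : F ≃+* F), ∀ v, e (act g v) = a * σ (e v))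
    (h2 : 2 ∣ Nat.card G) : ∃ N : Subgroup G, N.Normal ∧ N.index = 2 := by
  classical
  by_cases hab : 2 ∣ Nat.card (Abelianization G)
  · exact index_two_of_even hab
  choose a σ hσ using hsemi
  have hact1 : ∀ v, act 1 v = v := fun v => hinj 1 (by rw [← hmul, mul_one])
  have ha : ∀ g, a g = e (act g (e.symm 1)) := fun g => by
    rw [hσ, AddEquiv.apply_symm_apply, map_one, mul_one]
  have ha0 : ∀ g, a g ≠ 0 := fun g h => by
    have h1 : act g (e.symm 1) = act g 0 := e.injective (by
      rw [hσ, hσ, h, zero_mul, zero_mul])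
    have h2' := congrArg e (hinj g h1)
    rw [AddEquiv.apply_symm_apply, map_zero] at h2'
    exact one_ne_zero h2'
  have hσmul : ∀ g h, σ (g * h) = σ g * σ h ∧ a (g * h) = a g * σ g (a h) := by
    intro g h
    have key : ∀ x, a (g * h) * σ (g * h) x = a g * σ g (a h) * (σ g * σ h : F ≃+* F) x := fun x => by
      have h1 := hσ (g * h) (e.symm x)
      rw [hmul, hσ, hσ, AddEquiv.apply_symm_apply, map_mul] at h1
      rw [← h1, RingAut.mul_apply, mul_assoc]
    have h1 := key 1
    rw [map_one, map_one, mul_one, mul_one] at h1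
    refine ⟨RingEquiv.ext fun x => mul_left_cancel₀ (ha0 (g * h)) ?_, h1⟩
    rw [key, h1]
  let π : G →* (F ≃+* F) := MonoidHom.mk' σ fun g h => (hσmul g h).1
  let α : π.ker →* Fˣ := MonoidHom.mk' (fun g => Units.mk0 (a g) (ha0 g)) fun g h => Units.ext (by
    show a ((g : G) * h) = a g * a h
    rw [(hσmul g h).2, show σ (g : G) = 1 from g.2, RingAut.one_apply])
  have hα : Function.Injective α := by
    rw [← MonoidHom.ker_eq_bot_iff, Subgroup.eq_bot_iff_forall]
    intro g hg
    have h1 : a (g : G) = 1 := congrArg Units.val (MonoidHom.mem_ker.1 hg)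
    refine Subtype.ext (hone _ fun v => e.injective ?_)
    rw [hσ, h1, one_mul, show σ (g : G) = 1 from g.2, RingAut.one_apply]
  have hK : IsCyclic π.ker := isCyclic_of_injective α hα
  have hcomm : commutator G ≤ π.ker := by
    rw [commutator_def, Subgroup.commutator_le]
    intro g _ h _
    rw [MonoidHom.mem_ker, commutatorElement_def, map_mul, map_mul, map_mul, map_inv, map_inv,
      ringEquiv_comm (π g) (π h), mul_inv_cancel_right, mul_inv_cancel]
  have : Fact (Nat.Prime 2) := ⟨Nat.prime_two⟩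
  obtain ⟨P⟩ := (Sylow.nonempty : Nonempty (Sylow 2 G))
  have hP : (P : Subgroup G) ≤ π.ker := fun x hx => hcomm (by
    have h1 : orderOf (Abelianization.of x) ∣ Nat.gcd (2 ^ (Nat.card G).factorization 2)
        (Nat.card (Abelianization G)) := Nat.dvd_gcd (by
      refine (orderOf_map_dvd _ x).trans ?_
      rw [← Sylow.card_eq_multiplicity P]
      exact Subgroup.orderOf_dvd_natCard _ hx) (_root_.orderOf_dvd_natCard _)
    rw [Nat.Coprime.gcd_eq_one (Nat.Coprime.pow_left _
      ((Nat.prime_two.coprime_iff_not_dvd).2 hab)), Nat.dvd_one, orderOf_eq_one_iff] at h1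
    exact (QuotientGroup.eq_one_iff x).1 h1)
  have := hK
  exact index_two_of_cyclic h2 P
    (isCyclic_of_injective (Subgroup.inclusion hP) (Subgroup.inclusion_injective hP))

/-- The exceptional case without a subgroup of index two. -/
theorem exceptional {p : ℕ} [Fact p.Prime] {V : Type*} [AddCommGroup V] [Module (ZMod p) V]
    [Finite V] {H : Subgroup (V ≃ₗ[ZMod p] V)} {A N : Subgroup H} (hM : Minimal H A N)
    (hsol : Group.IsSolvable H) :
    (∃ M : Subgroup H, M.Normal ∧ M.index = 2) ∨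
      (Nat.card V = 25 ∧ Nonempty (H ≃* Matrix.SpecialLinearGroup (Fin 2) (ZMod 3))) ∨
      (Nat.card V = 121 ∧
        Nonempty (H ≃* Matrix.SpecialLinearGroup (Fin 2) (ZMod 3) × Multiplicative (ZMod 5))) := by
  classical
  have := hM.setting.finite
  have := hM.normal
  have := hM.setting.normal
  have := Module.Finite.of_finite (R := ZMod p) (M := V)
  obtain ⟨hn2, hctop, hp⟩ := hM.dim
  obtain ⟨-, -, -, k, m, hk, hm, hkm, hdvd, -, hcard, -, -⟩ := hM.setting.data
  have hk1 : k = 1 := by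
    rw [hn2] at hkm
    rcases (Nat.dvd_prime Nat.prime_two).1 (Dvd.intro m hkm.symm) with h | h
    · exact h
    · subst h; omega
  subst hk1
  rw [one_mul] at hcard hkm
  rw [hn2] at hkm
  subst hkm
  rw [pow_one] at hdvd
  obtain ⟨e⟩ : Nonempty (N ≃* QuaternionGroup 2) := hM.iso.resolve_right fun ⟨e⟩ =>
    CfsgLib.Zassenhaus.not_isSolvable_sl (Group.isSolvable_of_isSolvable_injective
      (f := N.subtype.comp e.symm.toMonoidHom) (N.subtype_injective.comp e.symm.injective))
  have hN8 : Nat.card N = 8 := by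
    rw [Nat.card_congr e.toEquiv, Nat.card_eq_fintype_card, QuaternionGroup.card]
  have hCN := hM.irreducible.2
  have hAC : ∀ a ∈ A, ∀ x : H, a * x = x * a := fun a ha x =>
    (Subgroup.mem_centralizer_iff.1 (hctop.ge (mem_top x))) a ha
  -- `|N A| = 4 |A|`
  have hinf : Nat.card (A ⊓ N : Subgroup H) = 2 := by
    have h1 : (A ⊓ N : Subgroup H) = (center N).map N.subtype := by
      ext x
      constructor
      · rintro ⟨hxA, hxN⟩
        exact ⟨⟨x, hxN⟩, mem_center_iff.2 fun y => Subtype.ext (hAC x hxA y).symm, rfl⟩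
      · rintro ⟨x, hx, rfl⟩
        refine ⟨?_, x.2⟩
        show (x : H) ∈ A
        rw [← hCN]
        exact mem_centralizer_iff.2 fun y hy => congrArg Subtype.val (mem_center_iff.1 hx ⟨y, hy⟩)
    rw [h1, Subgroup.card_map_of_injective N.subtype_injective]
    have h2 : Nat.card (center N) = Nat.card (center (QuaternionGroup 2)) :=
      Nat.card_congr (Subgroup.centerCongr e).toEquiv
    rw [h2]
    show Nat.card {x : QuaternionGroup 2 // x ∈ Subgroup.center (QuaternionGroup 2)} = 2
    rw [Nat.card_congr (Equiv.subtypeEquivRight (fun x : QuaternionGroup 2 =>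
      (Subgroup.mem_center_iff (z := x)))),
      Nat.card_eq_fintype_card]
    decide
  have hM4 : Nat.card (N ⊔ A : Subgroup H) = 4 * Nat.card A := by
    have h := CfsgLib.Solvable.card_sup_mul_card_inf (A := A) (K := N)
      (fun a _ => Subgroup.normalizer_eq_top (H := N) ▸ mem_top a)
    rw [hinf, hN8, sup_comm] at h
    omega
  set M : Subgroup H := N ⊔ A
  have hMn : M.Normal := inferInstance
  have hdvd6 : M.index ∣ 6 := by
    have h1 := hM.relIndex_dvd e
    rw [hctop, Subgroup.relIndex_top_right] at h1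
    have h2 := Subgroup.relIndex_mul_index (le_sup_right : A ≤ M)
    have h3 : A.relIndex M = 4 := by
      have := (A.subgroupOf M).card_mul_index
      rw [Nat.card_congr (Subgroup.subgroupOfEquivOfLe (le_sup_right : A ≤ M)).toEquiv, hM4,
        mul_comm 4] at this
      exact Nat.eq_of_mul_eq_mul_left Nat.card_pos this
    rw [h3] at h2
    rw [← h2] at h1
    exact (Nat.mul_dvd_mul_iff_left (by norm_num : 0 < 4)).1 (h1.trans (dvd_of_eq (by norm_num : 24 = 4 * 6)))
  have hH : Nat.card H = 4 * Nat.card A * M.index := by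
    rw [← hM4, Subgroup.card_mul_index]
  have hA := Nat.le_of_dvd (by have := (Fact.out : p.Prime).two_le; omega) hdvd
  have hidx : M.index = 1 ∨ M.index = 2 ∨ M.index = 3 ∨ M.index = 6 := by
    have := Nat.le_of_dvd (by norm_num) hdvd6
    interval_cases hi : M.index <;> first | omega | norm_num at hdvd6
  rcases hidx with h1 | h2 | h3 | h6
  · exfalso
    rw [hcard, h1, mul_one] at hH
    rcases hp hsol with rfl | rfl | rfl | rfl <;> norm_num at hH hA <;> omega
  · exact Or.inl ⟨M, hMn, h2⟩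
  · refine Or.inr ?_
    have : Fact (Nat.Prime 3) := ⟨Nat.prime_three⟩
    obtain ⟨g, hg⟩ := exists_prime_orderOf_dvd_card' 3 (show 3 ∣ Nat.card H from
      ⟨4 * Nat.card A, by rw [hH, h3, mul_comm]⟩)
    have hNg : ∀ x ∈ zpowers g, x ∈ Subgroup.normalizer (N : Set H) := fun x _ =>
      Subgroup.normalizer_eq_top (H := N) ▸ mem_top x
    set S : Subgroup H := N ⊔ zpowers g
    have hS24 : Nat.card S = 24 := by
      have h := CfsgLib.Solvable.card_sup_mul_card_inf (A := zpowers g) (K := N) hNg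
      rw [Nat.card_zpowers, hg, hN8, sup_comm] at h
      have hd : Nat.card (zpowers g ⊓ N : Subgroup H) ∣ Nat.gcd 3 8 := Nat.dvd_gcd
        ((Subgroup.card_dvd_of_le inf_le_left).trans (by rw [Nat.card_zpowers, hg]))
        ((Subgroup.card_dvd_of_le inf_le_right).trans (by rw [hN8]))
      rw [show Nat.gcd 3 8 = 1 by norm_num, Nat.dvd_one] at hd
      rw [hd] at h
      show Nat.card (N ⊔ zpowers g : Subgroup H) = 24
      omega
    have hgC : g ∉ centralizer (N : Set H) := by
      intro hgc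
      rw [hCN] at hgc
      have h := Subgroup.orderOf_dvd_natCard A hgc
      rw [hg] at h
      rcases hp hsol with rfl | rfl | rfl | rfl
      · exact absurd (h.trans hdvd) (by norm_num)
      · norm_num at hcard
        rw [hcard, h3] at hH
        omega
      · exact absurd (h.trans hdvd) (by norm_num)
      · exact absurd (h.trans hdvd) (by norm_num)
    let gS : S := ⟨g, mem_sup_right (mem_zpowers g)⟩
    obtain ⟨H', K', hK', ⟨f⟩⟩ := CfsgLib.QSection.exists_section (N.subgroupOf S)
      ((Subgroup.subgroupOfEquivOfLe (le_sup_left : N ≤ S)).trans e) gS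
      (Subgroup.normalizer_eq_top (H := N.subgroupOf S) ▸ mem_top gS)
      (by rw [← Subgroup.orderOf_coe]; show Odd (orderOf g); rw [hg]; decide)
      (fun h => hgC (Subgroup.mem_centralizer_iff.2 fun n hn =>
        congrArg Subtype.val (Subgroup.mem_centralizer_iff.1 h ⟨n, mem_sup_left hn⟩ hn)))
    have h24 : Nat.card (H' ⧸ K'.subgroupOf H') = 24 := by
      rw [Nat.card_congr f.toEquiv, CfsgLib.KnownB.card_SL23]
    have hc := (K'.subgroupOf H').card_mul_index
    rw [show (K'.subgroupOf H').index = 24 from h24] at hc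
    have hle : Nat.card H' ∣ 24 := hS24 ▸ Subgroup.card_subgroup_dvd_card H'
    have hH'24 : Nat.card H' = 24 := Nat.dvd_antisymm hle (Dvd.intro_left _ hc)
    have hK1 : K'.subgroupOf H' = ⊥ := Subgroup.eq_bot_of_card_eq _ (by omega)
    have hH'top : H' = ⊤ := Subgroup.eq_top_of_card_eq _ (by rw [hH'24, hS24])
    let eS : S ≃* Matrix.SpecialLinearGroup (Fin 2) (ZMod 3) :=
      ((Subgroup.topEquiv.symm.trans (MulEquiv.subgroupCongr hH'top.symm)).trans
        ((QuotientGroup.quotientBot).symm.trans (QuotientGroup.quotientMulEquivOfEq hK1.symm))).trans f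
    rw [Module.natCard_eq_pow_finrank (K := ZMod p), Nat.card_zmod, hn2]
    rcases hp hsol with rfl | rfl | rfl | rfl
    · refine Or.inl ⟨by norm_num, ⟨?_⟩⟩
      norm_num at hcard
      have : S = ⊤ := Subgroup.eq_top_of_card_eq _ (by rw [hS24, hcard])
      exact (Subgroup.topEquiv.symm.trans (MulEquiv.subgroupCongr this.symm)).trans eS
    · norm_num at hcard
      rw [hcard, h3] at hH
      have h4 : Nat.card A = 4 := by omega
      rw [h4] at hdvd
      norm_num at hdvd
    · norm_num at hcard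
      rw [hcard, h3] at hH
      have hA10 : Nat.card A = 10 := by omega
      have : Fact (Nat.Prime 5) := ⟨by norm_num⟩
      obtain ⟨z, hz⟩ := exists_prime_orderOf_dvd_card' (G := A) 5 (by rw [hA10]; norm_num)
      refine Or.inr ⟨by norm_num, ⟨?_⟩⟩
      let j : S × zpowers (z : H) →* H :=
        { toFun := fun x => (x.1 : H) * (x.2 : H)
          map_one' := by simp
          map_mul' := fun x y => by
            show ((x.1 : H) * y.1) * ((x.2 : H) * y.2) = (x.1 : H) * x.2 * ((y.1 : H) * y.2)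
            have hcom := hAC (x.2 : H) ((zpowers_le.2 z.2) x.2.2) (y.1 : H)
            rw [mul_assoc (x.1 : H), mul_assoc (x.1 : H), ← mul_assoc (y.1 : H) (x.2 : H),
              ← hcom, mul_assoc] }
      have hz5 : Nat.card (zpowers (z : H)) = 5 := by
        rw [Nat.card_zpowers, Subgroup.orderOf_coe, hz]
      have hji : Function.Injective j := by
        rw [← MonoidHom.ker_eq_bot_iff, Subgroup.eq_bot_iff_forall]
        rintro ⟨s, w⟩ hsw
        have h1 : (s : H) = (w : H)⁻¹ := eq_inv_of_mul_eq_one_left (MonoidHom.mem_ker.1 hsw)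
        have ho : orderOf (s : H) = 1 := Nat.dvd_one.1 (by
          rw [← show Nat.gcd 24 5 = 1 by norm_num]
          refine Nat.dvd_gcd (hS24 ▸ Subgroup.orderOf_dvd_natCard S s.2) ?_
          rw [h1, orderOf_inv]
          exact hz5 ▸ Subgroup.orderOf_dvd_natCard _ w.2)
        have hs : (s : H) = 1 := orderOf_eq_one_iff.1 ho
        exact Prod.ext (Subtype.ext hs) (Subtype.ext (inv_eq_one.1 (h1.symm.trans hs)))
      have hjb : Function.Bijective j := (Nat.bijective_iff_injective_and_card _).2 ⟨hji, by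
        rw [Nat.card_prod, hS24, hz5, hcard]⟩
      refine (MulEquiv.ofBijective j hjb).symm.trans (eS.prodCongr ?_)
      exact mulEquivOfPrimeCardEq (p := 5) hz5 (by simp)
    · norm_num at hcard
      rw [hcard, h3] at hH
      omega
  · left
    let Q := H ⧸ M
    have hQ : Nat.card Q = 6 := h6
    obtain ⟨O, hO, -, -⟩ := CfsgLib.DegTwoModFour.exists_odd_subgroup (Y := Q) (by rw [hQ]; norm_num)
      (by rw [hQ]; norm_num)
    have := Subgroup.normal_of_index_eq_two hO
    exact ⟨O.comap (QuotientGroup.mk' M), inferInstance, by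
      rw [Subgroup.index_comap_of_surjective O (QuotientGroup.mk'_surjective M), hO]⟩

theorem main {p : ℕ} [Fact p.Prime] {V : Type*} [AddCommGroup V] [Module (ZMod p) V] [Finite V]
    [Nontrivial V] {G : Type*} [Group G] [Finite G] (hsol : Group.IsSolvable G)
    (ρ : G →* (V ≃ₗ[ZMod p] V)) (hρ : Function.Injective ρ)
    (htrans : ∀ v w : V, v ≠ 0 → w ≠ 0 → ∃ g : G, ρ g v = w)
    (hreg : ∀ v : V, v ≠ 0 → ∀ g : G, ρ g v = v → g = 1) :
    ((∃ (F : Type) (_ : Field F) (_ : Fintype F) (e : V ≃+ F),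
        ∀ g : G, ∃ (a : F) (σ : F ≃+* F), ∀ v : V, e (ρ g v) = a * σ (e v)) ∨
      Nat.card V ∈ ({25, 49, 121, 529} : Set ℕ)) ∧
    (p ≠ 2 → (∃ N : Subgroup G, N.Normal ∧ N.index = 2) ∨
      (Nat.card V = 25 ∧ Nonempty (G ≃* Matrix.SpecialLinearGroup (Fin 2) (ZMod 3))) ∨
      (Nat.card V = 121 ∧
        Nonempty (G ≃* Matrix.SpecialLinearGroup (Fin 2) (ZMod 3) × Multiplicative (ZMod 5)))) := by
  classical
  set H := ρ.range
  have ε : G ≃* H := MonoidHom.ofInjective hρ
  let ε : G ≃* H := MonoidHom.ofInjective hρ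
  have hε : ∀ g, ((ε g : H) : V ≃ₗ[ZMod p] V) = ρ g := fun g => MonoidHom.ofInjective_apply hρ
  have : Finite (V ≃ₗ[ZMod p] V) :=
    Finite.of_injective (fun e => (e : V → V)) DFunLike.coe_injective
  have hreg' : ∀ v w : V, v ≠ 0 → w ≠ 0 → ∃! h : H, (h : V ≃ₗ[ZMod p] V) v = w := by
    intro v w hv hw
    obtain ⟨g, hg⟩ := htrans v w hv hw
    refine ⟨ε g, by show ((ε g : H) : V ≃ₗ[ZMod p] V) v = w; rw [hε]; exact hg, fun h hh => ?_⟩
    obtain ⟨g', rfl⟩ := ε.surjective h
    rw [hε] at hh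
    have h1 : ρ (g⁻¹ * g') v = v := by
      rw [map_mul, LinearEquiv.mul_apply, hh, ← hg, ← LinearEquiv.mul_apply, ← map_mul,
        inv_mul_cancel, map_one]
      rfl
    rw [inv_mul_eq_one.1 (hreg v hv _ h1)]
  have hsolH : Group.IsSolvable H :=
    Group.isSolvable_of_isSolvable_injective (f := ε.symm.toMonoidHom) ε.symm.injective
  by_cases hI : ∀ A : Subgroup H, A.Normal → IsCyclic A → ∃ W : Submodule (ZMod p) V, W ≠ ⊥ ∧ W ≠ ⊤ ∧
      ∀ a ∈ A, ∀ v ∈ W, ((a : H) : V ≃ₗ[ZMod p] V) v ∈ W
  · obtain ⟨A, -, hA⟩ := Finite.exists_le_maximal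
      (p := fun B : Subgroup H => B.Normal ∧ IsMulCommutative B)
      (a := (⊥ : Subgroup H)) ⟨inferInstance, inferInstance⟩
    have hS : Setting H A :=
      ⟨hreg', hI, hA.1.1, hA.1.2, fun B h1 h2 h3 => hA.eq_of_ge ⟨h1, h2⟩ h3⟩
    obtain ⟨N, hN⟩ := hS.exists_minimal
    have := Module.Finite.of_finite (R := ZMod p) (M := V)
    obtain ⟨hn2, -, hp⟩ := hN.dim
    refine ⟨Or.inr ?_, fun _ => ?_⟩
    · rw [Module.natCard_eq_pow_finrank (K := ZMod p), Nat.card_zmod, hn2]
      rcases hp hsolH with rfl | rfl | rfl | rfl <;> norm_num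
    rcases exceptional hN hsolH with ⟨M, hM, hMi⟩ | ⟨hV, ⟨f⟩⟩ | ⟨hV, ⟨f⟩⟩
    · exact Or.inl ⟨M.comap ε.toMonoidHom, inferInstance, by
        rw [Subgroup.index_comap_of_surjective M (f := ε.toMonoidHom) ε.surjective, hMi]⟩
    · exact Or.inr (Or.inl ⟨hV, ⟨ε.trans f⟩⟩)
    · exact Or.inr (Or.inr ⟨hV, ⟨ε.trans f⟩⟩)
  · push Not at hI
    obtain ⟨A, hAn, hAc, hA⟩ := hI
    obtain ⟨F, iF, iF', e, he⟩ := exists_semilinear A (fun W hW => by
      by_contra h
      push Not at h
      obtain ⟨a, ha, v, hv, hav⟩ := hA W h.1 h.2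
      exact hav (hW a ha v hv))
    have he' : ∀ g : G, ∃ (a : F) (σ : F ≃+* F), ∀ v : V, e (ρ g v) = a * σ (e v) := fun g => by
      simpa [hε] using he (ε g)
    refine ⟨Or.inl ⟨F, iF, iF', e, he'⟩, fun hp2 => Or.inl ?_⟩
    have hone : ∀ g, (∀ v, ρ g v = v) → g = 1 := fun g hg =>
      hρ (by rw [map_one]; exact LinearEquiv.ext hg)
    refine index_two_of_semilinear e (fun g => ρ g)
      (fun g h v => by rw [map_mul]; rfl) (fun g => (ρ g).injective) hone he' ?_
    -- the order is `|V| - 1`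
    obtain ⟨v₀, hv₀⟩ := exists_ne (0 : V)
    have hb : Function.Bijective (fun g : G => (⟨ρ g v₀, fun h => hv₀
        ((ρ g).map_eq_zero_iff.1 h)⟩ : {v : V // v ≠ 0})) := by
      constructor
      · intro g g' h
        have h1 : ρ g v₀ = ρ g' v₀ := congrArg Subtype.val h
        have h2 : ρ (g'⁻¹ * g) v₀ = v₀ := by
          rw [map_mul, LinearEquiv.mul_apply, h1, ← LinearEquiv.mul_apply, ← map_mul,
            inv_mul_cancel, map_one]
          rfl
        exact (inv_mul_eq_one.1 (hreg v₀ hv₀ _ h2)).symm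
      · rintro ⟨w, hw⟩
        obtain ⟨g, hg⟩ := htrans v₀ w hv₀ hw
        exact ⟨g, Subtype.ext hg⟩
    have := Module.Finite.of_finite (R := ZMod p) (M := V)
    cases nonempty_fintype V
    rw [Nat.card_congr (Equiv.ofBijective _ hb), Nat.card_eq_fintype_card,
      Fintype.card_subtype_compl, Fintype.card_subtype_eq, ← Nat.card_eq_fintype_card,
      Module.natCard_eq_pow_finrank (K := ZMod p), Nat.card_zmod]
    have := ((Fact.out : p.Prime).odd_of_ne_two hp2).pow (n := Module.finrank (ZMod p) V)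
    obtain ⟨c, hc⟩ := this
    omega

end CfsgLib.SemiReg
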