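import Cfsg.Agent.Zassenhaus.PrimeOrderAuto
import Mathlib.LinearAlgebra.Dimension.Finite
import Mathlib.LinearAlgebra.FreeModule.Finite.Matrix
import Mathlib.LinearAlgebra.Matrix.GeneralLinearGroup.Card
import Mathlib.LinearAlgebra.Matrix.GeneralLinearGroup.Defs
import Mathlib.GroupTheory.PGroup
import Mathlib.Algebra.Module.ZMod

/-!
A subgroup of symplectic type in a linear group: its rank and its normaliser.
-/

set_option autoImplicit false
set_option linter.unusedSectionVars false

namespace CfsgLib.SympType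

open Subgroup
open scoped commutatorElement

variable {C : Type*} [Group C] {A B : Subgroup C}

section Elementary

variable {p : ℕ} [Fact p.Prime] {W : Type*} [AddCommGroup W] [Finite W]

theorem finrank_eq [Module (ZMod p) W] {e : ℕ} (hW : Nat.card W = p ^ e) :
    Module.finrank (ZMod p) W = e := by
  have : Module.Finite (ZMod p) W := Module.Finite.of_finite
  refine Nat.pow_right_injective (Fact.out : p.Prime).two_le ?_
  show p ^ _ = p ^ e
  have h := Module.natCard_eq_pow_finrank (K := ZMod p) (V := W)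
  rw [Nat.card_zmod] at h
  exact h.symm.trans hW

theorem le_of_form_add (hexp : ∀ w : W, p • w = 0) {e : ℕ} (hW : Nat.card W = p ^ e) {r : ℕ}
    [Fact r.Prime] (hrp : r ≠ p) (f : W →+ W) (hfr : ∀ w, f^[r] w = w) (hf : ∃ w, f w ≠ w)
    {M : Type*} [AddCommGroup M] (β : W →+ W →+ M) (hβ : ∀ u v, β (f u) (f v) = β u v)
    (hnd : ∀ v, (∀ u, β u v = 0) → v = 0) : ∃ n, 2 * n ≤ e ∧ r ≤ p ^ n + 1 := by
  let _ : Module (ZMod p) W := AddCommGroup.zmodModule (n := p) hexp
  have : Module.Finite (ZMod p) W := Module.Finite.of_finite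
  let T : Module.End (ZMod p) W := f.toZModLinearMap p
  have hTn : ∀ (n : ℕ) (w : W), (T ^ n) w = f^[n] w := fun n w => by
    rw [Module.End.pow_apply]; rfl
  obtain ⟨n, hn, hr⟩ := CfsgLib.PrimeOrderAuto.le_of_form (p := p) hrp (T := T)
    (LinearMap.ext fun w => by rw [hTn, hfr]; rfl)
    (fun h => by
      obtain ⟨w, hw⟩ := hf
      exact hw (LinearMap.congr_fun h w))
    β hβ hnd
  exact ⟨n, finrank_eq hW ▸ hn, hr⟩

theorem card_addEquiv_dvd (hexp : ∀ w : W, p • w = 0) {e : ℕ} (hW : Nat.card W = p ^ e)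
    {G : Type*} [Group G] (φ : G → W →+ W) (hone : ∀ w, φ 1 w = w)
    (hmul : ∀ g h w, φ (g * h) w = φ g (φ h w)) (hinj : Function.Injective φ) :
    Nat.card G ∣ ∏ i : Fin e, (p ^ e - p ^ (i : ℕ)) := by
  let _ : Module (ZMod p) W := AddCommGroup.zmodModule (n := p) hexp
  have : Module.Finite (ZMod p) W := Module.Finite.of_finite
  let bs := Module.finBasisOfFinrankEq (ZMod p) W (finrank_eq hW)
  have hGL : Nat.card (Module.End (ZMod p) W)ˣ = ∏ i : Fin e, (p ^ e - p ^ (i : ℕ)) := by
    rw [Nat.card_congr (Units.mapEquiv (LinearMap.toMatrixAlgEquiv bs).toMulEquiv).toEquiv]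
    show Nat.card (GL (Fin e) (ZMod p)) = _
    rw [Matrix.card_GL_field, ZMod.card]
  let ψ : G →* Module.End (ZMod p) W :=
    { toFun := fun g => (φ g).toZModLinearMap p
      map_one' := LinearMap.ext hone
      map_mul' := fun g h => LinearMap.ext (hmul g h) }
  have : Finite (Module.End (ZMod p) W) :=
    Finite.of_injective (fun f => (f : W → W)) DFunLike.coe_injective
  rw [← hGL]
  refine Subgroup.card_dvd_of_injective ψ.toHomUnits fun g g' h => hinj (AddMonoidHom.ext fun w => ?_)
  exact LinearMap.congr_fun (congrArg Units.val h) w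

/-- The bound on the order of an automorphism preserving a form, multiplicatively. -/
theorem le_of_form_mul {Q : Type*} [CommGroup Q] [Finite Q] (hexp : ∀ q : Q, q ^ p = 1) {e : ℕ}
    (hQ : Nat.card Q = p ^ e) {r : ℕ} [Fact r.Prime] (hrp : r ≠ p) (f : Q →* Q)
    (hfr : ∀ q, f^[r] q = q) (hf : ∃ q, f q ≠ q) {M : Type*} [CommGroup M] (β : Q →* Q →* M)
    (hβ : ∀ u v, β (f u) (f v) = β u v) (hnd : ∀ v, (∀ u, β u v = 1) → v = 1) :
    ∃ n, 2 * n ≤ e ∧ r ≤ p ^ n + 1 :=
  le_of_form_add (W := Additive Q) (fun w => Additive.toMul.injective (hexp (Additive.toMul w)))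
    ((Nat.card_congr Additive.toMul).trans hQ) hrp (MonoidHom.toAdditive f)
    (fun w => congrArg Additive.ofMul (hfr (Additive.toMul w)))
    (hf.elim fun q hq => ⟨Additive.ofMul q, fun h => hq (Additive.ofMul.injective h)⟩)
    (M := Additive M)
    (AddMonoidHom.mk' (fun u => MonoidHom.toAdditive (β (Additive.toMul u))) fun u v => by
      ext w
      show Additive.ofMul (β (Additive.toMul u * Additive.toMul v) (Additive.toMul w)) = _
      rw [map_mul]; rfl)
    (fun u v => congrArg Additive.ofMul (hβ (Additive.toMul u) (Additive.toMul v)))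
    (fun v hv => Additive.toMul.injective
      (hnd (Additive.toMul v) fun u => congrArg Additive.toMul (hv (Additive.ofMul u))))

/-- The automorphisms of an elementary abelian group. -/
theorem card_aut_dvd {Q : Type*} [CommGroup Q] [Finite Q] (hexp : ∀ q : Q, q ^ p = 1) {e : ℕ}
    (hQ : Nat.card Q = p ^ e) : Nat.card (MulAut Q) ∣ ∏ i : Fin e, (p ^ e - p ^ (i : ℕ)) :=
  card_addEquiv_dvd (W := Additive Q) (fun w => Additive.toMul.injective (hexp (Additive.toMul w)))
    ((Nat.card_congr Additive.toMul).trans hQ) (fun g : MulAut Q => MonoidHom.toAdditive g.toMonoidHom)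
    (fun _ => rfl) (fun _ _ _ => rfl)
    (fun g h e => MulEquiv.ext fun q =>
      Additive.ofMul.injective (DFunLike.congr_fun e (Additive.ofMul q)))

end Elementary

theorem comm_mul (hA : A ≤ center C) {b c d : C} (h : ⁅b, d⁆ ∈ A) :
    ⁅b, c * d⁆ = ⁅b, c⁆ * ⁅b, d⁆ := by
  have h1 : c * ⁅b, d⁆ = ⁅b, d⁆ * c := mem_center_iff.1 (hA h) c
  calc ⁅b, c * d⁆ = ⁅b, c⁆ * (c * ⁅b, d⁆) * c⁻¹ := by simp only [commutatorElement_def]; group
    _ = ⁅b, c⁆ * (⁅b, d⁆ * c) * c⁻¹ := by rw [h1]
    _ = ⁅b, c⁆ * ⁅b, d⁆ := by group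

theorem commute_of_eq (hA : A ≤ center C) {d b c : C} (h : ⁅d, b⁆ ∈ A) (he : ⁅d, b⁆ = ⁅d, c⁆) :
    d * (b⁻¹ * c) = b⁻¹ * c * d := by
  have h1 : ∀ x, x * ⁅d, b⁆ = ⁅d, b⁆ * x := fun x => mem_center_iff.1 (hA h) x
  have hb : d * b = ⁅d, b⁆ * (b * d) := by simp only [commutatorElement_def]; group
  have hc : d * c = ⁅d, b⁆ * (c * d) := by rw [he]; simp only [commutatorElement_def]; group
  apply mul_left_cancel (a := b)
  calc b * (d * (b⁻¹ * c)) = b * d * (b⁻¹ * c) := by group
    _ = ⁅d, b⁆⁻¹ * (d * b) * (b⁻¹ * c) := by rw [hb]; group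
    _ = ⁅d, b⁆⁻¹ * (d * c) := by group
    _ = c * d := by rw [hc]; group
    _ = b * (b⁻¹ * c * d) := by group

theorem pow_conj_eq (hA : A ≤ center C) {x b : C} (h : ⁅x, b⁆ ∈ A) (n : ℕ) :
    x ^ n * b * (x ^ n)⁻¹ = ⁅x, b⁆ ^ n * b := by
  induction n with
  | zero => simp
  | succ n ih =>
    have h1 : x * ⁅x, b⁆ ^ n = ⁅x, b⁆ ^ n * x := mem_center_iff.1 (pow_mem (hA h) n) x
    calc x ^ (n + 1) * b * (x ^ (n + 1))⁻¹ = x * (x ^ n * b * (x ^ n)⁻¹) * x⁻¹ := by
          rw [pow_succ']; group
      _ = ⁅x, b⁆ ^ n * (x * b * x⁻¹) := by rw [ih, ← mul_assoc x, h1]; group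
      _ = ⁅x, b⁆ ^ (n + 1) * b := by
          rw [pow_succ, show x * b * x⁻¹ = ⁅x, b⁆ * b by simp only [commutatorElement_def]; group,
            mul_assoc]

/-- The standing hypotheses. -/
structure Data (p : ℕ) (A B : Subgroup C) : Prop where
  central : A ≤ center C
  le : A ≤ B
  ne : B ≠ A
  normal : B.Normal
  pow_mem : ∀ b ∈ B, b ^ p ∈ A
  comm_mem : ∀ b ∈ B, ∀ c ∈ B, ⁅b, c⁆ ∈ A
  center_le : ∀ b ∈ B, (∀ c ∈ B, c * b = b * c) → b ∈ A

variable {p : ℕ} [Fact p.Prime] [Finite C]

theorem Data.normalQ (D : Data p A B) : (A.subgroupOf B).Normal :=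
  ⟨fun a ha g => by
    rw [mem_subgroupOf] at ha ⊢
    rw [Subgroup.coe_mul, Subgroup.coe_mul, Subgroup.coe_inv, mem_center_iff.1 (D.central ha) g,
      mul_inv_cancel_right]
    exact ha⟩

theorem Data.dvd_card (D : Data p A B) : p ∣ Nat.card A := by
  obtain ⟨b, hb, hbA⟩ : ∃ b ∈ B, b ∉ A := by
    by_contra h
    push Not at h
    exact D.ne (le_antisymm h D.le)
  obtain ⟨c, hc, hbc⟩ : ∃ c ∈ B, c * b ≠ b * c := by
    by_contra h
    push Not at h
    exact hbA (D.center_le b hb h)
  have hne : ⁅c, b⁆ ≠ 1 := fun h => hbc (commutatorElement_eq_one_iff_mul_comm.1 h)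
  have hpow : ∀ n : ℕ, ⁅c, b ^ n⁆ = ⁅c, b⁆ ^ n := by
    intro n
    induction n with
    | zero => simp
    | succ n ih => rw [pow_succ, comm_mul D.central (D.comm_mem c hc b hb), ih, pow_succ]
  have h1 : ⁅c, b⁆ ^ p = 1 := by
    rw [← hpow, commutatorElement_eq_one_iff_mul_comm]
    exact mem_center_iff.1 (D.central (D.pow_mem b hb)) c
  have := orderOf_eq_prime h1 hne
  exact this ▸ Subgroup.orderOf_dvd_natCard A (D.comm_mem c hc b hb)

theorem Data.card_quotient (D : Data p A B) : ∃ e, 2 ≤ e ∧ A.relIndex B = p ^ e := by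
  classical
  have := D.normalQ
  have hQ : IsPGroup p (B ⧸ A.subgroupOf B) := fun q => by
    obtain ⟨b, rfl⟩ := QuotientGroup.mk_surjective q
    exact ⟨1, by rw [pow_one, ← QuotientGroup.mk_pow, QuotientGroup.eq_one_iff, mem_subgroupOf];
                 exact D.pow_mem b b.2⟩
  obtain ⟨e, he⟩ := IsPGroup.iff_card.1 hQ
  refine ⟨e, ?_, he⟩
  by_contra hlt
  have : IsCyclic (B ⧸ A.subgroupOf B) := by
    rcases (show e = 0 ∨ e = 1 by omega) with rfl | rfl
    · rw [pow_zero] at he
      have := (Nat.card_eq_one_iff_unique.1 he).1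
      infer_instance
    · exact isCyclic_of_prime_card (p := p) (by rw [he, pow_one])
  obtain ⟨g, hg⟩ := this.exists_generator
  obtain ⟨g, rfl⟩ := QuotientGroup.mk_surjective g
  have hform : ∀ b : B, ∃ (i : ℤ) (a : C), a ∈ A ∧ (b : C) = (g : C) ^ i * a := by
    intro b
    obtain ⟨i, hi⟩ := mem_zpowers_iff.1 (hg (QuotientGroup.mk b))
    rw [← QuotientGroup.mk_zpow, QuotientGroup.eq, mem_subgroupOf] at hi
    simp only [Subgroup.coe_mul, Subgroup.coe_inv, SubgroupClass.coe_zpow] at hi
    exact ⟨i, _, hi, by rw [mul_inv_cancel_left]⟩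
  refine D.ne (le_antisymm (fun b hb => D.center_le b hb fun c hc => ?_) D.le)
  obtain ⟨i, a, ha, h1⟩ := hform ⟨b, hb⟩
  obtain ⟨j, a', ha', h2⟩ := hform ⟨c, hc⟩
  simp only at h1 h2
  rw [h1, h2]
  have hca : ∀ x, Commute x a := fun x => mem_center_iff.1 (D.central ha) x
  have hca' : ∀ x, Commute x a' := fun x => mem_center_iff.1 (D.central ha') x
  exact (Commute.mul_left ((Commute.zpow_zpow (Commute.refl (g : C)) j i).mul_right (hca _))
    (((hca' _).symm.mul_right (hca _)))).eq

/-- The order of an operator moving `B` is bounded by the rank. -/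
theorem Data.le_rank (D : Data p A B) {r : ℕ} [Fact r.Prime] {x : C} (hx : orderOf x = r)
    (hrA : ¬ r ∣ Nat.card A) (hxB : x ∉ centralizer (B : Set C)) {e : ℕ}
    (he : A.relIndex B = p ^ e) : ∃ n, 2 * n ≤ e ∧ r ≤ p ^ n + 1 := by
  classical
  have := D.normalQ
  have := D.normal
  have hrp : r ≠ p := fun h => hrA (h ▸ D.dvd_card)
  let Q := B ⧸ A.subgroupOf B
  let _ : CommGroup Q :=
    { (inferInstance : Group Q) with
      mul_comm := fun a b => by
        obtain ⟨a, rfl⟩ := QuotientGroup.mk_surjective a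
        obtain ⟨b, rfl⟩ := QuotientGroup.mk_surjective b
        rw [← QuotientGroup.mk_mul, ← QuotientGroup.mk_mul, QuotientGroup.eq, mem_subgroupOf]
        simp only [Subgroup.coe_mul, Subgroup.coe_inv]
        have h := D.comm_mem _ (inv_mem b.2) _ (inv_mem a.2)
        rw [commutatorElement_def, inv_inv, inv_inv] at h
        simpa [mul_assoc] using h }
  have hexp : ∀ q : Q, q ^ p = 1 := by
    intro q
    obtain ⟨b, rfl⟩ := QuotientGroup.mk_surjective q
    rw [← QuotientGroup.mk_pow, QuotientGroup.eq_one_iff, mem_subgroupOf]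
    exact D.pow_mem b b.2
  -- conjugation by `x`
  let cB : B →* B := (MulAut.conjNormal x : MulAut B).toMonoidHom
  let f : Q →* Q := QuotientGroup.map _ _ cB (fun a ha => by
    rw [mem_comap, mem_subgroupOf]
    rw [mem_subgroupOf] at ha
    show x * (a : C) * x⁻¹ ∈ A
    rw [mem_center_iff.1 (D.central ha) x, mul_inv_cancel_right]
    exact ha)
  have hfmk : ∀ b : B, f (QuotientGroup.mk b : Q) = QuotientGroup.mk (cB b) := fun _ => rfl
  have hfpow : ∀ (n : ℕ) (b : B),
      f^[n] (QuotientGroup.mk b : Q) = QuotientGroup.mk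
        (⟨x ^ n * (b : C) * (x ^ n)⁻¹, D.normal.conj_mem _ b.2 _⟩ : B) := by
    intro n
    induction n with
    | zero => intro b; exact congrArg QuotientGroup.mk (Subtype.ext (by simp))
    | succ n ih =>
      intro b
      rw [Function.iterate_succ_apply', ih b, hfmk]
      exact congrArg QuotientGroup.mk (Subtype.ext (by
        show x * (x ^ n * (b : C) * (x ^ n)⁻¹) * x⁻¹ = x ^ (n + 1) * (b : C) * (x ^ (n + 1))⁻¹
        rw [pow_succ']; group))
  have hfr : ∀ q, f^[r] q = q := by
    intro q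
    obtain ⟨b, rfl⟩ := QuotientGroup.mk_surjective q
    rw [hfpow r b]
    refine congrArg QuotientGroup.mk (Subtype.ext ?_)
    show x ^ r * (b : C) * (x ^ r)⁻¹ = b
    rw [← hx, pow_orderOf_eq_one, one_mul, inv_one, mul_one]
  have hf : ∃ q, f q ≠ q := by
    by_contra hf1
    push Not at hf1
    refine hxB (mem_centralizer_iff.2 fun b hb => ?_)
    have h := hfmk ⟨b, hb⟩
    rw [hf1] at h
    have h' := (QuotientGroup.eq (s := A.subgroupOf B)).1 h.symm
    rw [mem_subgroupOf] at h'
    change (x * b * x⁻¹)⁻¹ * b ∈ A at h'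
    have hmem : ⁅x, b⁆ ∈ A := by
      have h3 := mem_center_iff.1 (D.central h') b
      have h5 : ⁅x, b⁆ = (b * ((x * b * x⁻¹)⁻¹ * b) * b⁻¹)⁻¹ := by
        simp only [commutatorElement_def]; group
      rw [h5, h3, mul_inv_cancel_right]
      exact inv_mem h'
    have h6 := pow_conj_eq D.central hmem r
    rw [← hx, pow_orderOf_eq_one, one_mul, inv_one, mul_one, right_eq_mul] at h6
    rw [hx] at h6
    have h7 : orderOf ⁅x, b⁆ = 1 := Nat.eq_one_of_dvd_coprimes
      ((Fact.out : r.Prime).coprime_iff_not_dvd.2 hrA) (orderOf_dvd_of_pow_eq_one h6)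
      (Subgroup.orderOf_dvd_natCard A hmem)
    exact (commutatorElement_eq_one_iff_mul_comm.1 (orderOf_eq_one_iff.1 h7)).symm
  -- the commutator form
  let _ : CommGroup A :=
    { (inferInstance : Group A) with
      mul_comm := fun a b => Subtype.ext (mem_center_iff.1 (D.central b.2) a) }
  let β₀ : B → B →* A := fun b => MonoidHom.mk' (fun c => ⟨⁅(b : C), (c : C)⁆, D.comm_mem _ b.2 _ c.2⟩)
    fun c d => Subtype.ext (comm_mul D.central (D.comm_mem _ b.2 _ d.2))
  have hker : ∀ b, A.subgroupOf B ≤ (β₀ b).ker := fun b a ha => Subtype.ext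
    (commutatorElement_eq_one_iff_mul_comm.2 (mem_center_iff.1 (D.central ha) b))
  let β₁ : B → Q →* A := fun b => QuotientGroup.lift _ (β₀ b) (hker b)
  have hβ₁mul : ∀ b b', β₁ (b * b') = β₁ b * β₁ b' := fun b b' => by
    refine QuotientGroup.monoidHom_ext _ (MonoidHom.ext fun c => Subtype.ext ?_)
    show ⁅((b : C) * b'), (c : C)⁆ = ⁅(b : C), (c : C)⁆ * ⁅(b' : C), (c : C)⁆
    rw [← inv_inj, commutatorElement_inv, _root_.mul_inv_rev, commutatorElement_inv,
      commutatorElement_inv, comm_mul D.central (D.comm_mem _ c.2 _ b'.2)]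
    exact mem_center_iff.1 (D.central (D.comm_mem _ c.2 _ b'.2)) _
  let β₂ : Q →* (Q →* A) := QuotientGroup.lift _ (MonoidHom.mk' β₁ hβ₁mul) fun a ha => by
    refine QuotientGroup.monoidHom_ext _ (MonoidHom.ext fun c => Subtype.ext ?_)
    exact commutatorElement_eq_one_iff_mul_comm.2 (mem_center_iff.1 (D.central ha) c).symm
  exact le_of_form_mul hexp he hrp f hfr hf β₂
    (fun u v => by
      obtain ⟨b, rfl⟩ := QuotientGroup.mk_surjective u
      obtain ⟨c, rfl⟩ := QuotientGroup.mk_surjective v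
      show β₀ (cB b) (cB c) = β₀ b c
      refine Subtype.ext ?_
      show ⁅x * (b : C) * x⁻¹, x * (c : C) * x⁻¹⁆ = ⁅(b : C), (c : C)⁆
      rw [← conjugate_commutatorElement, mem_center_iff.1 (D.central (D.comm_mem _ b.2 _ c.2)) x,
        mul_inv_cancel_right])
    (fun v hv => by
      obtain ⟨c, rfl⟩ := QuotientGroup.mk_surjective v
      rw [QuotientGroup.eq_one_iff, mem_subgroupOf]
      refine D.center_le c c.2 fun d hd => commutatorElement_eq_one_iff_mul_comm.1 ?_
      exact congrArg Subtype.val (hv (QuotientGroup.mk (⟨d, hd⟩ : B))))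

/-- Linear independence of the coset representatives, and the normaliser in the extremal case. -/
theorem Data.linear (D : Data p A B) {L V : Type*} [Field L] [AddCommGroup V] [Module L V]
    [Module.Finite L V] [Nontrivial V] (Φ : C →* Module.End L V) (hΦ : Function.Injective Φ)
    (hscalar : ∀ a ∈ A, ∃ l : L, Φ a = l • 1)
    (hmax : IsMulCommutative (centralizer (B : Set C)) → centralizer (B : Set C) ≤ A) {e : ℕ}
    (he : A.relIndex B = p ^ e) :
    p ^ e ≤ Module.finrank L V * Module.finrank L V ∧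
    (p ^ e = Module.finrank L V * Module.finrank L V →
      Nat.card C ∣ Nat.card A * p ^ e * ∏ i : Fin e, (p ^ e - p ^ (i : ℕ))) := by
  classical
  have := D.normalQ
  have := D.normal
  choose! ll hll using hscalar
  have hlinj : ∀ a ∈ A, ∀ a' ∈ A, ll a = ll a' → a = a' := fun a ha a' ha' h =>
    hΦ (by rw [hll a ha, hll a' ha', h])
  let Q := B ⧸ A.subgroupOf B
  have hQcard : Nat.card Q = p ^ e := he
  let b : Q → B := fun q => q.out
  have hbq : ∀ q : Q, (QuotientGroup.mk (b q) : Q) = q := fun q => QuotientGroup.out_eq' q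
  let u : Q → Module.End L V := fun q => Φ (b q)
  let K : C → (Module.End L V →ₗ[L] Module.End L V) := fun c =>
    (LinearMap.mulLeft L (Φ c)).comp (LinearMap.mulRight L (Φ c⁻¹))
  have hK : ∀ c y, ⁅c, y⁆ ∈ A → K c (Φ y) = ll ⁅c, y⁆ • Φ y := fun c y h => by
    show Φ c * (Φ y * Φ c⁻¹) = _
    rw [← map_mul, ← map_mul, ← mul_assoc,
      show c * y * c⁻¹ = ⁅c, y⁆ * y by simp only [commutatorElement_def]; group, map_mul, hll _ h,
      smul_mul_assoc, one_mul]
  have hbmem : ∀ (d : C), d ∈ B → ∀ q, ⁅d, (b q : C)⁆ ∈ A := fun d hd q =>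
    D.comm_mem d hd _ (b q).2
  have hsep : ∀ q q' : Q, q ≠ q' → ∃ d ∈ B, ll ⁅d, (b q : C)⁆ ≠ ll ⁅d, (b q' : C)⁆ := by
    intro q q' hne
    by_contra hall
    push Not at hall
    refine hne ?_
    rw [← hbq q, ← hbq q', QuotientGroup.eq, mem_subgroupOf]
    simp only [Subgroup.coe_mul, Subgroup.coe_inv]
    exact D.center_le _ (mul_mem (inv_mem (b q).2) (b q').2) fun d hd =>
      commute_of_eq D.central (hbmem d hd q) (hlinj _ (hbmem d hd q) _ (hbmem d hd q') (hall d hd))
  have hne0 : ∀ y : C, Φ y ≠ 0 := fun y h => by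
    have h1 : Φ (y * y⁻¹) = 0 := by rw [map_mul, h, zero_mul]
    rw [mul_inv_cancel, map_one] at h1
    exact one_ne_zero h1
  have hind : LinearIndependent L u := by
    rw [linearIndependent_iff']
    intro s
    induction s using Finset.induction_on with
    | empty => intro g _ i hi; simp at hi
    | insert q₀ s hq₀ ih =>
      intro g hg
      have hs : ∀ q ∈ s, g q = 0 := by
        intro q hq
        obtain ⟨d, hd, hne⟩ := hsep q q₀ (fun h => hq₀ (h ▸ hq))
        have h1 := congrArg (fun y => K d y - ll ⁅d, (b q₀ : C)⁆ • y) hg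
        simp only [map_sum, map_smul, Finset.smul_sum, ← Finset.sum_sub_distrib, map_zero,
          smul_zero, sub_zero, u, hK _ _ (hbmem d hd _)] at h1
        rw [Finset.sum_insert hq₀, smul_comm, sub_self, zero_add] at h1
        have h2 := ih (fun i => g i * (ll ⁅d, (b i : C)⁆ - ll ⁅d, (b q₀ : C)⁆)) (by
          rw [← h1]
          refine Finset.sum_congr rfl fun i _ => ?_
          rw [mul_sub, sub_smul, smul_smul, smul_smul, mul_comm (ll _) (g i)]) q hq
        exact (mul_eq_zero.1 h2).resolve_right (sub_ne_zero.2 hne)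
      intro i hi
      rcases Finset.mem_insert.1 hi with rfl | hi
      · rw [Finset.sum_insert hq₀, Finset.sum_eq_zero (fun j hj => by rw [hs j hj, zero_smul]),
          add_zero] at hg
        exact (smul_eq_zero.1 hg).resolve_right (hne0 _)
      · exact hs i hi
  cases nonempty_fintype Q
  have hfr : Module.finrank L (Module.End L V) = Module.finrank L V * Module.finrank L V :=
    Module.finrank_linearMap L L V V
  have hle := hind.fintype_card_le_finrank
  rw [hfr, ← Nat.card_eq_fintype_card, hQcard] at hle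
  refine ⟨hle, fun heq => ?_⟩
  have hspan : Submodule.span L (Set.range u) = ⊤ :=
    hind.span_eq_top_of_card_eq_finrank (by rw [hfr, ← Nat.card_eq_fintype_card, hQcard, heq])
  -- a centralising element is central
  have hcen : ∀ c ∈ centralizer (B : Set C), ∀ y : C, c * y = y * c := by
    intro c hc y
    have h : ∀ z : Module.End L V, Φ c * z = z * Φ c := by
      intro z
      have hz : z ∈ Submodule.span L (Set.range u) := hspan ▸ Submodule.mem_top
      induction hz using Submodule.span_induction with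
      | mem z hz =>
        obtain ⟨q, rfl⟩ := hz
        show Φ c * Φ (b q : C) = Φ (b q : C) * Φ c
        rw [← map_mul, ← map_mul, (mem_centralizer_iff.1 hc) _ (b q).2]
      | zero => rw [mul_zero, zero_mul]
      | add z z' _ _ h h' => rw [mul_add, add_mul, h, h']
      | smul a z _ h => rw [mul_smul_comm, smul_mul_assoc, h]
    exact hΦ (by rw [map_mul, map_mul]; exact h _)
  have hCA : centralizer (B : Set C) ≤ A :=
    hmax (.of_setLike_mul_comm fun a ha y _ => hcen a ha y)
  -- the kernel of the action on `B / A` is `B`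
  have hker : ∀ c : C, (∀ d ∈ B, ⁅d, c⁆ ∈ A) → c ∈ B := by
    intro c hc
    obtain ⟨g, hg⟩ := (Submodule.mem_span_range_iff_exists_fun L).1
      (hspan ▸ Submodule.mem_top : Φ c ∈ Submodule.span L (Set.range u))
    obtain ⟨q, hq⟩ : ∃ q, g q ≠ 0 := by
      by_contra h
      push Not at h
      exact hne0 c (by rw [← hg]; exact Finset.sum_eq_zero fun i _ => by rw [h i, zero_smul])
    have h : (b q : C)⁻¹ * c ∈ A := hCA (mem_centralizer_iff.2 fun d hd => by
      refine commute_of_eq D.central (hbmem d hd q) (hlinj _ (hbmem d hd q) _ (hc d hd) ?_)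
      have h1 : K d (Φ c) = ll ⁅d, c⁆ • Φ c := hK _ _ (hc d hd)
      rw [← hg] at h1
      simp only [map_sum, map_smul, Finset.smul_sum, u, hK _ _ (hbmem d hd _)] at h1
      rw [← sub_eq_zero, ← Finset.sum_sub_distrib] at h1
      have h2 := Fintype.linearIndependent_iff.1 hind
        (fun i => g i * (ll ⁅d, (b i : C)⁆ - ll ⁅d, c⁆)) (by
          rw [← h1]
          refine Finset.sum_congr rfl fun i _ => ?_
          show _ • Φ (b i : C) = _
          rw [mul_sub, sub_smul, smul_smul, smul_smul, mul_comm (ll _) (g i)]) q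
      exact sub_eq_zero.1 ((mul_eq_zero.1 h2).resolve_left hq))
    have := mul_mem (b q).2 (D.le h)
    rwa [mul_inv_cancel_left] at this
  -- the action
  let _ : CommGroup Q :=
    { (inferInstance : Group Q) with
      mul_comm := fun a c => by
        obtain ⟨a, rfl⟩ := QuotientGroup.mk_surjective a
        obtain ⟨c, rfl⟩ := QuotientGroup.mk_surjective c
        rw [← QuotientGroup.mk_mul, ← QuotientGroup.mk_mul, QuotientGroup.eq, mem_subgroupOf]
        simp only [Subgroup.coe_mul, Subgroup.coe_inv]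
        have h := D.comm_mem _ (inv_mem c.2) _ (inv_mem a.2)
        rw [commutatorElement_def, inv_inv, inv_inv] at h
        simpa [mul_assoc] using h }
  have hexp : ∀ q : Q, q ^ p = 1 := by
    intro q
    obtain ⟨a, rfl⟩ := QuotientGroup.mk_surjective q
    rw [← QuotientGroup.mk_pow, QuotientGroup.eq_one_iff, mem_subgroupOf]
    exact D.pow_mem a a.2
  have hAB : ∀ c : C, (A.subgroupOf B).map (MulAut.conjNormal c : MulAut B).toMonoidHom =
      A.subgroupOf B := fun c => by
    refine le_antisymm ?_ fun a ha => ?_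
    · rintro _ ⟨a, ha, rfl⟩
      rw [mem_subgroupOf]
      show c * (a : C) * c⁻¹ ∈ A
      rw [mem_center_iff.1 (D.central (mem_subgroupOf.1 ha)) c, mul_inv_cancel_right]
      exact mem_subgroupOf.1 ha
    · refine ⟨a, ha, Subtype.ext ?_⟩
      show c * (a : C) * c⁻¹ = a
      rw [mem_center_iff.1 (D.central (mem_subgroupOf.1 ha)) c, mul_inv_cancel_right]
  let act : C →* MulAut Q :=
    MonoidHom.mk' (fun c => QuotientGroup.congr _ _ (MulAut.conjNormal c : MulAut B) (hAB c))
      fun c d => MulEquiv.ext fun q => by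
        obtain ⟨a, rfl⟩ := QuotientGroup.mk_surjective q
        show (QuotientGroup.mk ((MulAut.conjNormal (c * d) : MulAut B) a) : Q) =
          QuotientGroup.mk ((MulAut.conjNormal c : MulAut B) ((MulAut.conjNormal d : MulAut B) a))
        rw [map_mul]; rfl
  have hkB : act.ker ≤ B := by
    intro c hc
    refine hker c fun d hd => ?_
    have h2 := congrArg (fun g : MulAut Q => g (QuotientGroup.mk (⟨d, hd⟩ : B)))
      (MonoidHom.mem_ker.1 hc)
    change (QuotientGroup.mk ((MulAut.conjNormal c : MulAut B) ⟨d, hd⟩) : Q) =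
      QuotientGroup.mk (⟨d, hd⟩ : B) at h2
    rw [QuotientGroup.eq, mem_subgroupOf] at h2
    change (c * d * c⁻¹)⁻¹ * d ∈ A at h2
    have h3 := mem_center_iff.1 (D.central h2) d
    rw [show ⁅d, c⁆ = d * ((c * d * c⁻¹)⁻¹ * d) * d⁻¹ by simp only [commutatorElement_def]; group,
      h3, mul_inv_cancel_right]
    exact h2
  have hdvd : Nat.card C ∣ Nat.card B * Nat.card (MulAut Q) := by
    rw [← act.ker.card_mul_index, Subgroup.index_ker]
    exact mul_dvd_mul (Subgroup.card_dvd_of_le hkB) (Subgroup.card_subgroup_dvd_card _)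
  have hB : Nat.card B = Nat.card A * p ^ e := by
    rw [← he, ← Nat.card_congr (Subgroup.subgroupOfEquivOfLe D.le).toEquiv]
    exact ((A.subgroupOf B).card_mul_index).symm
  rw [hB] at hdvd
  exact hdvd.trans (mul_dvd_mul dvd_rfl (card_aut_dvd hexp hQcard))

end CfsgLib.SympType
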