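import Cfsg.Agent.Zassenhaus.TransFrame
import Cfsg.Agent.Zassenhaus.SymplecticType
import Cfsg.Agent.Zassenhaus.SemilinearSolvable
import Cfsg.Agent.S2904

/-!
Solvable linear groups transitive on the non-zero vectors (Huppert).
-/

set_option autoImplicit false
set_option linter.unusedSectionVars false

namespace CfsgLib.Huppert

open Subgroup
open scoped commutatorElement

/-- The degree and field of a non-semilinear group. -/
theorem arith {q n : ℕ} (hq : q.Prime) (hodd : q ≠ 2) (hn : 1 ≤ n) (hr : (2 ^ n + 1).Prime)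
    (h : q ^ 2 ^ n - 1 ∣ (q - 1) * (2 ^ (2 * n) * ∏ i : Fin (2 * n), (2 ^ (2 * n) - 2 ^ (i : ℕ)))) :
    n = 1 ∨ (n = 2 ∧ q = 3) := by
  have hq3 : 3 ≤ q := by have := hq.two_le; omega
  have hmod2 : q % 2 = 1 := hq.eq_two_or_odd.resolve_left hodd
  -- an odd prime divisor cannot occur when `-1` is not the relevant power
  have key : ∀ (s : ℕ) (N l : ℕ), q ^ s + 1 = 2 * N → l.Prime →
      (∀ x : ZMod l, x ^ s + 1 ≠ 0) → N.Coprime l := by
    intro s N l hN hl hres
    refine ((Nat.Prime.coprime_iff_not_dvd hl).2 fun hd => hres (q : ZMod l) ?_).symm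
    have h1 : (((q ^ s + 1 : ℕ)) : ZMod l) = 0 :=
      (ZMod.natCast_eq_zero_iff _ _).2 (hN ▸ hd.mul_left 2)
    simpa using h1
  rcases (show n = 1 ∨ n = 2 ∨ n = 3 ∨ n = 4 ∨ n = 5 ∨ n = 6 ∨ n = 7 ∨ 8 ≤ n by omega) with
    rfl | rfl | rfl | rfl | rfl | rfl | rfl | h8
  · exact Or.inl rfl
  · refine Or.inr ⟨rfl, ?_⟩
    rw [show (∏ i : Fin (2 * 2), (2 ^ (2 * 2) - 2 ^ (i : ℕ))) = 20160 by decide] at h
    have hfac : q ^ 2 ^ 2 - 1 = (q - 1) * ((q + 1) * (q ^ 2 + 1)) := by
      zify [Nat.one_le_pow (2 ^ 2) q hq.pos, hq.one_le]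
      ring
    rw [hfac] at h
    have h2 := (Nat.mul_dvd_mul_iff_left (by omega : 0 < q - 1)).1 h
    have h3 : q ^ 2 + 1 ∣ 2 ^ (2 * 2) * 20160 := (Dvd.intro_left _ rfl).trans h2
    obtain ⟨t, ht⟩ : ∃ t, q = 2 * t + 1 := ⟨q / 2, by omega⟩
    have hN : q ^ 2 + 1 = 2 * (2 * t * t + 2 * t + 1) := by subst ht; ring
    set N := 2 * t * t + 2 * t + 1 with hNdef
    rw [hN, show (2 : ℕ) ^ (2 * 2) * 20160 = 2 * ((2 ^ 9 * 63) * 5) by norm_num] at h3
    have h4 := (Nat.mul_dvd_mul_iff_left two_pos).1 h3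
    have hc : N.Coprime (2 ^ 9 * (3 * 3 * 7)) := by
      refine Nat.Coprime.mul_right (Nat.Coprime.pow_right 9 ?_) (Nat.Coprime.mul_right
        (Nat.Coprime.mul_right (key 2 N 3 hN Nat.prime_three (by decide))
          (key 2 N 3 hN Nat.prime_three (by decide))) (key 2 N 7 hN (by norm_num) (by decide)))
      exact Nat.coprime_two_right.2 ⟨t * t + t, by rw [hNdef]; ring⟩
    have h5 := Nat.le_of_dvd (by norm_num) (hc.dvd_of_dvd_mul_left h4)
    have ht1 : t ≤ 1 := by
      by_contra hlt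
      have : 2 * t * t ≥ 2 * t * 2 := Nat.mul_le_mul_left _ (by omega)
      omega
    omega
  · norm_num at hr
  · exfalso
    rw [show (∏ i : Fin (2 * 4), (2 ^ (2 * 4) - 2 ^ (i : ℕ))) = 2 ^ 28 * 19923090075 by decide +kernel] at h
    have hfac : q ^ 2 ^ 4 - 1 = (q - 1) * (((q + 1) * (q ^ 2 + 1) * (q ^ 4 + 1)) * (q ^ 8 + 1)) := by
      zify [Nat.one_le_pow (2 ^ 4) q hq.pos, hq.one_le]
      ring
    rw [hfac] at h
    have h2 := (Nat.mul_dvd_mul_iff_left (by omega : 0 < q - 1)).1 h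
    have h3 : q ^ 8 + 1 ∣ 2 ^ (2 * 4) * (2 ^ 28 * 19923090075) := (Dvd.intro_left _ rfl).trans h2
    obtain ⟨N, hN⟩ : ∃ N, q ^ 8 + 1 = 2 * N := by
      obtain ⟨a, ha⟩ := (Nat.odd_iff.2 hmod2).pow (n := 8)
      exact ⟨a + 1, by omega⟩
    have hbig : 18 ≤ N := by
      have : 3 ^ 8 ≤ q ^ 8 := Nat.pow_le_pow_left hq3 8
      omega
    have hNodd : Odd N := by
      obtain ⟨t, ht⟩ : ∃ t, q = 2 * t + 1 := ⟨q / 2, by omega⟩
      obtain ⟨c, hc⟩ : ∃ c, q ^ 8 = 4 * c + 1 := by
        refine ⟨q ^ 8 / 4, ?_⟩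
        have : q ^ 8 % 4 = 1 := by
          rw [Nat.pow_mod]
          have : q % 4 = 1 ∨ q % 4 = 3 := by omega
          rcases this with h | h <;> rw [h]
        omega
      exact ⟨c, by omega⟩
    rw [hN, show (2 : ℕ) ^ (2 * 4) * (2 ^ 28 * 19923090075) =
      2 * ((2 ^ 35 * (3 ^ 5 * 5 ^ 2 * 7 ^ 2 * 31 * 127)) * 17) by norm_num] at h3
    have h4 := (Nat.mul_dvd_mul_iff_left two_pos).1 h3
    have hc : N.Coprime (2 ^ 35 * (3 ^ 5 * 5 ^ 2 * 7 ^ 2 * 31 * 127)) :=
      Nat.Coprime.mul_right (Nat.Coprime.pow_right 35 (Nat.coprime_two_right.2 hNodd))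
        ((((((key 8 N 3 hN Nat.prime_three (by decide)).pow_right 5).mul_right
          ((key 8 N 5 hN (by norm_num) (by decide)).pow_right 2)).mul_right
          ((key 8 N 7 hN (by norm_num) (by decide)).pow_right 2)).mul_right
          (key 8 N 31 hN (by norm_num) (by decide +kernel))).mul_right
          (key 8 N 127 hN (by norm_num) (by decide +kernel)))
    have := Nat.le_of_dvd (by norm_num) (hc.dvd_of_dvd_mul_left h4)
    omega
  · norm_num at hr
  · norm_num at hr
  · norm_num at hr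
  · exfalso
    set d := 2 ^ n with hd
    set G := ∏ i : Fin (2 * n), (2 ^ (2 * n) - 2 ^ (i : ℕ)) with hG
    have hd1 : 1 ≤ d := Nat.one_le_two_pow
    have hGpos : 0 < G := Finset.prod_pos fun i _ =>
      Nat.sub_pos_of_lt (Nat.pow_lt_pow_right (by norm_num) i.2)
    have hGle : G ≤ 2 ^ (4 * n * n) := by
      calc G ≤ ∏ _i : Fin (2 * n), 2 ^ (2 * n) := Finset.prod_le_prod' fun i _ => Nat.sub_le _ _
        _ = 2 ^ (4 * n * n) := by
          rw [Finset.prod_const, Finset.card_univ, Fintype.card_fin, ← pow_mul]; ring_nf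
    have h1 := Nat.le_of_dvd (Nat.mul_pos (by omega) (Nat.mul_pos (Nat.two_pow_pos _) hGpos)) h
    have h2 : q ^ (d - 1) * (q - 1) ≤ q ^ d - 1 := by
      rw [Nat.mul_sub, mul_one, ← pow_succ, Nat.sub_add_cancel hd1]
      have := Nat.one_le_pow (d - 1) q hq.pos
      omega
    have h3 : q ^ (d - 1) ≤ 2 ^ (2 * n + 4 * n * n) := by
      refine Nat.le_of_mul_le_mul_right (c := q - 1) ((h2.trans h1).trans ?_) (by omega)
      rw [mul_comm (q - 1), pow_add]
      exact Nat.mul_le_mul_right _ (Nat.mul_le_mul_left _ hGle)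
    have h4 : 2 ^ (3 * (d - 1)) ≤ 2 ^ (2 * (2 * n + 4 * n * n)) := by
      calc 2 ^ (3 * (d - 1)) = 8 ^ (d - 1) := by rw [pow_mul]; norm_num
        _ ≤ (q ^ 2) ^ (d - 1) := Nat.pow_le_pow_left (by nlinarith) _
        _ = (q ^ (d - 1)) ^ 2 := by rw [← pow_mul, ← pow_mul, mul_comm]
        _ ≤ (2 ^ (2 * n + 4 * n * n)) ^ 2 := Nat.pow_le_pow_left h3 2
        _ = 2 ^ (2 * (2 * n + 4 * n * n)) := by rw [← pow_mul, mul_comm]
    have h5 := (Nat.pow_le_pow_iff_right (by norm_num : 1 < 2)).1 h4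
    have h6 : ∀ m, 8 ≤ m → 8 * m * m + 4 * m + 4 < 3 * 2 ^ m := by
      intro m hm
      induction m, hm using Nat.le_induction with
      | base => norm_num
      | succ m hm ih =>
        have : 8 * m ≤ m * m := Nat.mul_le_mul_right m hm
        rw [pow_succ]
        nlinarith
    have := h6 n h8
    rw [← hd] at this
    have e : 2 * (2 * n + 4 * n * n) = 8 * n * n + 4 * n := by ring
    omega

theorem main {q : ℕ} [Fact q.Prime] {V : Type*} [AddCommGroup V] [Module (ZMod q) V] [Finite V]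
    [Nontrivial V] {G : Type*} [Group G] [Finite G] (hsol : Group.IsSolvable G)
    (ρ : G →* (V ≃ₗ[ZMod q] V)) (hρ : Function.Injective ρ)
    (htrans : ∀ v w : V, v ≠ 0 → w ≠ 0 → ∃ g : G, ρ g v = w) :
    (∃ (F : Type) (_ : Field F) (_ : Fintype F) (e : V ≃+ F),
        ∀ g : G, ∃ (a : F) (σ : F ≃+* F), ∀ v : V, e (ρ g v) = a * σ (e v)) ∨
    Nat.card V ∈ ({9, 25, 49, 121, 529, 81} : Set ℕ) := by
  classical
  set H := ρ.range
  let ε : G ≃* H := MonoidHom.ofInjective hρ
  have hε : ∀ g, ((ε g : H) : V ≃ₗ[ZMod q] V) = ρ g := fun g => MonoidHom.ofInjective_apply hρ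
  have : Finite (V ≃ₗ[ZMod q] V) :=
    Finite.of_injective (fun e => (e : V → V)) DFunLike.coe_injective
  have hsolH : Group.IsSolvable H :=
    Group.isSolvable_of_isSolvable_injective (f := ε.symm.toMonoidHom) ε.symm.injective
  have htr : ∀ v w : V, v ≠ 0 → w ≠ 0 → ∃ h : H, (h : V ≃ₗ[ZMod q] V) v = w := fun v w hv hw => by
    obtain ⟨g, hg⟩ := htrans v w hv hw
    exact ⟨ε g, by rw [hε]; exact hg⟩
  by_cases hirr : ∃ A : Subgroup H, A.Normal ∧ IsMulCommutative A ∧ ∀ W : Submodule (ZMod q) V,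
      (∀ a ∈ A, ∀ v ∈ W, ((a : H) : V ≃ₗ[ZMod q] V) v ∈ W) → W = ⊥ ∨ W = ⊤
  · obtain ⟨A, hAn, hAc, hA⟩ := hirr
    obtain ⟨F, iF, iF', e, he⟩ := CfsgLib.SemiReg.exists_semilinear A hA
    exact Or.inl ⟨F, iF, iF', e, fun g => by simpa [hε] using he (ε g)⟩
  refine Or.inr ?_
  have hq := (Fact.out : q.Prime)
  have := Module.Finite.of_finite (R := ZMod q) (M := V)
  obtain ⟨A, -, hA⟩ := Finite.exists_le_maximal
    (p := fun K : Subgroup H => K.Normal ∧ IsMulCommutative K)
    (a := (⊥ : Subgroup H)) ⟨inferInstance, inferInstance⟩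
  have := hA.1.1
  have := hA.1.2
  have hmaxA : ∀ K : Subgroup H, K.Normal → IsMulCommutative K → A ≤ K → K ≤ A :=
    fun K h1 h2 h3 => (hA.eq_of_ge ⟨h1, h2⟩ h3).le
  obtain ⟨k, m, hk, hm, hd, hAdvd, hidx, hm1, L, iL, iLV, iLf, ι, Φ, hfr, hΦ, hΦv, hι⟩ :=
    CfsgLib.TransLinear.exists_frame A htr
  have hm2 : 2 ≤ m := by
    by_contra hlt
    exact hirr ⟨A, inferInstance, inferInstance, hm1 (by omega)⟩
  -- the order
  have hVcard : Nat.card V = q ^ (k * m) := by
    rw [Module.natCard_eq_pow_finrank (K := ZMod q), Nat.card_zmod, hd]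
  obtain ⟨v₀, hv₀⟩ := exists_ne (0 : V)
  have hord : q ^ (k * m) - 1 ∣ Nat.card H := by
    have horb : MulAction.orbit H v₀ = {v : V | v ≠ 0} := by
      ext v
      constructor
      · rintro ⟨h, rfl⟩ h0
        exact hv₀ ((h : V ≃ₗ[ZMod q] V).map_eq_zero_iff.1 h0)
      · intro hv
        obtain ⟨h, hh⟩ := htr v₀ v hv₀ hv
        exact ⟨h, hh⟩
    have h1 : Nat.card (MulAction.orbit H v₀) ∣ Nat.card H := by
      rw [Nat.card_congr (MulAction.orbitEquivQuotientStabilizer H v₀)]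
      exact Subgroup.index_dvd_card _
    rwa [horb, show {v : V | v ≠ 0} = ({0}ᶜ : Set V) from rfl, Nat.card_coe_set_eq,
      Set.ncard_compl, Set.ncard_singleton, hVcard] at h1
  let C := centralizer (A : Set H)
  change C.index ∣ k at hidx
  have hAC : A ≤ C := le_centralizer_iff_isMulCommutative.2 inferInstance
  have hC : C.map (QuotientGroup.mk' A) ≠ ⊥ := by
    intro hbot
    rw [Subgroup.map_eq_bot_iff, QuotientGroup.ker_mk'] at hbot
    have heq : C = A := le_antisymm hbot hAC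
    rw [heq] at hidx
    have h1 := A.card_mul_index
    have h2 : A.index ≤ k := Nat.le_of_dvd hk hidx
    have hqk : 2 ≤ q ^ k := hq.two_le.trans (Nat.le_self_pow hk.ne' q)
    have h3 := Nat.le_of_dvd (by omega) hAdvd
    have h4 : q ^ k * q ^ k ≤ q ^ (k * m) := by
      rw [← pow_add]
      exact Nat.pow_le_pow_right hq.pos (by nlinarith)
    have h5 := Nat.le_of_dvd Nat.card_pos hord
    have h6 : Nat.card A * A.index ≤ (q ^ k - 1) * k := Nat.mul_le_mul h3 h2
    have h7 : k < q ^ k := Nat.lt_pow_self hq.one_lt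
    obtain ⟨y, hy⟩ : ∃ y, q ^ k = y + 1 := ⟨q ^ k - 1, by omega⟩
    rw [hy] at h3 h4 h6 h7 hqk
    rw [Nat.add_sub_cancel] at h6
    nlinarith [Nat.sub_add_cancel (Nat.one_le_pow (k * m) q hq.pos)]
  have : (C.map (QuotientGroup.mk' A)).Normal :=
    Subgroup.Normal.map inferInstance _ (QuotientGroup.mk'_surjective A)
  obtain ⟨M, hMn, hMne, hMC, hMc, -, p, hp, hMp, -⟩ :=
    CfsgLib.Solvable.exists_normal_elementary_le hC
      (Group.isSolvable_of_isSolvable_injective (f := (C.map (QuotientGroup.mk' A)).subtype)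
        (Subgroup.subtype_injective _))
  have : Fact p.Prime := ⟨hp⟩
  set B := M.comap (QuotientGroup.mk' A) with hBdef
  have hBn : B.Normal := inferInstance
  have hAB : A ≤ B := fun a ha => by
    show QuotientGroup.mk' A a ∈ M
    rw [show QuotientGroup.mk' A a = 1 from (QuotientGroup.eq_one_iff a).2 ha]
    exact one_mem M
  have hBC : B ≤ C := by
    calc B ≤ (C.map (QuotientGroup.mk' A)).comap (QuotientGroup.mk' A) := Subgroup.comap_mono hMC
      _ = C ⊔ (QuotientGroup.mk' A).ker := Subgroup.comap_map_eq _ _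
      _ ≤ C := sup_le le_rfl (by rw [QuotientGroup.ker_mk']; exact hAC)
  set A' := A.subgroupOf C
  set B' := B.subgroupOf C
  have hD : CfsgLib.SympType.Data p A' B' :=
    { central := fun a ha => mem_center_iff.2 fun c =>
        Subtype.ext (mem_centralizer_iff.1 c.2 _ ha).symm
      le := fun a ha => hAB ha
      ne := fun h => hMne (by
        have h1 : B = A := by
          rw [← map_subgroupOf_eq_of_le hBC, ← map_subgroupOf_eq_of_le hAC]
          exact congrArg (Subgroup.map C.subtype) h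
        rw [eq_bot_iff]
        intro x hx
        obtain ⟨x, rfl⟩ := QuotientGroup.mk'_surjective A x
        rw [mem_bot]
        exact (QuotientGroup.eq_one_iff x).2 (h1 ▸ hx))
      normal := inferInstance
      pow_mem := fun b hb => by
        show ((b ^ p : C) : H) ∈ A
        rw [← QuotientGroup.eq_one_iff]
        exact (map_pow (QuotientGroup.mk' A) (b : H) p).trans (hMp _ hb)
      comm_mem := fun b hb c hc => by
        show ((⁅b, c⁆ : C) : H) ∈ A
        rw [← QuotientGroup.eq_one_iff]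
        refine (map_commutatorElement (QuotientGroup.mk' A) (b : H) (c : H)).trans ?_
        exact commutatorElement_eq_one_iff_mul_comm.2 (setLike_mul_comm (s := M) hb hc)
      center_le := fun b hb hcomm => by
        have hK := hmaxA (B ⊓ centralizer (B : Set H)) inferInstance
          (.of_setLike_mul_comm fun x hx y hy => ((mem_centralizer_iff.1 hy.2) x hx.1))
          (le_inf hAB fun a ha => mem_centralizer_iff.2 fun c hc =>
            (mem_centralizer_iff.1 (hBC hc) a ha).symm)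
        exact hK ⟨hb, mem_centralizer_iff.2 fun c hc =>
          congrArg Subtype.val (hcomm ⟨c, hBC hc⟩ hc)⟩ }
  obtain ⟨e, he2, he⟩ := hD.card_quotient
  have hfinL : Module.Finite L V := Module.Finite.of_finite
  obtain ⟨hle, hdvd⟩ := hD.linear Φ hΦ
    (fun a ha => ⟨ι ⟨a, ha⟩, LinearMap.ext fun v => by
      rw [hΦv, hι ⟨a, ha⟩ v]; rfl⟩)
    (fun hcc x hx => by
      have hK := hmaxA (C ⊓ centralizer (B : Set H)) inferInstance
        (.of_setLike_mul_comm fun a ha b hb => congrArg Subtype.val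
          (setLike_mul_comm (s := centralizer (B' : Set C))
            (a := (⟨a, ha.1⟩ : C)) (b := ⟨b, hb.1⟩)
            (mem_centralizer_iff.2 fun c hc => Subtype.ext (mem_centralizer_iff.1 ha.2 c hc))
            (mem_centralizer_iff.2 fun c hc => Subtype.ext (mem_centralizer_iff.1 hb.2 c hc))))
        (le_inf hAC fun a ha => mem_centralizer_iff.2 fun c hc =>
          (mem_centralizer_iff.1 (hBC hc) a ha).symm)
      exact hK ⟨x.2, mem_centralizer_iff.2 fun c hc =>
        congrArg Subtype.val (mem_centralizer_iff.1 hx ⟨c, hBC hc⟩ hc)⟩) he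
  rw [hfr] at hle hdvd
  have hA' : Nat.card A' = Nat.card A := Nat.card_congr (Subgroup.subgroupOfEquivOfLe hAC).toEquiv
  have hpA : p ∣ Nat.card A := hA' ▸ hD.dvd_card
  have hHdvd : p ^ e = m * m →
      Nat.card H ∣ k * (Nat.card A * p ^ e * ∏ i : Fin e, (p ^ e - p ^ (i : ℕ))) := fun h => by
    rw [← C.card_mul_index, mul_comm]
    exact mul_dvd_mul hidx (hA' ▸ hdvd h)
  have hpk : p ∣ q ^ k - 1 := hpA.trans hAdvd
  rw [hVcard]
  -- dimension two
  by_cases hd2 : k * m = 2
  · obtain ⟨rfl, rfl⟩ : k = 1 ∧ m = 2 := by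
      have : k * 2 ≤ k * m := Nat.mul_le_mul_left k hm2
      have : k = 1 := by omega
      subst this
      omega
    have hp2 : p = 2 := by
      have h1 : p ^ 2 ≤ p ^ e := Nat.pow_le_pow_right hp.pos he2
      have h2 : p ^ 2 ≤ 2 ^ 2 := h1.trans (hle.trans (by norm_num))
      have := Nat.pow_le_pow_iff_left (n := 2) (by norm_num) |>.1 h2
      have := hp.two_le
      omega
    subst hp2
    obtain rfl : e = 2 := by
      have h1 : 2 ^ e ≤ 2 ^ 2 := hle.trans (by norm_num)
      have := (Nat.pow_le_pow_iff_right (by norm_num : 1 < 2)).1 h1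
      omega
    have h1 := hord.trans (hHdvd (by norm_num))
    simp only [one_mul] at h1 ⊢
    rw [show (∏ i : Fin 2, (2 ^ 2 - 2 ^ (i : ℕ))) = 6 by decide, mul_assoc] at h1
    have h2 := h1.trans (mul_dvd_mul_right (hAdvd) _)
    rw [pow_one] at h2 hpk
    have hq2 : q ≠ 2 := by rintro rfl; norm_num at hpk
    have hfac : q ^ 2 - 1 = (q - 1) * (q + 1) := by
      zify [Nat.one_le_pow 2 q hq.pos, hq.one_le]
      ring
    rw [hfac] at h2
    have h3 := (Nat.mul_dvd_mul_iff_left (by have := hq.two_le; omega : 0 < q - 1)).1 h2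
    have h4 := Nat.le_of_dvd (by norm_num) h3
    norm_num at h4
    have := hq.two_le
    have h4' : q ≤ 23 := by omega
    interval_cases q <;> first | omega | (norm_num at h3; done) | (norm_num at hq; done) | norm_num
  by_cases h64 : q = 2 ∧ k * m = 6
  · exfalso
    obtain ⟨rfl, h6⟩ := h64
    have hk3 : k ≤ 3 := by
      by_contra hlt
      have : 4 * 2 ≤ k * m := Nat.mul_le_mul (by omega) hm2
      omega
    have hpe : p ^ 2 ≤ m * m := (Nat.pow_le_pow_right hp.pos he2).trans hle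
    interval_cases k
    · norm_num at hpk
      exact hp.ne_one hpk
    · obtain rfl : m = 3 := by omega
      norm_num at hpk
      obtain rfl := (Nat.prime_dvd_prime_iff_eq hp Nat.prime_three).1 hpk
      obtain rfl : e = 2 := by
        have := (Nat.pow_le_pow_iff_right (by norm_num : 1 < 3)).1
          (hle.trans (by norm_num : 3 * 3 ≤ 3 ^ 2))
        omega
      have h1 := hord.trans ((hHdvd (by norm_num)).trans
        (mul_dvd_mul_left 2 (mul_dvd_mul_right (mul_dvd_mul_right hAdvd _) _)))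
      rw [show (∏ i : Fin 2, (3 ^ 2 - 3 ^ (i : ℕ))) = 48 by decide] at h1
      norm_num at h1
    · obtain rfl : m = 2 := by omega
      norm_num at hpk
      obtain rfl := (Nat.prime_dvd_prime_iff_eq hp (by norm_num : Nat.Prime 7)).1 hpk
      norm_num at hpe
  have hdm : m ≤ k * m := Nat.le_mul_of_pos_left m hk
  have hkd : k < k * m := lt_mul_of_one_lt_right hk (by omega)
  have hmers : ¬ (k * m = 2 ∧ ∃ t : ℕ, q + 1 = 2 ^ t) := fun h => hd2 h.1
  obtain ⟨r, hr, hrd, hrprim⟩ := Cfsg.Agent.S2904.result q (k * m) hq.one_lt (by omega) h64 hmers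
  have : Fact r.Prime := ⟨hr⟩
  have hrq : r ≠ q := by
    rintro rfl
    have h1 : r ∣ r ^ (k * m) := dvd_pow_self _ (by omega)
    have h2 := Nat.dvd_sub h1 hrd
    rw [Nat.sub_sub_self (Nat.one_le_pow _ _ hr.pos), Nat.dvd_one] at h2
    exact hr.ne_one h2
  have hrlarge : k * m + 1 ≤ r := by
    have hq0 : (q : ZMod r) ≠ 0 := by
      rw [Ne, ZMod.natCast_eq_zero_iff]
      exact fun h => hrq ((Nat.prime_dvd_prime_iff_eq hr hq).1 h)
    have hcast : ∀ i, (q : ZMod r) ^ i = 1 ↔ r ∣ q ^ i - 1 := fun i => by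
      rw [← Nat.cast_pow, ← Nat.cast_one, ZMod.natCast_eq_natCast_iff]
      exact ⟨fun h => (Nat.modEq_iff_dvd' (Nat.one_le_pow _ _ hq.pos)).1 h.symm,
        fun h => ((Nat.modEq_iff_dvd' (Nat.one_le_pow _ _ hq.pos)).2 h).symm⟩
    have h1 : orderOf (q : ZMod r) = k * m := by
      rw [orderOf_eq_iff (by omega)]
      exact ⟨(hcast _).2 hrd, fun i hi hi0 h => hrprim i hi0 hi ((hcast i).1 h)⟩
    have h2 : k * m ∣ r - 1 := h1 ▸ orderOf_dvd_of_pow_eq_one (ZMod.pow_card_sub_one_eq_one hq0)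
    have := Nat.le_of_dvd (by have := hr.two_le; omega) h2
    omega
  have hrA : ¬ r ∣ Nat.card A := fun h => hrprim k hk hkd (h.trans hAdvd)
  have hrC : r ∣ Nat.card C := by
    have h := hrd.trans (hord.trans (dvd_of_eq C.card_mul_index.symm))
    refine (hr.dvd_mul.1 h).resolve_right fun h' => ?_
    have := Nat.le_of_dvd hk (h'.trans hidx)
    omega
  obtain ⟨x, hx⟩ := exists_prime_orderOf_dvd_card' r hrC
  have hxB : x ∉ centralizer (B' : Set C) := by
    intro hxc
    let T : Module.End (ZMod q) V := CfsgLib.RegularLinear.act H (x : H)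
    have hTr : T ^ r = 1 := by
      show CfsgLib.RegularLinear.act H (x : H) ^ r = 1
      rw [← map_pow, ← hx, ← Subgroup.orderOf_coe, pow_orderOf_eq_one, map_one]
    have hT1 : T ≠ 1 := fun h => by
      have h1 : (x : H) = 1 := CfsgLib.RegularLinear.act_injective H (h.trans (map_one _).symm)
      rw [show x = 1 from Subtype.ext h1, orderOf_one] at hx
      exact hr.ne_one hx.symm
    have hcommT : ∀ b : C, b ∈ B' → Commute (CfsgLib.RegularLinear.act H (b : H)) T := fun b hb => by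
      show _ * _ = _ * _
      rw [← map_mul, ← map_mul]
      exact congrArg (fun t : H => CfsgLib.RegularLinear.act H t)
        (congrArg Subtype.val (mem_centralizer_iff.1 hxc b hb))
    refine hD.ne (le_antisymm (fun b hb => hD.center_le b hb fun c hc => ?_) hD.le)
    have h := CfsgLib.PrimeOrderAuto.commute_of_primitive hrq hTr hT1
      (by rw [hd]; exact fun i hi hi' => hrprim i hi hi') (hcommT c hc) (hcommT b hb)
    refine Subtype.ext (CfsgLib.RegularLinear.act_injective H ?_)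
    show CfsgLib.RegularLinear.act H ((c : H) * b) = CfsgLib.RegularLinear.act H ((b : H) * c)
    rw [map_mul, map_mul]
    exact h.eq
  obtain ⟨n, hn, hrn⟩ := hD.le_rank hx (hA'.symm ▸ hrA) hxB he
  have hpn : p ^ n ≤ m := by
    refine (Nat.pow_le_pow_iff_left (n := 2) (by norm_num)).1 ?_
    rw [← pow_mul, pow_two m]
    exact (Nat.pow_le_pow_right hp.pos (by omega)).trans hle
  have hmd : m = k * m := by omega
  have hk1 : k = 1 := by
    by_contra hne
    have : 2 * m ≤ k * m := Nat.mul_le_mul_right m (by omega)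
    omega
  subst hk1
  rw [one_mul] at *
  have hpm : p ^ n = m := by omega
  have hrm : r = m + 1 := by omega
  have hp2 : p = 2 := by
    refine hp.eq_two_or_odd.resolve_right fun hodd => ?_
    have h1 := Nat.odd_iff.1 ((Nat.odd_iff.2 hodd).pow (n := n))
    rcases hr.eq_two_or_odd with h | h <;> omega
  subst hp2
  have he2n : e = 2 * n := by
    have h1 : 2 ^ e ≤ 2 ^ (2 * n) := hle.trans (by rw [← hpm, ← pow_add, two_mul])
    have := (Nat.pow_le_pow_iff_right (by norm_num : 1 < 2)).1 h1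
    omega
  subst he2n
  rw [pow_one] at hAdvd hpk
  have hq2 : q ≠ 2 := by rintro rfl; norm_num at hpk
  have h1 := hord.trans (hHdvd (by rw [← hpm, ← pow_add, two_mul]))
  rw [mul_assoc (Nat.card A)] at h1
  have h2 := h1.trans (mul_dvd_mul_right hAdvd _)
  subst hpm
  rcases arith hq hq2 (Nat.pos_of_ne_zero fun h => by subst h; omega) (hrm ▸ hr) h2 with rfl | ⟨rfl, rfl⟩
  · exact absurd rfl hd2
  · norm_num

end CfsgLib.Huppert
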