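import Cfsg.Agent.Solvable.Fitting
import Cfsg.Agent.Solvable.FpfComplement
import Cfsg.Agent.InvChar.UniqueInvolution
import Cfsg.Agent.S3742
import Cfsg.Agent.Char.Burnside
import Mathlib.GroupTheory.SpecificGroups.Dihedral

/-!
Frobenius complements modulo their odd core: the solvable case.
-/

set_option autoImplicit false
set_option linter.unusedSectionVars false
set_option linter.style.haveILetI false

namespace CfsgLib.ComplType

open Subgroup

/-- The group-theoretic properties of a fixed-point-free group used below. -/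
structure IsLike (G : Type*) [Group G] : Prop where
  odd_cyclic : ∀ (p : ℕ) [Fact p.Prime] (P : Sylow p G), p ≠ 2 → IsCyclic P
  invol : ∀ s t : G, orderOf s = 2 → orderOf t = 2 → s = t

theorem isLike_of_fpf {G K : Type*} [Group G] [Finite G] [Group K] [Finite K] [Nontrivial K]
    {φ : G →* MulAut K} (h : CfsgLib.Frobenius.IsFpf φ) : IsLike G :=
  ⟨fun p _ P hp2 => (CfsgLib.FpfComplement.sylow_cyclic_or_quaternion h p P).resolve_right fun e => hp2 e.1,
    fun _ _ hs ht => h.unique_involution hs ht⟩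

/-- The six kinds of quotient. -/
def IsType {G : Type*} [Group G] (N : Subgroup G) : Prop :=
  N = ⊤ ∨
    (∃ f : G →* DihedralGroup 2, Function.Surjective f ∧ f.ker = N) ∨
    (∃ f : G →* alternatingGroup (Fin 4), Function.Surjective f ∧ f.ker = N) ∨
    (∃ f : G →* Equiv.Perm (Fin 4), Function.Surjective f ∧ f.ker = N) ∨
    (∃ f : G →* alternatingGroup (Fin 5), Function.Surjective f ∧ f.ker = N) ∨
    (∃ f : G →* Equiv.Perm (Fin 5), Function.Surjective f ∧ f.ker = N)

/-- Two commuting involutions. -/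
def HasFour (Q : Type*) [Group Q] : Prop :=
  ∃ u v : Q, u * v = v * u ∧ u * u = 1 ∧ v * v = 1 ∧ u ≠ 1 ∧ v ≠ 1 ∧ u ≠ v

theorem hasFour_dihedral : HasFour (DihedralGroup 2) :=
  ⟨DihedralGroup.r 1, DihedralGroup.sr 0, by decide, by decide, by decide, by decide, by decide, by decide⟩

theorem hasFour_alt_four : HasFour (alternatingGroup (Fin 4)) :=
  ⟨⟨Equiv.swap 0 1 * Equiv.swap 2 3, Equiv.Perm.mem_alternatingGroup.2 (by decide +kernel)⟩,
    ⟨Equiv.swap 0 2 * Equiv.swap 1 3, Equiv.Perm.mem_alternatingGroup.2 (by decide +kernel)⟩,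
    by decide +kernel, by decide +kernel, by decide +kernel, by decide +kernel, by decide +kernel,
    by decide +kernel⟩

theorem hasFour_perm_four : HasFour (Equiv.Perm (Fin 4)) :=
  ⟨Equiv.swap 0 1, Equiv.swap 2 3, by decide +kernel, by decide +kernel, by decide +kernel, by decide +kernel,
    by decide +kernel, by decide +kernel⟩

theorem hasFour_alt_five : HasFour (alternatingGroup (Fin 5)) :=
  ⟨⟨Equiv.swap 0 1 * Equiv.swap 2 3, Equiv.Perm.mem_alternatingGroup.2 (by decide +kernel)⟩,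
    ⟨Equiv.swap 0 2 * Equiv.swap 1 3, Equiv.Perm.mem_alternatingGroup.2 (by decide +kernel)⟩,
    by decide +kernel, by decide +kernel, by decide +kernel, by decide +kernel, by decide +kernel,
    by decide +kernel⟩

theorem hasFour_perm_five : HasFour (Equiv.Perm (Fin 5)) :=
  ⟨Equiv.swap 0 1, Equiv.swap 2 3, by decide +kernel, by decide +kernel, by decide +kernel, by decide +kernel,
    by decide +kernel, by decide +kernel⟩

theorem card_types : Nat.card (DihedralGroup 2) = 4 ∧ Nat.card (alternatingGroup (Fin 4)) = 12 ∧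
    Nat.card (Equiv.Perm (Fin 4)) = 24 ∧ Nat.card (alternatingGroup (Fin 5)) = 60 ∧
    Nat.card (Equiv.Perm (Fin 5)) = 120 := by
  refine ⟨?_, ?_, ?_, ?_, ?_⟩
  · rw [Nat.card_eq_fintype_card, DihedralGroup.card]
  · rw [nat_card_alternatingGroup, Nat.card_fin]; rfl
  · rw [Nat.card_perm, Nat.card_fin]; rfl
  · rw [nat_card_alternatingGroup, Nat.card_fin]; rfl
  · rw [Nat.card_perm, Nat.card_fin]; rfl

/-- Commuting involutions of a group all of whose `2`-subgroups have a unique involution. -/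
theorem no_four {Q : Type*} [Group Q] [Finite Q]
    (hu : ∀ R : Subgroup Q, IsPGroup 2 R → ∀ s ∈ R, ∀ t ∈ R, orderOf s = 2 → orderOf t = 2 → s = t) :
    ¬ HasFour Q := by
  rintro ⟨u, v, huv, hu2, hv2, hu1, hv1, hne⟩
  haveI : Fact (Nat.Prime 2) := ⟨Nat.prime_two⟩
  have hu' : orderOf u = 2 := orderOf_eq_prime (by rw [pow_two, hu2]) hu1
  have hv' : orderOf v = 2 := orderOf_eq_prime (by rw [pow_two, hv2]) hv1
  have hR : IsPGroup 2 (zpowers u ⊔ zpowers v : Subgroup Q) := by
    have hz : ∀ z : Q, orderOf z = 2 → IsPGroup 2 (zpowers z) := fun z hz =>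
      IsPGroup.of_card (n := 1) (by rw [Nat.card_zpowers, hz, pow_one])
    refine (hz u hu').to_sup_of_normal_right' (hz v hv') ?_
    intro x hx
    obtain ⟨i, rfl⟩ := hx
    refine Subgroup.mem_normalizer_iff.2 fun w => ?_
    have hc : ∀ y ∈ zpowers v, u ^ i * y * (u ^ i)⁻¹ = y := fun y hy => by
      obtain ⟨k, rfl⟩ := hy
      rw [((show Commute u v from huv).zpow_zpow i k).eq, mul_inv_cancel_right]
    constructor
    · intro hw; show u ^ i * w * (u ^ i)⁻¹ ∈ zpowers v; rw [hc w hw]; exact hw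
    · intro hw
      have h2 := hc _ hw
      have : u ^ i * w * (u ^ i)⁻¹ = w := mul_left_cancel (mul_right_cancel h2)
      rwa [← this]
  exact hne (hu _ hR u (mem_sup_left (mem_zpowers u)) v (mem_sup_right (mem_zpowers v)) hu' hv')

theorem unique_of_isZGroup {Q : Type*} [Group Q] [Finite Q] [IsZGroup Q] (R : Subgroup Q) (hR : IsPGroup 2 R) :
    ∀ s ∈ R, ∀ t ∈ R, orderOf s = 2 → orderOf t = 2 → s = t := by
  haveI : Fact (Nat.Prime 2) := ⟨Nat.prime_two⟩
  haveI := hR.isCyclic_of_isZGroup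
  intro s hs t ht hs2 ht2
  have h := CfsgLib.FpfComplement.mem_zpowers_of_cyclic (u := (⟨s, hs⟩ : R)) (v := ⟨t, ht⟩)
    (by rw [Subgroup.orderOf_mk, Subgroup.orderOf_mk, hs2, ht2])
  rw [← mem_powers_iff_mem_zpowers] at h
  obtain ⟨i, hi⟩ := h
  have hi' : t ^ i = s := congrArg Subtype.val hi
  rw [← pow_mod_orderOf, ht2] at hi'
  rcases Nat.mod_two_eq_zero_or_one i with h0 | h0 <;> rw [h0] at hi'
  · rw [← hi', pow_zero, orderOf_one] at hs2; omega
  · rw [← hi', pow_one]

theorem commutator_double :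
    ∀ r : Equiv.Perm (Fin 4), r ≠ 1 → ∃ g : Equiv.Perm (Fin 4), Equiv.Perm.sign g = 1 ∧
      (r * (g * r⁻¹ * g⁻¹)) * (r * (g * r⁻¹ * g⁻¹)) = 1 ∧ Equiv.Perm.sign (r * (g * r⁻¹ * g⁻¹)) = 1 ∧
      r * (g * r⁻¹ * g⁻¹) ≠ 1 := by
  decide +kernel

theorem double_four :
    ∀ v : Equiv.Perm (Fin 4), v * v = 1 → Equiv.Perm.sign v = 1 → v ≠ 1 → ∃ g : Equiv.Perm (Fin 4),
      Equiv.Perm.sign g = 1 ∧ g * v * g⁻¹ ≠ v ∧ v * (g * v * g⁻¹) = g * v * g⁻¹ * v := by
  decide +kernel

/-- A Z-subgroup of `S₄` normalised by `A₄` is trivial. -/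
theorem eq_bot_of_normalized (R : Subgroup (Equiv.Perm (Fin 4))) [IsZGroup R]
    (hR : ∀ g : Equiv.Perm (Fin 4), Equiv.Perm.sign g = 1 → ∀ r ∈ R, g * r * g⁻¹ ∈ R) : R = ⊥ := by
  rw [Subgroup.eq_bot_iff_forall]
  intro r hr
  by_contra hne
  obtain ⟨g, hg, h1, h2, h3⟩ := commutator_double r hne
  set v := r * (g * r⁻¹ * g⁻¹) with hv
  have hvR : v ∈ R := mul_mem hr (hR g hg _ (inv_mem hr))
  obtain ⟨g', hg', h4, h5⟩ := double_four v h1 h2 h3
  have hu : g' * v * g'⁻¹ ∈ R := hR g' hg' v hvR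
  refine no_four (Q := R) (fun S hS => unique_of_isZGroup S hS)
    ⟨⟨v, hvR⟩, ⟨_, hu⟩, Subtype.ext h5, Subtype.ext h1, Subtype.ext ?_, fun e => h3 (congrArg Subtype.val e),
      fun e => h3 ?_, fun e => h4 (congrArg Subtype.val e).symm⟩
  · show g' * v * g'⁻¹ * (g' * v * g'⁻¹) = 1
    rw [conj_mul, h1, mul_one, mul_inv_cancel]
  · have := congrArg Subtype.val e
    exact conj_eq_one_iff.1 this

/-- No non-trivial normal subgroup of odd order. -/
def NoOdd (Q : Type*) [Group Q] : Prop :=
  ∀ R : Subgroup Q, R.Normal → (Nat.card R).Coprime 2 → R = ⊥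

theorem isZGroup_odd_four (R : Subgroup (Equiv.Perm (Fin 4))) (h : (Nat.card R).Coprime 2) : IsZGroup R := by
  refine IsZGroup.of_squarefree ?_
  have h1 : Nat.card R ∣ 24 := by
    have := Subgroup.card_subgroup_dvd_card R
    rwa [card_types.2.2.1] at this
  have h3 : Nat.card R ∣ 3 := (h.pow_right 3).dvd_of_dvd_mul_left (show Nat.card R ∣ 2 ^ 3 * 3 from h1)
  exact Squarefree.squarefree_of_dvd h3 Nat.prime_three.squarefree

theorem noOdd_dihedral : NoOdd (DihedralGroup 2) := fun R _ h => by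
  refine Subgroup.eq_bot_of_card_eq R ((h.pow_right 2).eq_one_of_dvd ?_)
  have := Subgroup.card_subgroup_dvd_card R
  rwa [card_types.1] at this

theorem noOdd_perm_four : NoOdd (Equiv.Perm (Fin 4)) := fun R hn h => by
  haveI := isZGroup_odd_four R h
  exact eq_bot_of_normalized R fun g _ r hr => hn.conj_mem r hr g

theorem noOdd_alt_four : NoOdd (alternatingGroup (Fin 4)) := fun R hn h => by
  have hc : Nat.card (R.map (alternatingGroup (Fin 4)).subtype) = Nat.card R :=
    Subgroup.card_map_of_injective (Subgroup.subtype_injective _)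
  haveI := isZGroup_odd_four (R.map (alternatingGroup (Fin 4)).subtype) (by rwa [hc])
  have := eq_bot_of_normalized (R.map (alternatingGroup (Fin 4)).subtype) fun g hg r hr => by
    obtain ⟨x, hx, rfl⟩ := hr
    exact ⟨⟨g, Equiv.Perm.mem_alternatingGroup.2 hg⟩ * x * (⟨g, Equiv.Perm.mem_alternatingGroup.2 hg⟩ : alternatingGroup (Fin 4))⁻¹,
      hn.conj_mem x hx _, rfl⟩
  exact (Subgroup.map_eq_bot_iff_of_injective R (alternatingGroup (Fin 4)).subtype_injective).1 this

theorem noOdd_alt_five : NoOdd (alternatingGroup (Fin 5)) := fun R hn h => by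
  haveI : IsSimpleGroup (alternatingGroup (Fin 5)) := alternatingGroup.isSimpleGroup (by simp)
  refine (hn.eq_bot_or_eq_top).resolve_right fun e => ?_
  rw [e, Subgroup.card_top, card_types.2.2.2.1] at h
  norm_num at h

theorem noOdd_perm_five : NoOdd (Equiv.Perm (Fin 5)) := fun R hn h => by
  have hle : R ≤ alternatingGroup (Fin 5) := fun r hr => by
    rw [Equiv.Perm.mem_alternatingGroup]
    have h1 : orderOf (Equiv.Perm.sign r) ∣ 1 := by
      have h2 : (orderOf (Equiv.Perm.sign r)).Coprime 2 := h.coprime_dvd_left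
        ((orderOf_map_dvd Equiv.Perm.sign r).trans (by rw [← Subgroup.orderOf_mk r hr]; exact orderOf_dvd_natCard _))
      exact h2.dvd_of_dvd_mul_left (n := 1) (by
        have h3 := orderOf_dvd_natCard (Equiv.Perm.sign r)
        rwa [Nat.card_eq_fintype_card, Fintype.card_units_int] at h3)
    exact orderOf_eq_one_iff.1 (Nat.dvd_one.1 h1)
  haveI := hn
  have := noOdd_alt_five (R.subgroupOf (alternatingGroup (Fin 5))) inferInstance
    (by rwa [Nat.card_congr (Subgroup.subgroupOfEquivOfLe hle).toEquiv])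
  rw [Subgroup.subgroupOf_eq_bot] at this
  exact this.eq_bot_of_le hle

theorem isSolvable_small {Q : Type*} [Group Q] [Finite Q] (h : Nat.card Q = 4 ∨ Nat.card Q = 12 ∨ Nat.card Q = 24) :
    Group.IsSolvable Q := by
  rcases h with h | h | h
  · exact CfsgLib.Char.isSolvable_of_card_eq (G := Q) 2 3 2 0 Nat.prime_two Nat.prime_three (by rw [h]; rfl)
  · exact CfsgLib.Char.isSolvable_of_card_eq (G := Q) 2 3 2 1 Nat.prime_two Nat.prime_three (by rw [h]; rfl)
  · exact CfsgLib.Char.isSolvable_of_card_eq (G := Q) 2 3 3 1 Nat.prime_two Nat.prime_three (by rw [h]; rfl)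

variable {G : Type*} [Group G] [Finite G]

/-- A uniform description of the proper types. -/
theorem IsType.unfold {N : Subgroup G} (h : IsType N) (hne : N ≠ ⊤) :
    ∃ (Q : Type) (_ : Group Q) (f : G →* Q), Function.Surjective f ∧ f.ker = N ∧ HasFour Q ∧ NoOdd Q ∧
      (Nat.card Q = 4 ∨ Nat.card Q = 12 ∨ Nat.card Q = 24 ∨ Nat.card Q = 60 ∨ Nat.card Q = 120) := by
  obtain ⟨c1, c2, c3, c4, c5⟩ := card_types
  rcases h with h | ⟨f, hf, hk⟩ | ⟨f, hf, hk⟩ | ⟨f, hf, hk⟩ | ⟨f, hf, hk⟩ | ⟨f, hf, hk⟩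
  · exact absurd h hne
  · exact ⟨_, _, f, hf, hk, hasFour_dihedral, noOdd_dihedral, Or.inl c1⟩
  · exact ⟨_, _, f, hf, hk, hasFour_alt_four, noOdd_alt_four, Or.inr (Or.inl c2)⟩
  · exact ⟨_, _, f, hf, hk, hasFour_perm_four, noOdd_perm_four, Or.inr (Or.inr (Or.inl c3))⟩
  · exact ⟨_, _, f, hf, hk, hasFour_alt_five, noOdd_alt_five, Or.inr (Or.inr (Or.inr (Or.inl c4)))⟩
  · exact ⟨_, _, f, hf, hk, hasFour_perm_five, noOdd_perm_five, Or.inr (Or.inr (Or.inr (Or.inr c5)))⟩

theorem index_eq_card {Q : Type*} [Group Q] (f : G →* Q) (hf : Function.Surjective f) :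
    f.ker.index = Nat.card Q := by
  rw [Subgroup.index_ker, MonoidHom.range_eq_top.2 hf, Subgroup.card_top]

/-- The odd core lies in every subgroup of one of the six types. -/
theorem IsType.core_le {N : Subgroup G} (h : IsType N) : Cfsg.pPrimeCore 2 G ≤ N := by
  rcases eq_or_ne N ⊤ with rfl | hne
  · exact le_top
  obtain ⟨Q, _, f, hf, rfl, -, hodd, hc⟩ := h.unfold hne
  haveI : Finite Q := Finite.of_surjective f hf
  haveI : Fact (Nat.Prime 2) := ⟨Nat.prime_two⟩
  set O := Cfsg.pPrimeCore 2 G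
  haveI : O.Normal := (CfsgLib.Solvable.pPrimeCore_spec 2).1
  exact (Subgroup.map_eq_bot_iff O).1 (hodd (O.map f) (Subgroup.Normal.map ‹_› f hf)
    ((CfsgLib.Solvable.coprime_card_pPrimeCore (p := 2) (G := G)).coprime_dvd_left (Subgroup.card_map_dvd O f)))

/-- Odd Sylow subgroups of subgroups are cyclic. -/
theorem IsLike.isZGroup (h : IsLike G) (N : Subgroup G)
    (h2 : ∀ P : Sylow 2 N, IsCyclic (P : Subgroup N)) : IsZGroup N := ⟨fun p hp P => by
  haveI := Fact.mk hp
  rcases eq_or_ne p 2 with rfl | hp2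
  · exact h2 P
  obtain ⟨R, hR⟩ := (P.2.map N.subtype).exists_le_sylow
  haveI := h.odd_cyclic p R hp2
  exact isCyclic_of_injective ((Subgroup.inclusion hR).comp
    ((P : Subgroup N).equivMapOfInjective N.subtype N.subtype_injective).toMonoidHom)
    ((Subgroup.inclusion_injective hR).comp (MulEquiv.injective _))⟩

/-- A subgroup with cyclic image modulo an odd normal subgroup is a Z-group. -/
theorem IsLike.isZGroup_of_hom (h : IsLike G) (N : Subgroup G) {T : Type*} [Group T] (f : N →* T)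
    (hker : (Nat.card f.ker).Coprime 2) (hT : IsCyclic f.range) : IsZGroup N := by
  refine h.isZGroup N fun P => ?_
  obtain ⟨j, hj⟩ := IsPGroup.iff_card.1 P.2
  refine isCyclic_of_injective (f.rangeRestrict.comp (P : Subgroup N).subtype) ?_
  rw [← MonoidHom.ker_eq_bot_iff, Subgroup.eq_bot_iff_forall]
  intro x hx
  have h1 : (x : N) ∈ f.ker := congrArg Subtype.val hx
  have h2 : Disjoint f.ker (P : Subgroup N) :=
    disjoint_of_coprime_natCard (hj ▸ hker.pow_right j)
  exact Subtype.ext (Subgroup.disjoint_def.1 h2 h1 x.2)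

/-- Two-subgroups of the quotient by the odd core have a unique involution, and are cyclic or quaternion. -/
theorem IsLike.quot_two (h : IsLike G) (R : Subgroup (G ⧸ Cfsg.pPrimeCore 2 G)) (hR : IsPGroup 2 R) :
    (∀ s ∈ R, ∀ t ∈ R, orderOf s = 2 → orderOf t = 2 → s = t) ∧
      (IsCyclic R ∨ ∃ n : ℕ, 1 ≤ n ∧ Nonempty (R ≃* QuaternionGroup (2 ^ n))) := by
  haveI : Fact (Nat.Prime 2) := ⟨Nat.prime_two⟩
  set O := Cfsg.pPrimeCore 2 G with hO
  haveI : O.Normal := (CfsgLib.Solvable.pPrimeCore_spec 2).1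
  obtain ⟨S, hS⟩ := hR.exists_le_sylow
  obtain ⟨P⟩ : Nonempty (Sylow 2 G) := inferInstance
  obtain ⟨g, hg⟩ := MulAction.exists_smul_eq (G ⧸ O) (P.mapSurjective (QuotientGroup.mk'_surjective O)) S
  obtain ⟨w, rfl⟩ := QuotientGroup.mk'_surjective O g
  have hdis : Disjoint O ((w • P : Sylow 2 G) : Subgroup G) := by
    obtain ⟨j, hj⟩ := IsPGroup.iff_card.1 (w • P : Sylow 2 G).2
    exact disjoint_of_coprime_natCard (hj ▸ (CfsgLib.Solvable.coprime_card_pPrimeCore (p := 2) (G := G)).pow_right j)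
  have hlift : ∀ s ∈ R, ∃ s' : G, s' ∈ ((w • P : Sylow 2 G) : Subgroup G) ∧ QuotientGroup.mk' O s' = s := by
    intro s hs
    have h1 : s ∈ ((QuotientGroup.mk' O w) • (P.mapSurjective (QuotientGroup.mk'_surjective O)) : Sylow 2 (G ⧸ O)) := by
      rw [hg]; exact hS hs
    change s ∈ ((P : Subgroup G).map (QuotientGroup.mk' O)).map (MulAut.conj (QuotientGroup.mk' O w)).toMonoidHom at h1
    obtain ⟨_, ⟨y, hy, rfl⟩, rfl⟩ := h1
    exact ⟨w * y * w⁻¹, ⟨y, hy, rfl⟩, by simp⟩
  have hinj : ∀ s ∈ ((w • P : Sylow 2 G) : Subgroup G), QuotientGroup.mk' O s = 1 → s = 1 := fun s hs e =>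
    Subgroup.disjoint_def.1 hdis ((QuotientGroup.eq_one_iff _).1 e) hs
  have hord : ∀ s : G ⧸ O, ∀ s' : G, s' ∈ ((w • P : Sylow 2 G) : Subgroup G) → QuotientGroup.mk' O s' = s →
      orderOf s' = orderOf s := fun s s' hs' e => by
    refine Nat.dvd_antisymm (orderOf_dvd_of_pow_eq_one (hinj _ (pow_mem hs' _) ?_)) (e ▸ orderOf_map_dvd _ s')
    rw [map_pow, e, pow_orderOf_eq_one]
  have huniq : ∀ s ∈ R, ∀ t ∈ R, orderOf s = 2 → orderOf t = 2 → s = t := by
    intro s hs t ht hs2 ht2
    obtain ⟨s', hs', hes⟩ := hlift s hs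
    obtain ⟨t', ht', het⟩ := hlift t ht
    rw [← hes, ← het, h.invol s' t' (by rw [hord s s' hs' hes, hs2]) (by rw [hord t t' ht' het, ht2])]
  refine ⟨huniq, ?_⟩
  rcases CfsgLib.UniqueInvol.cyclic_or_quaternion hR (fun x y hx hy => by
    rw [show y = x from Subtype.ext (huniq _ y.2 _ x.2 (by rwa [Subgroup.orderOf_coe])
      (by rwa [Subgroup.orderOf_coe]))]
    exact mem_zpowers x) with hc | ⟨-, hq⟩
  · exact Or.inl hc
  · exact Or.inr hq

/-- The automorphism group of a quaternion group of order at least sixteen is a `2`-group. -/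
theorem isPGroup_mulAut_quaternion {n : ℕ} (hn : 2 ≤ n) :
    IsPGroup 2 (MulAut (QuaternionGroup (2 ^ n))) := by
  classical
  haveI : NeZero (2 ^ n) := ⟨pow_ne_zero _ two_ne_zero⟩
  intro g
  have h4 : 4 ≤ 2 ^ n := le_trans (by norm_num) (Nat.pow_le_pow_right (show 0 < 2 by norm_num) hn)
  have hbig : ∀ k : MulAut (QuaternionGroup (2 ^ n)), ∃ i : (ZMod (2 * 2 ^ n))ˣ,
      k (QuaternionGroup.a 1) = QuaternionGroup.a (i : ZMod (2 * 2 ^ n)) := by
    intro k
    have ho : orderOf (k (QuaternionGroup.a 1)) = 2 * 2 ^ n := by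
      rw [MulEquiv.orderOf_eq, QuaternionGroup.orderOf_a_one]
    rcases hk : k (QuaternionGroup.a 1) with i | i
    · rw [hk, QuaternionGroup.orderOf_a] at ho
      refine ⟨ZMod.unitOfCoprime i.val ?_, by rw [ZMod.coe_unitOfCoprime, ZMod.natCast_zmod_val]⟩
      have hg := Nat.gcd_dvd_left (2 * 2 ^ n) i.val
      have h1 := Nat.div_mul_cancel hg
      rw [ho] at h1
      have : Nat.gcd (2 * 2 ^ n) i.val = 1 := by nlinarith
      exact Nat.Coprime.symm this
    · rw [hk, QuaternionGroup.orderOf_xa] at ho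
      omega
  have hfix : ∀ k : MulAut (QuaternionGroup (2 ^ n)), k (QuaternionGroup.a 1) = QuaternionGroup.a 1 →
      k ^ (2 * 2 ^ n) = 1 := by
    intro k hk
    have hpow : ∀ i : ZMod (2 * 2 ^ n), k (QuaternionGroup.a i) = QuaternionGroup.a i := fun i => by
      rw [← ZMod.natCast_zmod_val i, ← QuaternionGroup.a_one_pow, map_pow, hk]
    obtain ⟨j, hj⟩ : ∃ j, k (QuaternionGroup.xa 0) = QuaternionGroup.xa j := by
      rcases hx : k (QuaternionGroup.xa 0) with i | i
      · exact absurd ((k.injective ((hpow i).trans hx.symm))) (by simp)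
      · exact ⟨i, rfl⟩
    have hit : ∀ (t : ℕ) (i : ZMod (2 * 2 ^ n)), (k ^ t) (QuaternionGroup.a i) = QuaternionGroup.a i ∧
        (k ^ t) (QuaternionGroup.xa i) = QuaternionGroup.xa ((t : ZMod (2 * 2 ^ n)) * j + i) := by
      intro t
      induction t with
      | zero => intro i; simp
      | succ t ih =>
        intro i
        rw [pow_succ, MulAut.mul_apply, MulAut.mul_apply, hpow i]
        refine ⟨(ih i).1, ?_⟩
        rw [show (QuaternionGroup.xa i : QuaternionGroup (2 ^ n)) = QuaternionGroup.xa 0 * QuaternionGroup.a i by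
          rw [QuaternionGroup.xa_mul_a, zero_add], map_mul, hj, hpow i, QuaternionGroup.xa_mul_a, (ih _).2,
          Nat.cast_succ, add_mul, one_mul, add_assoc]
    refine MulEquiv.ext fun x => ?_
    cases x with
    | a i => exact (hit _ i).1
    | xa i => rw [(hit _ i).2, ZMod.natCast_self, zero_mul, zero_add]; rfl
  obtain ⟨i, hi⟩ := hbig g
  have hit : ∀ t : ℕ, (g ^ t) (QuaternionGroup.a 1) = QuaternionGroup.a ((i : ZMod (2 * 2 ^ n)) ^ t) := by
    intro t
    induction t with
    | zero => simp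
    | succ t ih =>
      rw [pow_succ', MulAut.mul_apply, ih, ← ZMod.natCast_zmod_val ((i : ZMod (2 * 2 ^ n)) ^ t),
        ← QuaternionGroup.a_one_pow, map_pow, hi,
        ← ZMod.natCast_zmod_val (i : ZMod (2 * 2 ^ n)), ← QuaternionGroup.a_one_pow, ← pow_mul,
        QuaternionGroup.a_one_pow, Nat.cast_mul, ZMod.natCast_zmod_val, ZMod.natCast_zmod_val, pow_succ']
  have hu : (i : ZMod (2 * 2 ^ n)) ^ (2 ^ n) = 1 := by
    have h1 : i ^ Nat.card (ZMod (2 * 2 ^ n))ˣ = 1 := pow_card_eq_one'
    have ht : Nat.totient (2 * 2 ^ n) = 2 ^ n := by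
      rw [← pow_succ', Nat.totient_prime_pow_succ Nat.prime_two]; norm_num
    rw [Nat.card_eq_fintype_card, ZMod.card_units_eq_totient, ht] at h1
    rw [← Units.val_pow_eq_pow_val, h1, Units.val_one]
  refine ⟨n + (n + 1), ?_⟩
  rw [pow_add, pow_mul, pow_succ']
  exact hfix _ (by rw [hit, hu])

/-- The automorphism group of a cyclic `2`-group is a `2`-group. -/
theorem isPGroup_mulAut_cyclic {F : Type*} [Group F] [Finite F] [IsCyclic F] (hF : IsPGroup 2 F) :
    IsPGroup 2 (MulAut F) := by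
  haveI : Fact (Nat.Prime 2) := ⟨Nat.prime_two⟩
  obtain ⟨k, hk⟩ := IsPGroup.iff_card.1 hF
  rcases Nat.eq_zero_or_pos k with rfl | hk0
  · exact IsPGroup.of_card (n := 0) (by rw [IsCyclic.card_mulAut, hk]; rfl)
  · exact IsPGroup.of_card (n := k - 1) (by
      rw [IsCyclic.card_mulAut, hk, Nat.totient_prime_pow Nat.prime_two hk0]; norm_num)

/-- **Solvable fixed-point-free groups modulo the odd core.** -/
theorem IsLike.solvable_cases (h : IsLike G) [Group.IsSolvable G] :
    IsZGroup G ∨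
    (∃ n : ℕ, 1 ≤ n ∧ Nonempty ((G ⧸ Cfsg.pPrimeCore 2 G) ≃* QuaternionGroup (2 ^ n))) ∨
    (∃ f : G →* Equiv.Perm (Fin 4), (f.range = alternatingGroup (Fin 4) ∨ f.range = ⊤) ∧
      Cfsg.pPrimeCore 2 G ≤ f.ker ∧ Nat.card f.ker = 2 * Nat.card (Cfsg.pPrimeCore 2 G)) := by
  classical
  haveI : Fact (Nat.Prime 2) := ⟨Nat.prime_two⟩
  set O := Cfsg.pPrimeCore 2 G with hO
  haveI : O.Normal := (CfsgLib.Solvable.pPrimeCore_spec 2).1
  by_cases h2K : IsPGroup 2 (G ⧸ O)
  · rcases (h.quot_two ⊤ (h2K.to_subgroup ⊤)).2 with hc | ⟨n, hn, ⟨e⟩⟩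
    · left
      haveI := hc
      haveI : IsCyclic (G ⧸ O) := isCyclic_of_surjective Subgroup.topEquiv.toMonoidHom Subgroup.topEquiv.surjective
      haveI : IsZGroup (⊤ : Subgroup G) := h.isZGroup_of_hom ⊤ ((QuotientGroup.mk' O).comp (⊤ : Subgroup G).subtype) (by
        refine (CfsgLib.Solvable.coprime_card_pPrimeCore (p := 2) (G := G)).coprime_dvd_left ?_
        have h1 : (((QuotientGroup.mk' O).comp (⊤ : Subgroup G).subtype).ker).map (⊤ : Subgroup G).subtype ≤ O := by
          rintro _ ⟨x, hx, rfl⟩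
          exact (QuotientGroup.eq_one_iff _).1 hx
        have h2 := Subgroup.card_dvd_of_le h1
        rwa [Subgroup.card_map_of_injective (⊤ : Subgroup G).subtype_injective] at h2) inferInstance
      exact IsZGroup.of_surjective (f := (Subgroup.topEquiv : (⊤ : Subgroup G) ≃* G).toMonoidHom)
        (Subgroup.topEquiv : (⊤ : Subgroup G) ≃* G).surjective
    · exact Or.inr (Or.inl ⟨n, hn, ⟨Subgroup.topEquiv.symm.trans e⟩⟩)
  right; right
  haveI : Group.IsSolvable (G ⧸ O) := inferInstance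
  have hcore : Cfsg.pPrimeCore 2 (G ⧸ O) = ⊥ := CfsgLib.Fitting.pPrimeCore_quotient_eq_bot 2
  set F := Cfsg.pCore 2 (G ⧸ O) with hF
  haveI hFn : F.Normal := (CfsgLib.Solvable.pCore_spec 2).1
  have hFp : IsPGroup 2 F := CfsgLib.Solvable.isPGroup_pCore 2
  have hCF : centralizer (F : Set (G ⧸ O)) ≤ F := CfsgLib.Fitting.centralizer_pCore_le hcore
  let c : (G ⧸ O) →* MulAut F := MulAut.conjNormal
  have hck : c.ker = centralizer (F : Set (G ⧸ O)) := by
    ext x
    rw [MonoidHom.mem_ker, mem_centralizer_iff]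
    constructor
    · intro hx y hy
      have h1 := congrArg Subtype.val (MulEquiv.congr_fun hx ⟨y, hy⟩)
      change x * y * x⁻¹ = y at h1
      exact (mul_inv_eq_iff_eq_mul.1 h1).symm
    · intro hx
      refine MulEquiv.ext fun y => Subtype.ext ?_
      show x * y * x⁻¹ = y
      rw [← hx y y.2, mul_inv_cancel_right]
  have hnot : ¬ IsPGroup 2 (MulAut F) := fun hA => h2K (by
    obtain ⟨a, ha⟩ := IsPGroup.iff_card.1 (hA.to_subgroup c.range)
    obtain ⟨b, hb⟩ := IsPGroup.iff_card.1 (hFp.to_le (hck ▸ hCF))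
    refine IsPGroup.of_card (n := b + a) ?_
    rw [← c.ker.card_mul_index, Subgroup.index_ker, ha, hb, pow_add])
  rcases (h.quot_two F hFp).2 with hc | ⟨n, hn, ⟨e⟩⟩
  · exact absurd (isPGroup_mulAut_cyclic hFp) hnot
  rcases (show n = 1 ∨ 2 ≤ n by omega) with rfl | hn2
  swap
  · exact absurd ((isPGroup_mulAut_quaternion hn2).of_equiv (MulAut.congr e).symm) hnot
  obtain ⟨σ⟩ := Cfsg.Agent.S3742.result
  let ψ : MulAut F ≃* Equiv.Perm (Fin 4) := (MulAut.congr e).trans σ
  let f : G →* Equiv.Perm (Fin 4) := (ψ.toMonoidHom.comp c).comp (QuotientGroup.mk' O)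
  have hfk : f.ker = (centralizer (F : Set (G ⧸ O))).comap (QuotientGroup.mk' O) := by
    rw [← hck]
    ext x
    simp only [MonoidHom.mem_ker, Subgroup.mem_comap, f, MonoidHom.coe_comp, Function.comp_apply]
    exact map_eq_one_iff ψ.toMonoidHom ψ.injective
  have hC2 : Nat.card (centralizer (F : Set (G ⧸ O))) = 2 := by
    rw [Nat.card_congr (Subgroup.subgroupOfEquivOfLe hCF).toEquiv.symm]
    have h1 : (centralizer (F : Set (G ⧸ O))).subgroupOf F = center F := by
      ext x
      rw [mem_subgroupOf, mem_centralizer_iff, Subgroup.mem_center_iff]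
      exact ⟨fun hx y => Subtype.ext (hx y y.2), fun hx y hy => congrArg Subtype.val (hx ⟨y, hy⟩)⟩
    rw [h1, Nat.card_congr (Subgroup.centerCongr e).toEquiv, Nat.card_eq_fintype_card]
    decide +kernel
  have hidx : f.ker.index = (centralizer (F : Set (G ⧸ O))).index := by
    rw [hfk, Subgroup.index_comap_of_surjective _ (QuotientGroup.mk'_surjective O)]
  have hkc : Nat.card f.ker = 2 * Nat.card O := by
    have h1 := f.ker.card_mul_index
    have h2 := (centralizer (F : Set (G ⧸ O))).card_mul_index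
    rw [hC2, ← hidx, ← Subgroup.index_eq_card] at h2
    rw [← O.card_mul_index, ← h2, ← mul_assoc, mul_comm (Nat.card O)] at h1
    exact Nat.eq_of_mul_eq_mul_right (Nat.pos_of_ne_zero Subgroup.index_ne_zero_of_finite) h1
  refine ⟨f, ?_, fun x hx => ?_, hkc⟩
  · have hr24 : Nat.card f.range ∣ 24 := by
      have := Subgroup.card_subgroup_dvd_card f.range
      rwa [card_types.2.2.1] at this
    have hKcard : Nat.card (G ⧸ O) = 2 * Nat.card f.range := by
      rw [← (centralizer (F : Set (G ⧸ O))).card_mul_index, hC2, ← hidx, Subgroup.index_ker]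
    have hF8 : 8 ∣ Nat.card (G ⧸ O) := by
      have := Subgroup.card_subgroup_dvd_card F
      rwa [Nat.card_congr e.toEquiv, Nat.card_eq_fintype_card, QuaternionGroup.card] at this
    have h12 : Nat.card f.range = 12 ∨ Nat.card f.range = 24 := by
      have h3 : Nat.card f.range ≤ 24 := Nat.le_of_dvd (by norm_num) hr24
      have h0 : 0 < Nat.card f.range := Nat.card_pos
      rw [hKcard] at hF8
      have : Nat.card f.range ≠ 4 ∧ Nat.card f.range ≠ 8 := by
        constructor <;> intro e'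
        · exact h2K (IsPGroup.of_card (n := 3) (by rw [hKcard, e']; rfl))
        · exact h2K (IsPGroup.of_card (n := 4) (by rw [hKcard, e']; rfl))
      interval_cases Nat.card f.range <;> simp_all
    rcases h12 with h12 | h12
    · left
      refine Equiv.Perm.eq_alternatingGroup_of_index_eq_two ?_
      have := f.range.card_mul_index
      rw [h12, card_types.2.2.1] at this
      omega
    · exact Or.inr (Subgroup.eq_top_of_card_eq _ (by rw [h12, card_types.2.2.1]))
  · rw [hfk, Subgroup.mem_comap, show QuotientGroup.mk' O x = 1 from (QuotientGroup.eq_one_iff x).2 hx]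
    exact one_mem _

/-- The map of a quaternion group onto the four-group. -/
def quatToFour {m : ℕ} (hm : Even m) : QuaternionGroup m →* DihedralGroup 2 :=
  MonoidHom.mk'
    (fun x => match x with
      | .a i => DihedralGroup.r (ZMod.castHom (dvd_mul_right 2 m) (ZMod 2) i)
      | .xa i => DihedralGroup.sr (ZMod.castHom (dvd_mul_right 2 m) (ZMod 2) i))
    (fun x y => by
      have hm0 : ((m : ℕ) : ZMod 2) = 0 := (ZMod.natCast_eq_zero_iff m 2).2 (even_iff_two_dvd.1 hm)
      have hneg : ∀ u : ZMod 2, -u = u := by decide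
      cases x <;> cases y <;>
        simp only [QuaternionGroup.a_mul_a, QuaternionGroup.a_mul_xa, QuaternionGroup.xa_mul_a,
          QuaternionGroup.xa_mul_xa, DihedralGroup.r_mul_r, DihedralGroup.r_mul_sr, DihedralGroup.sr_mul_r,
          DihedralGroup.sr_mul_sr, map_add, map_sub, map_natCast, hm0, zero_add])

theorem quatToFour_surjective {m : ℕ} (hm : Even m) : Function.Surjective (quatToFour hm) := by
  intro y
  cases y with
  | r i => exact ⟨.a (i.val : ZMod (2 * m)), by
      show DihedralGroup.r _ = _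
      rw [map_natCast, ZMod.natCast_zmod_val]⟩
  | sr i => exact ⟨.xa (i.val : ZMod (2 * m)), by
      show DihedralGroup.sr _ = _
      rw [map_natCast, ZMod.natCast_zmod_val]⟩

theorem quatToFour_ker {m : ℕ} [NeZero m] (hm : Even m) {x : QuaternionGroup m} (hx : quatToFour hm x = 1) :
    (∃ y, y * y = x) ∧ x ∈ zpowers (QuaternionGroup.a 1) := by
  cases x with
  | xa i => cases hx
  | a i =>
    refine ⟨?_, ⟨(i.val : ℤ), by
      show (QuaternionGroup.a 1 : QuaternionGroup m) ^ (i.val : ℤ) = _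
      rw [zpow_natCast, QuaternionGroup.a_one_pow, ZMod.natCast_zmod_val]⟩⟩
    have h1 : (ZMod.castHom (dvd_mul_right 2 m) (ZMod 2)) i = 0 := DihedralGroup.r.inj hx
    rw [← ZMod.natCast_zmod_val i, map_natCast, ZMod.natCast_eq_zero_iff] at h1
    obtain ⟨j, hj⟩ := h1
    exact ⟨.a (j : ZMod (2 * m)), by
      rw [QuaternionGroup.a_mul_a, ← Nat.cast_add, ← two_mul, ← hj, ZMod.natCast_zmod_val]⟩

/-- **Existence and uniqueness in the solvable case.** -/
theorem IsLike.solvable_unique (h : IsLike G) [Group.IsSolvable G] :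
    ∃ N₀ : Subgroup G, N₀.Normal ∧ IsZGroup N₀ ∧
      (N₀ = ⊤ ∨ (∃ f : G →* DihedralGroup 2, Function.Surjective f ∧ f.ker = N₀) ∨
        (∃ f : G →* alternatingGroup (Fin 4), Function.Surjective f ∧ f.ker = N₀) ∨
        (∃ f : G →* Equiv.Perm (Fin 4), Function.Surjective f ∧ f.ker = N₀)) ∧
      ∀ N : Subgroup G, N.Normal → IsZGroup N → IsType N → N = N₀ := by
  classical
  haveI : Fact (Nat.Prime 2) := ⟨Nat.prime_two⟩
  set O := Cfsg.pPrimeCore 2 G with hO
  haveI : O.Normal := (CfsgLib.Solvable.pPrimeCore_spec 2).1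
  have hOk : ∀ {T : Type} [Group T] (N : Subgroup G) (F : (G ⧸ O) →* T), Function.Injective F →
      (Nat.card ((F.comp (QuotientGroup.mk' O)).comp N.subtype).ker).Coprime 2 := by
    intro T _ N F hF
    refine (CfsgLib.Solvable.coprime_card_pPrimeCore (p := 2) (G := G)).coprime_dvd_left ?_
    have h1 : (((F.comp (QuotientGroup.mk' O)).comp N.subtype).ker).map N.subtype ≤ O := by
      rintro _ ⟨x, hx, rfl⟩
      exact (QuotientGroup.eq_one_iff _).1 ((map_eq_one_iff F hF).1 hx)
    have h2 := Subgroup.card_dvd_of_le h1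
    rwa [Subgroup.card_map_of_injective N.subtype_injective] at h2
  have hKfour : ¬ HasFour (G ⧸ O) := no_four fun R hR => (h.quot_two R hR).1
  -- a subgroup of one of the types is not contained in the odd core
  have hnotO : ∀ N : Subgroup G, IsType N → N ≠ ⊤ → N ≠ O := by
    rintro _ hN hne rfl
    obtain ⟨Q, _, f, hf, hk, hfour, -, -⟩ := hN.unfold hne
    haveI : Finite Q := Finite.of_surjective f hf
    obtain ⟨u, v, h1, h2, h3, h4, h5, h6⟩ := hfour
    let e : (G ⧸ O) ≃* Q := (QuotientGroup.quotientMulEquivOfEq hk.symm).trans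
      (QuotientGroup.quotientKerEquivOfSurjective f hf)
    exact hKfour ⟨e.symm u, e.symm v, by rw [← map_mul, h1, map_mul], by rw [← map_mul, h2, map_one],
      by rw [← map_mul, h3, map_one], fun e' => h4 (by simpa using congrArg e e'),
      fun e' => h5 (by simpa using congrArg e e'), fun e' => h6 (e.symm.injective e')⟩
  rcases h.solvable_cases with hZ | ⟨n, hn, ⟨e⟩⟩ | ⟨f, hrange, hOle, hker⟩
  · refine ⟨⊤, inferInstance, inferInstance, Or.inl rfl, fun N hNn hNz hN => by_contra fun hne => ?_⟩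
    obtain ⟨Q, _, f, hf, hk, hfour, -, -⟩ := hN.unfold hne
    haveI : Finite Q := Finite.of_surjective f hf
    haveI : IsZGroup Q := IsZGroup.of_surjective hf
    exact no_four (fun R hR => unique_of_isZGroup R hR) hfour
  · haveI : NeZero (2 ^ n) := ⟨pow_ne_zero _ two_ne_zero⟩
    have hev : Even (2 ^ n) := (Nat.even_pow.2 ⟨even_two, by omega⟩)
    let f : G →* DihedralGroup 2 := ((quatToFour hev).comp e.toMonoidHom).comp (QuotientGroup.mk' O)
    have hf : Function.Surjective f :=
      ((quatToFour_surjective hev).comp e.surjective).comp (QuotientGroup.mk'_surjective O)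
    have hz : IsZGroup f.ker := by
      let Φ := (e.toMonoidHom.comp (QuotientGroup.mk' O)).comp f.ker.subtype
      have hr : Φ.range ≤ zpowers (QuaternionGroup.a 1) := by
        rintro _ ⟨x, rfl⟩
        exact (quatToFour_ker hev x.2).2
      exact h.isZGroup_of_hom f.ker Φ (hOk f.ker e.toMonoidHom e.injective)
        (isCyclic_of_injective (Subgroup.inclusion hr) (Subgroup.inclusion_injective hr))
    refine ⟨f.ker, inferInstance, hz, Or.inr (Or.inl ⟨f, hf, rfl⟩), fun N hNn hNz hN => ?_⟩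
    have hfi : f.ker.index = 4 := by rw [index_eq_card f hf, card_types.1]
    rcases eq_or_ne N ⊤ with rfl | hne
    · exfalso
      haveI : IsZGroup G := IsZGroup.of_surjective (f := (Subgroup.topEquiv : (⊤ : Subgroup G) ≃* G).toMonoidHom)
        (Subgroup.topEquiv : (⊤ : Subgroup G) ≃* G).surjective
      haveI : IsZGroup (DihedralGroup 2) := IsZGroup.of_surjective hf
      exact no_four (fun R hR => unique_of_isZGroup R hR) hasFour_dihedral
    obtain ⟨Q, _, g, hg, hk, -, -, hc⟩ := hN.unfold hne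
    haveI : Finite Q := Finite.of_surjective g hg
    have hOi : O.index = 2 ^ (n + 2) := by
      rw [Subgroup.index_eq_card, Nat.card_congr e.toEquiv, Nat.card_eq_fintype_card, QuaternionGroup.card]
      ring
    have hQ : Nat.card Q = 4 := by
      have h1 : N.index ∣ O.index := Subgroup.index_dvd_of_le (hN.core_le)
      rw [← hk, index_eq_card g hg, hOi] at h1
      obtain ⟨k, -, hk2⟩ := (Nat.dvd_prime_pow Nat.prime_two).1 h1
      have hk7 : k < 7 := by
        by_contra hlt
        have := Nat.pow_le_pow_right (show 0 < 2 by norm_num) (show 7 ≤ k by omega)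
        omega
      interval_cases k <;> simp_all
    have hle : f.ker ≤ N := by
      intro x hx
      obtain ⟨y, hy⟩ := (quatToFour_ker hev hx).1
      obtain ⟨z, rfl⟩ := e.surjective y
      obtain ⟨w, rfl⟩ := QuotientGroup.mk'_surjective O z
      rw [← map_mul, ← map_mul] at hy
      have h1 : (w * w)⁻¹ * x ∈ O := (QuotientGroup.eq_iff_div_mem.1 (e.injective hy).symm) |> fun hd => by
        have := Subgroup.Normal.conj_mem ‹O.Normal› _ hd (w * w)⁻¹
        simpa [div_eq_mul_inv, mul_assoc] using this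
      have hsq : w * w ∈ N := by
        rcases hN with hN | ⟨g', hg', hk'⟩ | ⟨g', hg', hk'⟩ | ⟨g', hg', hk'⟩ | ⟨g', hg', hk'⟩ | ⟨g', hg', hk'⟩
        · exact absurd hN hne
        · rw [← hk', MonoidHom.mem_ker, map_mul]
          exact (by decide : ∀ u : DihedralGroup 2, u * u = 1) _
        all_goals
          have h3 := index_eq_card g' hg'
          rw [hk', ← hk, index_eq_card g hg, hQ] at h3
          have := card_types
          omega
      have := mul_mem hsq (hN.core_le h1)
      rwa [mul_inv_cancel_left] at this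
    refine (Subgroup.eq_of_le_of_card_ge hle ?_).symm
    refine le_of_eq ?_
    have h1 := N.card_mul_index
    rw [← f.ker.card_mul_index, hfi, ← hk, index_eq_card g hg, hQ] at h1
    rw [← hk]
    omega
  · have htype : (∃ f' : G →* alternatingGroup (Fin 4), Function.Surjective f' ∧ f'.ker = f.ker) ∨
        (∃ f' : G →* Equiv.Perm (Fin 4), Function.Surjective f' ∧ f'.ker = f.ker) := by
      rcases hrange with hr | hr
      · refine Or.inl ⟨f.codRestrict _ fun x => (by rw [← hr]; exact ⟨x, rfl⟩), fun y => ?_, MonoidHom.ker_codRestrict _ _ _⟩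
        obtain ⟨x, hx⟩ : (y : Equiv.Perm (Fin 4)) ∈ f.range := by rw [hr]; exact y.2
        exact ⟨x, Subtype.ext hx⟩
      · exact Or.inr ⟨f, MonoidHom.range_eq_top.1 hr, rfl⟩
    have hz : IsZGroup f.ker := by
      let Φ := ((MonoidHom.id (G ⧸ O)).comp (QuotientGroup.mk' O)).comp f.ker.subtype
      refine h.isZGroup_of_hom f.ker Φ ?_ ?_
      · refine (CfsgLib.Solvable.coprime_card_pPrimeCore (p := 2) (G := G)).coprime_dvd_left ?_
        have h1 : Φ.ker.map f.ker.subtype ≤ O := by
          rintro _ ⟨x, hx, rfl⟩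
          exact (QuotientGroup.eq_one_iff _).1 hx
        have h2 := Subgroup.card_dvd_of_le h1
        rwa [Subgroup.card_map_of_injective f.ker.subtype_injective] at h2
      · refine isCyclic_of_prime_card (p := 2) ?_
        have hΦ : Φ.ker = O.subgroupOf f.ker := by
          ext x
          exact QuotientGroup.eq_one_iff _
        have h1 := Φ.ker.card_mul_index
        rw [Subgroup.index_ker, hΦ, Nat.card_congr (Subgroup.subgroupOfEquivOfLe hOle).toEquiv, hker, mul_comm 2] at h1
        exact Nat.eq_of_mul_eq_mul_left Nat.card_pos h1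
    refine ⟨f.ker, inferInstance, hz, Or.inr (Or.inr htype), fun N hNn hNz hN => ?_⟩
    have hON : O ≤ N := hN.core_le
    rcases eq_or_ne N ⊤ with rfl | hne
    · exfalso
      haveI : IsZGroup G := IsZGroup.of_surjective (f := (Subgroup.topEquiv : (⊤ : Subgroup G) ≃* G).toMonoidHom)
        (Subgroup.topEquiv : (⊤ : Subgroup G) ≃* G).surjective
      rcases htype with ⟨g, hg, -⟩ | ⟨g, hg, -⟩
      · haveI : IsZGroup (alternatingGroup (Fin 4)) := IsZGroup.of_surjective hg
        exact no_four (fun R hR => unique_of_isZGroup R hR) hasFour_alt_four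
      · haveI : IsZGroup (Equiv.Perm (Fin 4)) := IsZGroup.of_surjective hg
        exact no_four (fun R hR => unique_of_isZGroup R hR) hasFour_perm_four
    -- the image of `N` is normalised by the alternating group
    have hA : alternatingGroup (Fin 4) ≤ f.range := by
      rcases hrange with hr | hr <;> rw [hr]
      exact le_top
    haveI := hNz
    haveI : IsZGroup (N.map f) := IsZGroup.of_surjective (f.subgroupMap_surjective N)
    have hle : N ≤ f.ker := (Subgroup.map_eq_bot_iff N).1 (eq_bot_of_normalized (N.map f) fun g hg r hr => by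
      obtain ⟨w, rfl⟩ := hA (Equiv.Perm.mem_alternatingGroup.2 hg)
      obtain ⟨x, hx, rfl⟩ := hr
      exact ⟨w * x * w⁻¹, hNn.conj_mem x hx w, by simp⟩)
    refine Subgroup.eq_of_le_of_card_ge hle ?_
    rw [hker]
    have h1 : Nat.card O ∣ Nat.card N := Subgroup.card_dvd_of_le hON
    have h2 : Nat.card N ≠ Nat.card O := fun e' =>
      hnotO N hN hne (Subgroup.eq_of_le_of_card_ge hON e'.le).symm
    obtain ⟨k, hk⟩ := h1
    have : 0 < Nat.card N := Nat.card_pos
    rcases k with _ | _ | k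
    · rw [hk, mul_zero] at this; omega
    · exact absurd (by rw [hk]; ring) h2
    · rw [hk]; nlinarith

end CfsgLib.ComplType
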