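import Cfsg.Agent.Zassenhaus.RegularBasic
import Cfsg.Agent.S3742
import Mathlib.GroupTheory.Nilpotent

/-!
Linear groups over a prime field that are regular on the non-zero vectors and have no irreducible cyclic
normal subgroup: the minimal non-abelian normal subgroup centralising a maximal abelian normal subgroup.
-/

set_option autoImplicit false
set_option linter.unusedSectionVars false
set_option linter.style.haveILetI false

namespace CfsgLib.RegularLinear

open Subgroup CfsgLib.Zassenhaus
open scoped commutatorElement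

/-- A regular linear group with no irreducible cyclic normal subgroup, and a maximal abelian normal
subgroup of it. -/
structure Setting {p : ℕ} [Fact p.Prime] {V : Type*} [AddCommGroup V] [Module (ZMod p) V] [Finite V]
    (H : Subgroup (V ≃ₗ[ZMod p] V)) (A : Subgroup H) : Prop where
  reg : ∀ v w : V, v ≠ 0 → w ≠ 0 → ∃! h : H, (h : V ≃ₗ[ZMod p] V) v = w
  red : ∀ A : Subgroup H, A.Normal → IsCyclic A → ∃ W : Submodule (ZMod p) V, W ≠ ⊥ ∧ W ≠ ⊤ ∧
    ∀ a ∈ A, ∀ v ∈ W, ((a : H) : V ≃ₗ[ZMod p] V) v ∈ W
  normal : A.Normal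
  comm : IsMulCommutative A
  max : ∀ B : Subgroup H, B.Normal → IsMulCommutative B → A ≤ B → B = A

/-- Two commuting subgroups that are commutative generate a commutative subgroup. -/
theorem comm_sup {X : Type*} [Group X] {B C : Subgroup X} (hB : IsMulCommutative B) (hC : IsMulCommutative C)
    (hBC : ∀ b ∈ B, ∀ c ∈ C, b * c = c * b) : IsMulCommutative (B ⊔ C : Subgroup X) := by
  have h1 : B ⊔ C ≤ centralizer ((B ⊔ C : Subgroup X) : Set X) := by
    refine sup_le (fun b hb => mem_centralizer_iff.2 fun x hx => ?_) (fun c hc => mem_centralizer_iff.2 fun x hx => ?_)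
    · have : B ⊔ C ≤ centralizer {b} := sup_le
        (fun y hy => mem_centralizer_singleton_iff.2 (setLike_mul_comm hy hb))
        (fun y hy => mem_centralizer_singleton_iff.2 (hBC b hb y hy).symm)
      exact mem_centralizer_singleton_iff.1 (this hx)
    · have : B ⊔ C ≤ centralizer {c} := sup_le
        (fun y hy => mem_centralizer_singleton_iff.2 (hBC y hy c hc))
        (fun y hy => mem_centralizer_singleton_iff.2 (setLike_mul_comm hy hc))
      exact mem_centralizer_singleton_iff.1 (this hx)
  exact .of_setLike_mul_comm fun a ha b hb => (h1 hb) a ha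

theorem normal_map_commutator {X : Type*} [Group X] (N : Subgroup X) [N.Normal] :
    ((commutator N).map N.subtype).Normal :=
  ConjAct.normal_of_characteristic_of_normal

variable {p : ℕ} [Fact p.Prime] {V : Type*} [AddCommGroup V] [Module (ZMod p) V] [Finite V]
  {H : Subgroup (V ≃ₗ[ZMod p] V)} {A : Subgroup H}

theorem Setting.finite (_hS : Setting H A) : Finite H := by
  haveI : Finite (V ≃ₗ[ZMod p] V) := Finite.of_injective (fun e => (e : V → V)) DFunLike.coe_injective
  infer_instance

/-- A subgroup that is abelian, normal and centralised by `A` lies in `A`. -/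
theorem Setting.le_of_comm (hS : Setting H A) {B : Subgroup H} (hBn : B.Normal) (hBc : IsMulCommutative B)
    (hBA : B ≤ centralizer (A : Set H)) : B ≤ A := by
  haveI := hS.normal
  have h := hS.max (A ⊔ B) inferInstance
    (comm_sup hS.comm hBc fun a ha b hb => hBA hb a ha) le_sup_left
  exact h ▸ le_sup_right

theorem Setting.le_centralizer (hS : Setting H A) : A ≤ centralizer (A : Set H) := fun a ha =>
  mem_centralizer_iff.2 fun b hb => by haveI := hS.comm; exact setLike_mul_comm hb ha

/-- The numerical data attached to `A`. -/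
theorem Setting.data (hS : Setting H A) :
    Nontrivial V ∧ IsCyclic A ∧ ¬ IsMulCommutative (centralizer (A : Set H)) ∧
      ∃ k m : ℕ, 0 < k ∧ 2 ≤ m ∧ Module.finrank (ZMod p) V = k * m ∧ Nat.card A ∣ p ^ k - 1 ∧
        (centralizer (A : Set H)).index ∣ k ∧ Nat.card H = p ^ (k * m) - 1 ∧
        (∀ v : V, v ≠ 0 → Module.finrank (ZMod p) (cyc A v) = k) ∧
        (k = 1 → (∀ a ∈ A, ∃ c : ZMod p, ∀ v, ((a : H) : V ≃ₗ[ZMod p] V) v = c • v) ∧
          centralizer (A : Set H) = ⊤) := by
  haveI := hS.finite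
  haveI := hS.normal
  haveI := hS.comm
  haveI := Module.Finite.of_finite (R := ZMod p) (M := V)
  have hV : Nontrivial V := by
    obtain ⟨W, hW, hW', -⟩ := hS.red ⊥ inferInstance inferInstance
    by_contra h
    rw [not_nontrivial_iff_subsingleton] at h
    exact hW (Submodule.eq_bot_iff _ |>.2 fun x _ => Subsingleton.elim x 0)
  obtain ⟨k, m, hk, hkm, hcyc, hdvd, hidx, hrank, hm1, hk1⟩ := env_facts A hS.reg
  have hm : 2 ≤ m := by
    by_contra hlt
    obtain ⟨W, hW, hW', hinv⟩ := hS.red A hS.normal hcyc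
    obtain ⟨v, hv, hv0⟩ := Submodule.exists_mem_ne_zero_of_ne_bot hW
    have h1 := Submodule.finrank_mono (cyc_le_invariant A hinv hv)
    have h2 := Submodule.finrank_lt hW'
    rw [hrank v hv0] at h1
    rw [hkm] at h2
    have : k * m ≤ k := by
      have := Nat.mul_le_mul_left k (show m ≤ 1 by omega)
      omega
    omega
  have hcard : Nat.card H = p ^ (k * m) - 1 := by
    rw [regular_card H hS.reg hV, Module.natCard_eq_pow_finrank (K := ZMod p), Nat.card_zmod, hkm]
  refine ⟨hV, hcyc, fun hC => ?_, k, m, hk, hm, hkm, hdvd, hidx, hcard, hrank, hk1⟩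
  have heq : centralizer (A : Set H) = A := hS.max _ inferInstance hC hS.le_centralizer
  rw [heq] at hidx
  have h1 := Subgroup.card_mul_index A
  rw [hcard] at h1
  have hp : p.Prime := Fact.out
  have h2 : A.index ≤ k := Nat.le_of_dvd hk hidx
  have hpk : 2 ≤ p ^ k := le_trans hp.two_le (Nat.le_self_pow hk.ne' p)
  have h3 : Nat.card A ≤ p ^ k - 1 := Nat.le_of_dvd (by omega) hdvd
  have h4 : Nat.card A * A.index ≤ (p ^ k - 1) * k := Nat.mul_le_mul h3 h2
  have h5 : p ^ k * p ^ k ≤ p ^ (k * m) := by
    rw [← pow_add]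
    exact Nat.pow_le_pow_right hp.pos (by nlinarith)
  have h6 : k < p ^ k := Nat.lt_pow_self hp.one_lt
  have h7 : (p ^ k - 1) * k + (p ^ k - 1) * 1 ≤ (p ^ k - 1) * p ^ k := by
    rw [← mul_add]; exact Nat.mul_le_mul_left _ h6
  have h8 : (p ^ k - 1) * p ^ k + p ^ k = p ^ k * p ^ k := by
    rw [Nat.sub_mul, one_mul, Nat.sub_add_cancel (Nat.le_mul_self _)]
  omega

/-- The restriction to a subgroup of the fixed-point-free representation. -/
theorem Setting.fpf (hS : Setting H A) :
    ∃ (d : ℕ) (τ : H →* Matrix (Fin d) (Fin d) ℂ), 0 < d ∧ IsFpfAlg τ := by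
  haveI := hS.finite
  exact regular_rep H hS.reg hS.data.1

/-- A minimal non-abelian normal subgroup centralising `A`. -/
structure Minimal (H : Subgroup (V ≃ₗ[ZMod p] V)) (A N : Subgroup H) : Prop where
  setting : Setting H A
  normal : N.Normal
  le : N ≤ centralizer (A : Set H)
  nonabelian : ¬ IsMulCommutative N
  min : ∀ M : Subgroup H, M.Normal → M ≤ N → ¬ IsMulCommutative M → M = N

theorem Setting.exists_minimal (hS : Setting H A) : ∃ N : Subgroup H, Minimal H A N := by
  haveI := hS.finite
  haveI := hS.normal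
  obtain ⟨-, -, hC, -⟩ := hS.data
  obtain ⟨N, hN, hmin⟩ := Finite.exists_le_minimal
    (p := fun M : Subgroup H => M.Normal ∧ M ≤ centralizer (A : Set H) ∧ ¬ IsMulCommutative M)
    (a := centralizer (A : Set H)) ⟨inferInstance, le_rfl, hC⟩
  exact ⟨N, hS, hmin.1.1, hmin.1.2.1, hmin.1.2.2,
    fun M h1 h2 h3 => hmin.eq_of_le ⟨h1, h2.trans hmin.1.2.1, h3⟩ h2⟩

variable {N : Subgroup H}

/-- The two possibilities for `N`. -/
theorem Minimal.iso (hM : Minimal H A N) :
    Nonempty (N ≃* QuaternionGroup 2) ∨ Nonempty (N ≃* SL25) := by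
  classical
  haveI := hM.setting.finite
  haveI := hM.normal
  obtain ⟨d, τ, hd, hτ⟩ := hM.setting.fpf
  haveI : Nonempty (Fin d) := ⟨⟨0, hd⟩⟩
  haveI : Nontrivial N := by
    by_contra h
    rw [not_nontrivial_iff_subsingleton] at h
    exact hM.nonabelian ⟨⟨fun a b => Subsingleton.elim _ _⟩⟩
  by_cases hperf : commutator N = ⊤
  · exact Or.inr (perfect_iso (hτ.restrict N) hperf)
  refine Or.inl ?_
  -- the derived subgroup is abelian, hence central
  set D := (commutator N).map N.subtype with hD
  have hDn : D.Normal := normal_map_commutator N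
  have hDle : D ≤ N := map_subtype_le _
  have hDc : IsMulCommutative D := by
    by_contra hne
    have h := hM.min D hDn hDle hne
    exact hperf (map_injective N.subtype_injective (by rw [← hD, h, ← MonoidHom.range_eq_map, range_subtype]))
  have hDA : D ≤ A := hM.setting.le_of_comm hDn hDc (hDle.trans hM.le)
  have hcen : commutator N ≤ center N := fun x hx => Subgroup.mem_center_iff.2 fun y =>
    Subtype.ext (hM.le y.2 x (hDA ⟨x, hx, rfl⟩)).symm
  haveI hnil : Group.IsNilpotent N := by
    haveI : Group.IsNilpotent (N ⧸ commutator N) :=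
      (inferInstance : Group.IsNilpotent (Abelianization N))
    exact Subgroup.isNilpotent_of_ker_le_center (QuotientGroup.mk' (commutator N))
      (by rw [QuotientGroup.ker_mk']; exact hcen)
  -- a non-abelian Sylow subgroup is everything
  obtain ⟨q, hq, P, hP⟩ : ∃ (q : ℕ) (_ : Fact q.Prime) (P : Sylow q N), ¬ IsMulCommutative (P : Subgroup N) := by
    by_contra hall
    push Not at hall
    refine hM.nonabelian ⟨⟨fun a b => ?_⟩⟩
    have hn : ∀ {q : ℕ} [Fact q.Prime] (P : Sylow q N), (P : Subgroup N).Normal := fun P => inferInstance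
    let e := Sylow.directProductOfNormal hn
    refine e.symm.injective ?_
    rw [map_mul, map_mul]
    funext r P
    haveI := hall r.1 ⟨Nat.prime_of_mem_primeFactors r.2⟩ P
    exact Subtype.ext (setLike_mul_comm (e.symm a r P).2 (e.symm b r P).2)
  haveI hPn : (P : Subgroup N).Normal := inferInstance
  haveI : (P : Subgroup N).Characteristic := P.characteristic_of_normal hPn
  set Q := (P : Subgroup N).map N.subtype with hQ
  have hQn : Q.Normal := ConjAct.normal_of_characteristic_of_normal
  have hQN : Q = N := by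
    refine hM.min Q hQn (map_subtype_le _) fun hc => hP ?_
    exact .of_setLike_mul_comm fun a ha b hb =>
      Subtype.ext (setLike_mul_comm (S := Subgroup H) (s := Q) ⟨a, ha, rfl⟩ ⟨b, hb, rfl⟩)
  have hNq : IsPGroup q N := by
    have h := P.2.map N.subtype
    rwa [← hQ, hQN] at h
  rcases hτ.cyclic_or_quaternion hNq with hc | ⟨-, n, hn, ⟨e⟩⟩
  · haveI := hc
    exact (hM.nonabelian inferInstance).elim
  have hn1 : n = 1 := by
    have h1 : e.symm (⁅(QuaternionGroup.a 1 : QuaternionGroup (2 ^ n)), QuaternionGroup.xa 0⁆) ∈ center N := by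
      rw [map_commutatorElement]
      exact hcen (commutator_mem_commutator (mem_top _) (mem_top _))
    have h2 := congrArg e (Subgroup.mem_center_iff.1 h1 (e.symm (QuaternionGroup.xa 0)))
    simp only [map_mul, MulEquiv.apply_symm_apply, commutatorElement_def, show (QuaternionGroup.a 1 : QuaternionGroup (2 ^ n))⁻¹ = QuaternionGroup.a (-1) from rfl,
      show (QuaternionGroup.xa 0 : QuaternionGroup (2 ^ n))⁻¹ = QuaternionGroup.xa ((2 ^ n : ℕ) + 0) from rfl,
      QuaternionGroup.a_mul_xa, QuaternionGroup.xa_mul_a, QuaternionGroup.xa_mul_xa,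
      QuaternionGroup.xa.injEq] at h2
    by_contra hne
    obtain ⟨j, rfl⟩ : ∃ j, n = j + 2 := ⟨n - 2, by omega⟩
    have h4 : ((4 : ℕ) : ZMod (2 * 2 ^ (j + 2))) = 0 := by
      push_cast
      have hq0 : ((2 ^ (j + 2) : ℕ) : ZMod (2 * 2 ^ (j + 2))) * 2 = 0 := by
        have := ZMod.natCast_self (2 * 2 ^ (j + 2))
        push_cast at this ⊢
        linear_combination this
      push_cast at h2 hq0
      linear_combination h2 - 2 * hq0
    rw [ZMod.natCast_eq_zero_iff] at h4
    have h5 := Nat.le_of_dvd (by norm_num) h4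
    have h6 : 2 ^ 2 ≤ 2 ^ (j + 2) := Nat.pow_le_pow_right (by norm_num) (by omega)
    omega
  subst hn1
  exact ⟨e⟩

/-- In the quaternion case nothing outside `A` centralises both `A` and `N`. -/
theorem Minimal.inf_eq (hM : Minimal H A N) (e : N ≃* QuaternionGroup 2) :
    centralizer (A : Set H) ⊓ centralizer (N : Set H) = A := by
  classical
  haveI := hM.setting.finite
  haveI := hM.normal
  haveI := hM.setting.normal
  haveI := hM.setting.comm
  obtain ⟨d, τ, hd, hτ⟩ := hM.setting.fpf
  haveI : Nonempty (Fin d) := ⟨⟨0, hd⟩⟩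
  set K := centralizer (A : Set H) ⊓ centralizer (N : Set H) with hK
  haveI hKn : K.Normal := inferInstance
  have hAK : A ≤ K := le_inf hM.setting.le_centralizer fun a ha =>
    mem_centralizer_iff.2 fun n hn => (hM.le hn a ha).symm
  set x : H := ((e.symm (QuaternionGroup.a 1) : N) : H) with hx
  set y : H := ((e.symm (QuaternionGroup.xa 0) : N) : H) with hy
  have hx4 : orderOf x = 4 := by
    rw [hx, orderOf_coe, MulEquiv.orderOf_eq, QuaternionGroup.orderOf_a_one]
  have hxy : x * y ≠ y * x := fun h => by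
    have h' : e.symm (QuaternionGroup.a 1) * e.symm (QuaternionGroup.xa 0) =
        e.symm (QuaternionGroup.xa 0) * e.symm (QuaternionGroup.a 1) := Subtype.ext h
    rw [← map_mul, ← map_mul] at h'
    exact absurd (e.symm.injective h') (by decide)
  -- no element of order four in `K`
  have hno4 : ∀ b ∈ K, orderOf b ≠ 4 := by
    intro b hb hb4
    have hbN : ∀ z ∈ N, z * b = b * z := fun z hz => hb.2 z hz
    have hxN : x ∈ N := (e.symm _).2
    have hyN : y ∈ N := (e.symm _).2
    have hcb : Commute b x := (hbN x hxN).symm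
    have h2 : ∀ z : H, orderOf z = 4 → orderOf (z ^ 2) = 2 := fun z hz => by
      rw [orderOf_pow' z (by norm_num), hz]; norm_num
    have hb2 : b ^ 2 = x ^ 2 := by
      have h := hτ.mem_zpowers_of_commute Nat.prime_two (h2 x hx4) (h2 b hb4) (hcb.symm.pow_pow 2 2)
      rw [← mem_powers_iff_mem_zpowers] at h
      obtain ⟨i, hi⟩ := h
      have hi' : (x ^ 2) ^ i = b ^ 2 := hi
      rw [← pow_mod_orderOf, h2 x hx4] at hi'
      rcases Nat.mod_two_eq_zero_or_one i with h0 | h0 <;> rw [h0] at hi'
      · exact absurd (by rw [← hi', pow_zero, orderOf_one]) (show orderOf (b ^ 2) ≠ 1 by rw [h2 b hb4]; norm_num)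
      · rw [← hi', pow_one]
    have hbx : b * x⁻¹ ∈ zpowers x := by
      rcases eq_or_ne (b * x⁻¹) 1 with h1 | h1
      · rw [h1]; exact one_mem _
      have hsq : (b * x⁻¹) ^ 2 = 1 := by
        rw [hcb.inv_right.mul_pow, inv_pow, hb2, mul_inv_cancel]
      haveI : Fact (Nat.Prime 2) := ⟨Nat.prime_two⟩
      have h := hτ.mem_zpowers_of_commute Nat.prime_two (h2 x hx4) (orderOf_eq_prime hsq h1)
        ((hcb.symm.mul_right (Commute.refl x).inv_right).pow_left 2)
      exact zpowers_le.2 (pow_mem (mem_zpowers x) 2) h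
    have hbz : b ∈ zpowers x := by
      have := mul_mem hbx (mem_zpowers x)
      rwa [inv_mul_cancel_right] at this
    rw [← mem_powers_iff_mem_zpowers] at hbz
    obtain ⟨i, hi⟩ := hbz
    have hi' : x ^ i = b := hi
    have hodd : Nat.Coprime i (orderOf x) := by
      rw [hx4]
      rcases Nat.even_or_odd i with ⟨j, hj⟩ | ho
      · exfalso
        have : b ^ 2 = 1 := by
          rw [← hi', hj, ← pow_mul, show (j + j) * 2 = 4 * j by ring, pow_mul, ← hx4, pow_orderOf_eq_one,
            one_pow]
        have := orderOf_dvd_of_pow_eq_one this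
        rw [hb4] at this
        norm_num at this
      · exact Nat.Coprime.pow_right 2 ((Nat.coprime_two_right).2 ho)
    obtain ⟨j, hj⟩ := exists_pow_eq_self_of_coprime hodd
    rw [hi'] at hj
    have hyb : Commute y b := hbN y hyN
    refine hxy ?_
    have := (hyb.pow_right j).eq
    rw [hj] at this
    exact this.symm
  haveI : IsZGroup K := ⟨fun q hq P => by
    haveI : Fact q.Prime := ⟨hq⟩
    have hP' : IsPGroup q ((P : Subgroup K).map K.subtype) := P.2.map _
    let eP := (P : Subgroup K).equivMapOfInjective K.subtype K.subtype_injective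
    rcases hτ.cyclic_or_quaternion hP' with hc | ⟨-, n, -, ⟨f⟩⟩
    · exact isCyclic_of_surjective eP.symm.toMonoidHom eP.symm.surjective
    · exfalso
      haveI : NeZero (2 ^ n) := ⟨pow_ne_zero _ two_ne_zero⟩
      obtain ⟨b, hb⟩ : ∃ b, b = f.symm (QuaternionGroup.xa 0) := ⟨_, rfl⟩
      refine hno4 (b : H) (map_subtype_le _ b.2) ?_
      rw [orderOf_coe, hb, MulEquiv.orderOf_eq, QuaternionGroup.orderOf_xa]⟩
  haveI : IsCyclic (commutator K) := IsZGroup.isCyclic_commutator _
  have hKDc : IsMulCommutative ((commutator K).map K.subtype) := inferInstance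
  have hKDA : (commutator K).map K.subtype ≤ A :=
    hM.setting.le_of_comm (normal_map_commutator K) hKDc ((map_subtype_le _).trans inf_le_left)
  have hcen : commutator K ≤ center K := fun z hz => Subgroup.mem_center_iff.2 fun w =>
    Subtype.ext ((w.2.1) z (hKDA ⟨z, hz, rfl⟩)).symm
  haveI hnil : Group.IsNilpotent K := by
    haveI : Group.IsNilpotent (K ⧸ commutator K) :=
      (inferInstance : Group.IsNilpotent (Abelianization K))
    exact Subgroup.isNilpotent_of_ker_le_center (QuotientGroup.mk' (commutator K))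
      (by rw [QuotientGroup.ker_mk']; exact hcen)
  exact hM.setting.max K hKn inferInstance hAK

/-- The conjugation action on `N` bounds the index of `A` in its centraliser. -/
theorem Minimal.relIndex_dvd (hM : Minimal H A N) (e : N ≃* QuaternionGroup 2) :
    A.relIndex (centralizer (A : Set H)) ∣ 24 := by
  haveI := hM.setting.finite
  haveI := hM.normal
  let g : centralizer (A : Set H) →* MulAut N := MulAut.conjNormal.comp (centralizer (A : Set H)).subtype
  have hker : g.ker = A.subgroupOf (centralizer (A : Set H)) := by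
    ext c
    rw [MonoidHom.mem_ker, mem_subgroupOf]
    constructor
    · intro hc
      refine (hM.inf_eq e).le ⟨c.2, mem_centralizer_iff.2 fun z hz => ?_⟩
      have h1 := congrArg Subtype.val (MulEquiv.congr_fun hc ⟨z, hz⟩)
      change (c : H) * z * (c : H)⁻¹ = z at h1
      exact (mul_inv_eq_iff_eq_mul.1 h1).symm
    · intro hc
      refine MulEquiv.ext fun z => Subtype.ext ?_
      show (c : H) * z * (c : H)⁻¹ = z
      rw [hM.le z.2 _ hc]
      group
  obtain ⟨f⟩ := Cfsg.Agent.S3742.result
  have hcard : Nat.card (MulAut N) = 24 := by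
    rw [Nat.card_congr ((MulAut.congr e).trans f).toEquiv, Nat.card_perm, Nat.card_fin]
    rfl
  have h := Subgroup.card_subgroup_dvd_card g.range
  rw [← Subgroup.index_ker, hker, hcard] at h
  exact h

/-- The arithmetic of the soluble exceptional near-fields. -/
theorem arith_soluble {p k m : ℕ} (hp : p.Prime) (hk : 0 < k) (hm : 2 ≤ m) (hp2 : p ≠ 2)
    (h : p ^ (k * m) - 1 ∣ (p ^ k - 1) * (24 * k)) :
    k = 1 ∧ m = 2 ∧ (p = 3 ∨ p = 5 ∨ p = 7 ∨ p = 11 ∨ p = 23) := by
  have hp3 : 3 ≤ p := by have := hp.two_le; omega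
  obtain ⟨y, hy⟩ : ∃ y, p ^ k = y + 1 :=
    ⟨p ^ k - 1, by have := Nat.one_le_pow k p hp.pos; omega⟩
  have h3k : 3 ^ k ≤ y + 1 := hy ▸ Nat.pow_le_pow_left hp3 k
  have hy0 : 0 < y := by
    have : 3 ^ 1 ≤ 3 ^ k := Nat.pow_le_pow_right (by norm_num) hk
    omega
  rw [pow_mul, hy, Nat.add_sub_cancel] at h
  rcases (show m = 2 ∨ m = 3 ∨ 4 ≤ m by omega) with rfl | rfl | hm4
  · rw [show (y + 1) ^ 2 - 1 = y * (y + 2) from Nat.sub_eq_of_eq_add (by ring)] at h
    have h1 : y + 2 ∣ 24 * k := Nat.dvd_of_mul_dvd_mul_left hy0 h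
    have h2 : p ^ k + 1 ∣ 24 * k := by rw [hy]; exact h1
    have h3 : p ^ k + 1 ≤ 24 * k := Nat.le_of_dvd (by omega) h2
    have hk5 : k < 5 := by
      by_contra hlt
      obtain ⟨j, rfl⟩ : ∃ j, k = j + 5 := ⟨k - 5, by omega⟩
      have : 3 ^ (j + 5) ≥ 243 * (j + 1) := by
        rw [pow_add]
        have := Nat.lt_pow_self (show 1 < 3 by norm_num) (n := j)
        nlinarith
      omega
    interval_cases k
    · refine ⟨rfl, rfl, ?_⟩
      rw [pow_one] at h2 h3
      have : p + 1 ∈ Nat.divisors 24 := Nat.mem_divisors.2 ⟨by simpa using h2, by norm_num⟩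
      rw [show Nat.divisors 24 = {1, 2, 3, 4, 6, 8, 12, 24} by decide +kernel] at this
      simp only [Finset.mem_insert, Finset.mem_singleton] at this
      omega
    · exfalso
      have : p < 7 := by nlinarith
      interval_cases p <;> norm_num at h2
    · exfalso
      have : p < 5 := by
        by_contra hlt
        have := Nat.pow_le_pow_left (show 5 ≤ p by omega) 3
        omega
      interval_cases p <;> norm_num at h2
    · exfalso
      have : p < 4 := by
        by_contra hlt
        have := Nat.pow_le_pow_left (show 4 ≤ p by omega) 4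
        omega
      interval_cases p
      norm_num at h2
  · exfalso
    rw [show (y + 1) ^ 3 - 1 = y * (y * y + 3 * y + 3) from Nat.sub_eq_of_eq_add (by ring)] at h
    have h1 := Nat.dvd_of_mul_dvd_mul_left hy0 h
    have h2 := Nat.le_of_dvd (by omega) h1
    rcases (show k = 1 ∨ 2 ≤ k by omega) with rfl | hk2
    · rw [pow_one] at hy
      have : y < 4 := by nlinarith
      interval_cases y <;> omega
    · obtain ⟨j, rfl⟩ : ∃ j, k = j + 2 := ⟨k - 2, by omega⟩
      have : 3 ^ (j + 2) ≥ 9 * (j + 1) := by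
        rw [pow_add]
        have := Nat.lt_pow_self (show 1 < 3 by norm_num) (n := j)
        nlinarith
      nlinarith
  · exfalso
    have h4 : (y + 1) ^ 4 - 1 ≤ (y + 1) ^ m - 1 :=
      Nat.sub_le_sub_right (Nat.pow_le_pow_right (by omega) hm4) 1
    have hpos : 0 < y * (24 * k) := Nat.mul_pos hy0 (by omega)
    have h5 := h4.trans (Nat.le_of_dvd hpos h)
    rw [show (y + 1) ^ 4 - 1 = y * (y ^ 3 + 4 * y ^ 2 + 6 * y + 4) from Nat.sub_eq_of_eq_add (by ring)] at h5
    have h6 := Nat.le_of_mul_le_mul_left h5 hy0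
    have h7 : 2 * k + 1 ≤ 3 ^ k := by
      clear * - hk
      induction k, hk using Nat.le_induction with
      | base => norm_num
      | succ j _ ih => rw [pow_succ]; omega
    nlinarith

/-- `V` has dimension two and `A` consists of scalars; the soluble degrees. -/
theorem Minimal.dim (hM : Minimal H A N) :
    Module.finrank (ZMod p) V = 2 ∧ centralizer (A : Set H) = ⊤ ∧
      (Group.IsSolvable H → p = 5 ∨ p = 7 ∨ p = 11 ∨ p = 23) := by
  classical
  have hp : p.Prime := Fact.out
  haveI := hM.setting.finite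
  haveI := hM.setting.normal
  obtain ⟨hV, hcyc, -, k, m, hk, hm, hkm, hdvd, hidx, hcard, hrank, hk1⟩ := hM.setting.data
  rcases hM.iso with ⟨⟨e⟩⟩ | ⟨⟨e⟩⟩
  · have h1 : Nat.card H ∣ (p ^ k - 1) * (24 * k) := by
      rw [← Subgroup.card_mul_index A, ← relIndex_mul_index hM.setting.le_centralizer]
      exact mul_dvd_mul hdvd (mul_dvd_mul (hM.relIndex_dvd e) hidx)
    have h8 : 8 ∣ Nat.card H := by
      have := Subgroup.card_subgroup_dvd_card N
      rwa [Nat.card_congr e.toEquiv, Nat.card_eq_fintype_card, QuaternionGroup.card] at this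
    rw [hcard] at h1 h8
    have hp2 : p ≠ 2 := by
      rintro rfl
      have h3 : 2 ∣ 2 ^ (k * m) := dvd_pow_self 2 (by positivity)
      have h4 := Nat.one_le_two_pow (n := k * m)
      omega
    obtain ⟨rfl, rfl, hpc⟩ := arith_soluble hp hk hm hp2 h1
    refine ⟨hkm, (hk1 rfl).2, fun _ => ?_⟩
    rcases hpc with rfl | h | h | h | h
    · exfalso
      norm_num at hcard
      have hA2 : Nat.card A ≤ 2 := Nat.le_of_dvd (by norm_num) (by simpa using hdvd)
      obtain ⟨M, hMc⟩ := Sylow.exists_subgroup_card_pow_prime (G := H) 2 (n := 2)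
        (by rw [hcard]; norm_num)
      have hMi : M.index = 2 := by
        have := Subgroup.card_mul_index M
        rw [hcard, hMc] at this
        omega
      haveI := Subgroup.normal_of_index_eq_two hMi
      haveI : IsMulCommutative M := IsPGroup.isMulCommutative_of_card_eq_prime_sq (p := 2) hMc
      have hAc : ∀ a ∈ A, ∀ b : H, a * b = b * a := fun a ha b =>
        ((hk1 rfl).2.ge (mem_top b)) a ha
      have hMA : M ≤ A :=
        hM.setting.le_of_comm inferInstance inferInstance (by rw [(hk1 rfl).2]; exact le_top)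
      have := Subgroup.card_le_of_le hMA
      rw [hMc] at this
      omega
    all_goals tauto
  · have hns : ¬ Group.IsSolvable H := fun h =>
      not_isSolvable_sl (Group.isSolvable_of_isSolvable_injective
        (f := N.subtype.comp e.symm.toMonoidHom) (N.subtype_injective.comp e.symm.injective))
    obtain ⟨-, -, hVc, -⟩ := regular_nonsolvable H hM.setting.reg hns
    rw [Module.natCard_eq_pow_finrank (K := ZMod p), Nat.card_zmod] at hVc
    have hn2 := Nat.pow_right_injective hp.two_le hVc
    have hk' : k = 1 := by nlinarith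
    exact ⟨hn2, (hk1 hk').2, fun h => absurd h hns⟩

/-- `N` is irreducible and its centraliser is `A`. -/
theorem Minimal.irreducible (hM : Minimal H A N) :
    (∀ W : Submodule (ZMod p) V, (∀ n ∈ N, ∀ v ∈ W, ((n : H) : V ≃ₗ[ZMod p] V) v ∈ W) → W = ⊥ ∨ W = ⊤) ∧
      centralizer (N : Set H) = A := by
  classical
  haveI := hM.setting.finite
  haveI := hM.normal
  haveI := Module.Finite.of_finite (R := ZMod p) (M := V)
  have hreg := hM.setting.reg
  obtain ⟨hn2, hCA, -⟩ := hM.dim
  have hirr : ∀ W : Submodule (ZMod p) V, (∀ n ∈ N, ∀ v ∈ W, ((n : H) : V ≃ₗ[ZMod p] V) v ∈ W) →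
      W = ⊥ ∨ W = ⊤ := by
    intro W hW
    by_contra hne
    push Not at hne
    have h1 := Submodule.finrank_lt hne.2
    have h2 : Module.finrank (ZMod p) W ≠ 0 := fun e => hne.1 (Submodule.finrank_eq_zero.1 e)
    obtain ⟨u, hu0, hspan⟩ := finrank_eq_one_iff'.1 (show Module.finrank (ZMod p) W = 1 by omega)
    have hu : (u : V) ≠ 0 := fun e => hu0 (Subtype.ext e)
    refine hM.nonabelian (.of_setLike_mul_comm fun a ha b hb => ?_)
    obtain ⟨ca, hca⟩ := hspan ⟨_, hW a ha u u.2⟩
    obtain ⟨cb, hcb⟩ := hspan ⟨_, hW b hb u u.2⟩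
    have hca' : ((a : H) : V ≃ₗ[ZMod p] V) u = ca • (u : V) := (congrArg Subtype.val hca).symm
    have hcb' : ((b : H) : V ≃ₗ[ZMod p] V) u = cb • (u : V) := (congrArg Subtype.val hcb).symm
    refine (hreg u _ hu (act_ne_zero H (a * b) hu)).unique rfl ?_
    show ((b : H) : V ≃ₗ[ZMod p] V) (((a : H) : V ≃ₗ[ZMod p] V) u) =
      ((a : H) : V ≃ₗ[ZMod p] V) (((b : H) : V ≃ₗ[ZMod p] V) u)
    rw [hca', map_smul, hcb', map_smul, hca', smul_smul, smul_smul, mul_comm]
  refine ⟨hirr, ?_⟩
  have hcommw : ∀ b ∈ centralizer (N : Set H), ∀ n ∈ N, ∀ w,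
      ((n : H) : V ≃ₗ[ZMod p] V) (act H b w) = act H b (((n : H) : V ≃ₗ[ZMod p] V) w) :=
    fun b hb n hn w => LinearMap.congr_fun (show act H n * act H b = act H b * act H n by
      rw [← map_mul, ← map_mul, hb n hn]) w
  have hscal : ∀ b ∈ centralizer (N : Set H), ∃ c : ZMod p, ∀ w, act H b w = c • w := by
    intro b hb
    by_cases hI : CfsgLib.GLElem.Irred (act H b)
    · exact absurd (.of_setLike_mul_comm fun x hx y hy =>
        regular_commute_of_irred H hreg hI hM.setting.data.1 (hcommw b hb x hx) (hcommw b hb y hy))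
        hM.nonabelian
    unfold CfsgLib.GLElem.Irred at hI
    push Not at hI
    obtain ⟨W, hW, hWb, hWt⟩ := hI
    have h1 := Submodule.finrank_lt hWt
    have h2 : Module.finrank (ZMod p) W ≠ 0 := fun e => hWb (Submodule.finrank_eq_zero.1 e)
    obtain ⟨u, hu0, hspan⟩ := finrank_eq_one_iff'.1 (show Module.finrank (ZMod p) W = 1 by omega)
    obtain ⟨c, hc⟩ := hspan ⟨_, hW u u.2⟩
    have hc' : act H b u = c • (u : V) := (congrArg Subtype.val hc).symm
    refine ⟨c, fun w => ?_⟩
    rcases hirr (Module.End.eigenspace (act H b) c) (fun n hn v hv => by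
      rw [Module.End.mem_eigenspace_iff] at hv ⊢
      rw [← hcommw b hb n hn, hv, map_smul]) with hE | hE
    · exact absurd ((Submodule.eq_bot_iff _).1 hE u (Module.End.mem_eigenspace_iff.2 hc'))
        (fun e => hu0 (Subtype.ext e))
    · exact Module.End.mem_eigenspace_iff.1 (by rw [hE]; exact Submodule.mem_top)
  refine hM.setting.max _ inferInstance (.of_setLike_mul_comm fun a ha b hb => ?_) fun a ha =>
    mem_centralizer_iff.2 fun n hn => (hM.le hn a ha).symm
  obtain ⟨c, hc⟩ := hscal a ha
  obtain ⟨c', hc'⟩ := hscal b hb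
  refine act_injective H (LinearMap.ext fun w => ?_)
  simp only [map_mul, Module.End.mul_apply, hc, hc', smul_smul]
  rw [mul_comm c c']

end CfsgLib.RegularLinear
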