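import Cfsg.Agent.Zassenhaus.Solvable
import Cfsg.Agent.GLElem.Singer
import Cfsg.Agent.S3430

/-!
Non-solvable linear groups over a prime field that are regular on the non-zero vectors.
-/

set_option autoImplicit false
set_option linter.unusedSectionVars false
set_option linter.style.haveILetI false

namespace CfsgLib.Zassenhaus

open Subgroup

variable {p : ℕ} [Fact p.Prime] {V : Type*} [AddCommGroup V] [Module (ZMod p) V] [Finite V]
  (H : Subgroup (V ≃ₗ[ZMod p] V))
  (hreg : ∀ v w : V, v ≠ 0 → w ≠ 0 → ∃! h : H, (h : V ≃ₗ[ZMod p] V) v = w)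

include hreg

theorem regular_fix {h : H} {v : V} (hv : v ≠ 0) (e : (h : V ≃ₗ[ZMod p] V) v = v) : h = 1 :=
  (hreg v v hv hv).unique e rfl

theorem regular_card (hV : Nontrivial V) : Nat.card H = Nat.card V - 1 := by
  classical
  obtain ⟨v, hv⟩ := exists_ne (0 : V)
  have := Fintype.ofFinite V
  have hb : Function.Bijective fun h : H =>
      (⟨(h : V ≃ₗ[ZMod p] V) v, fun e => hv ((h : V ≃ₗ[ZMod p] V).map_eq_zero_iff.1 e)⟩ : {w : V // w ≠ 0}) := by
    refine ⟨fun a b e => (hreg v _ hv (fun e' => hv ((b : V ≃ₗ[ZMod p] V).map_eq_zero_iff.1 e'))).unique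
      (congrArg Subtype.val e) rfl, fun w => ?_⟩
    obtain ⟨h, hh, -⟩ := hreg v w hv w.2
    exact ⟨h, Subtype.ext hh⟩
  rw [Nat.card_congr (Equiv.ofBijective _ hb), Nat.card_eq_fintype_card, Nat.card_eq_fintype_card,
    Fintype.card_subtype_compl, Fintype.card_subtype_eq]

theorem regular_rep [Finite H] (hV : Nontrivial V) :
    ∃ (n : ℕ) (τ : H →* Matrix (Fin n) (Fin n) ℂ), 0 < n ∧ IsFpfAlg τ := by
  let φ : H →* MulAut (Multiplicative V) :=
    { toFun := fun h => AddEquiv.toMultiplicative (h : V ≃ₗ[ZMod p] V).toAddEquiv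
      map_one' := rfl
      map_mul' := fun _ _ => rfl }
  refine rep_of_elementary p ?_ (fun w => ?_) φ (fun h hh w hw => ?_)
  · have hp : p.Prime := Fact.out
    have hc := regular_card H hreg hV
    haveI := Module.Finite.of_finite (R := ZMod p) (M := V)
    have hpow : Nat.card V = p ^ Module.finrank (ZMod p) V := by
      rw [Module.natCard_eq_pow_finrank (K := ZMod p), Nat.card_zmod]
    have hd : 0 < Module.finrank (ZMod p) V := Module.finrank_pos
    intro hdvd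
    rw [hc, hpow] at hdvd
    have h1 : p ∣ p ^ Module.finrank (ZMod p) V := dvd_pow_self p hd.ne'
    have h2 := Nat.dvd_sub h1 hdvd
    have h3 : 1 ≤ p ^ Module.finrank (ZMod p) V := Nat.one_le_pow _ _ hp.pos
    rw [show p ^ Module.finrank (ZMod p) V - (p ^ Module.finrank (ZMod p) V - 1) = 1 by omega] at h2
    exact hp.ne_one (Nat.dvd_one.1 h2)
  · refine Multiplicative.toAdd.injective ?_
    show p • Multiplicative.toAdd w = 0
    rw [← Nat.cast_smul_eq_nsmul (ZMod p), ZMod.natCast_self, zero_smul]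
  · by_contra hw1
    exact hh (regular_fix H hreg (v := Multiplicative.toAdd w) (fun e => hw1 e) hw)

/-- Two elements centralizing an element that acts irreducibly commute. -/
theorem regular_commute_of_irred {T : Module.End (ZMod p) V}
    (hT : CfsgLib.GLElem.Irred T) (hV : Nontrivial V) {a b : H}
    (ha : ∀ w, (a : V ≃ₗ[ZMod p] V) (T w) = T ((a : V ≃ₗ[ZMod p] V) w))
    (hb : ∀ w, (b : V ≃ₗ[ZMod p] V) (T w) = T ((b : V ≃ₗ[ZMod p] V) w)) : a * b = b * a := by
  obtain ⟨v, hv⟩ := exists_ne (0 : V)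
  let W : Submodule (ZMod p) V :=
    (Algebra.adjoin (ZMod p) ({T} : Set (Module.End (ZMod p) V))).toSubmodule.map (LinearMap.applyₗ v)
  have hW : W = ⊤ := by
    refine (hT W ?_).resolve_left fun e => hv ?_
    · rintro _ ⟨f, hf, rfl⟩
      exact ⟨T * f, (Algebra.adjoin (ZMod p) ({T} : Set (Module.End (ZMod p) V))).mul_mem (Algebra.self_mem_adjoin_singleton (ZMod p) T) hf, rfl⟩
    · exact (Submodule.eq_bot_iff W).1 e v ⟨1, (Algebra.adjoin (ZMod p) ({T} : Set (Module.End (ZMod p) V))).one_mem, rfl⟩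
  obtain ⟨f, hf, hfv⟩ : (a : V ≃ₗ[ZMod p] V) v ∈ W := hW ▸ Submodule.mem_top
  obtain ⟨g, hg, hgv⟩ : (b : V ≃ₗ[ZMod p] V) v ∈ W := hW ▸ Submodule.mem_top
  have hfv' : f v = (a : V ≃ₗ[ZMod p] V) v := hfv
  have hgv' : g v = (b : V ≃ₗ[ZMod p] V) v := hgv
  have key : ∀ (c : H), (∀ w, (c : V ≃ₗ[ZMod p] V) (T w) = T ((c : V ≃ₗ[ZMod p] V) w)) →
      ∀ q ∈ Algebra.adjoin (ZMod p) ({T} : Set (Module.End (ZMod p) V)), ∀ w,
        (c : V ≃ₗ[ZMod p] V) (q w) = q ((c : V ≃ₗ[ZMod p] V) w) := by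
    intro c hc q hq w
    have h1 : Commute ((c : V ≃ₗ[ZMod p] V).toLinearMap : Module.End (ZMod p) V) q :=
      Algebra.commute_of_mem_adjoin_singleton_of_commute hq (LinearMap.ext hc)
    exact LinearMap.congr_fun h1.eq w
  refine (hreg v ((a : V ≃ₗ[ZMod p] V) ((b : V ≃ₗ[ZMod p] V) v)) hv (fun e => hv ?_)).unique rfl ?_
  · exact (b : V ≃ₗ[ZMod p] V).map_eq_zero_iff.1 ((a : V ≃ₗ[ZMod p] V).map_eq_zero_iff.1 e)
  · show (b : V ≃ₗ[ZMod p] V) ((a : V ≃ₗ[ZMod p] V) v) = (a : V ≃ₗ[ZMod p] V) ((b : V ≃ₗ[ZMod p] V) v)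
    conv_lhs => rw [← hfv', key b hb f hf, ← hgv']
    conv_rhs => rw [← hgv', key a ha g hg, ← hfv']
    exact LinearMap.congr_fun
      (Algebra.commute_of_mem_adjoin_singleton_of_commute hg
        (Algebra.commute_of_mem_adjoin_self hf).symm).eq v

end CfsgLib.Zassenhaus

namespace CfsgLib.Zassenhaus

open Subgroup

/-- The hypotheses of `exceptional_arith`, as a Boolean. -/
def exceptionalHyp (p i : ℕ) : Bool :=
  decide (1 ≤ i) && decide (7 ≤ p) && decide (p % 2 ≠ 0) && decide (p % 3 ≠ 0) && decide (p % 5 ≠ 0) &&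
    decide (p % 7 ≠ 0 ∨ p = 7) && decide (120 * i % (p + 1) = 0) &&
    decide ((p - 1) % (120 * i / (p + 1)) = 0) && decide (Nat.gcd ((p - 1) / (120 * i / (p + 1))) 30 = 1)

/-- The conclusion of `exceptional_arith`, as a Boolean. -/
def exceptionalConcl (p i : ℕ) : Bool :=
  decide (i = 1) && (decide (p = 11 ∧ (p - 1) / (120 * i / (p + 1)) = 1) ||
    decide (p = 29 ∧ (p - 1) / (120 * i / (p + 1)) = 7) || decide (p = 59 ∧ (p - 1) / (120 * i / (p + 1)) = 29))

theorem exceptional_check : ∀ p < 240, ∀ i < 3, exceptionalHyp p i = true → exceptionalConcl p i = true := by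
  decide +kernel

/-- The arithmetic of the three exceptional near-fields. -/
theorem exceptional_arith {p i : ℕ} (hp : p < 240) (hi : i < 3)
    (h : 1 ≤ i ∧ 7 ≤ p ∧ (p % 2 ≠ 0 ∧ p % 3 ≠ 0 ∧ p % 5 ≠ 0) ∧ (p % 7 ≠ 0 ∨ p = 7) ∧ 120 * i % (p + 1) = 0 ∧
      (p - 1) % (120 * i / (p + 1)) = 0 ∧ Nat.gcd ((p - 1) / (120 * i / (p + 1))) 30 = 1) :
    (i = 1 ∧ ((p = 11 ∧ (p - 1) / (120 * i / (p + 1)) = 1) ∨ (p = 29 ∧ (p - 1) / (120 * i / (p + 1)) = 7) ∨
      (p = 59 ∧ (p - 1) / (120 * i / (p + 1)) = 29))) := by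
  obtain ⟨h1, h2, ⟨h3, h4, h5⟩, h6, h7, h8, h9⟩ := h
  have := exceptional_check p hp i hi (by
    simp only [exceptionalHyp, Bool.and_eq_true, decide_eq_true_eq]
    exact ⟨⟨⟨⟨⟨⟨⟨⟨h1, h2⟩, h3⟩, h4⟩, h5⟩, h6⟩, h7⟩, h8⟩, h9⟩)
  simpa [exceptionalConcl, or_assoc] using this

variable {p : ℕ} [Fact p.Prime] {V : Type*} [AddCommGroup V] [Module (ZMod p) V] [Finite V]

theorem regular_nonsolvable (H : Subgroup (V ≃ₗ[ZMod p] V))
    (hreg : ∀ v w : V, v ≠ 0 → w ≠ 0 → ∃! h : H, (h : V ≃ₗ[ZMod p] V) v = w)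
    (hsolv : ¬ Group.IsSolvable H) :
    ∃ m : ℕ, ((p = 11 ∧ m = 1) ∨ (p = 29 ∧ m = 7) ∨ (p = 59 ∧ m = 29)) ∧ Nat.card V = p ^ 2 ∧
      ∃ S M : Subgroup H, S ⊔ M = ⊤ ∧ S ⊓ M = ⊥ ∧ (∀ s ∈ S, ∀ x ∈ M, s * x = x * s) ∧
        Nonempty (S ≃* SL25) ∧ Nat.card M = m ∧ IsCyclic M := by
  classical
  have hp : p.Prime := Fact.out
  have hV : Nontrivial V := by
    by_contra h
    rw [not_nontrivial_iff_subsingleton] at h
    refine hsolv (isSolvable_comm fun a b => Subtype.ext (LinearEquiv.ext fun v => Subsingleton.elim _ _))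
  haveI := Module.Finite.of_finite (R := ZMod p) (M := V)
  haveI : Finite (V ≃ₗ[ZMod p] V) := Finite.of_injective (fun e => (e : V → V)) DFunLike.coe_injective
  obtain ⟨d, τ, hd, hτ⟩ := regular_rep H hreg hV
  haveI : Nonempty (Fin d) := ⟨⟨0, hd⟩⟩
  obtain ⟨G₀, hG₀n, hidx, S, M, hSM, hSMb, hcomm, ⟨eS⟩, hcyc, h30⟩ := nonsolvable_structure hτ hsolv
  set n := Module.finrank (ZMod p) V with hn
  have hn0 : 0 < n := Module.finrank_pos
  have hcard : Nat.card H = p ^ n - 1 := by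
    rw [regular_card H hreg hV, Module.natCard_eq_pow_finrank (K := ZMod p), Nat.card_zmod]
  have hS : Nat.card S = 120 := by
    rw [Nat.card_congr eS.toEquiv, Nat.card_eq_fintype_card (α := SL25), Cfsg.Agent.S3374.card_sl]
  have hG₀ : Nat.card G₀ = 120 * Nat.card M := by
    let f : S × M →* H :=
      { toFun := fun z => (z.1 : H) * z.2
        map_one' := by simp
        map_mul' := fun a b => by
          show (a.1 : H) * b.1 * ((a.2 : H) * b.2) = a.1 * a.2 * (b.1 * b.2)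
          rw [mul_assoc, ← mul_assoc (b.1 : H), hcomm _ b.1.2 _ a.2.2]; group }
    have hinj : Function.Injective f := by
      rw [← MonoidHom.ker_eq_bot_iff, Subgroup.eq_bot_iff_forall]
      rintro ⟨s, x⟩ hsx
      have h1 : (s : H) = (x : H)⁻¹ := eq_inv_of_mul_eq_one_left hsx
      have h2 : (s : H) ∈ S ⊓ M := Subgroup.mem_inf.2 ⟨s.2, h1 ▸ M.inv_mem x.2⟩
      rw [hSMb, Subgroup.mem_bot] at h2
      rw [h2] at h1
      exact Prod.ext (Subtype.ext h2) (Subtype.ext (inv_eq_one.1 h1.symm))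
    have hr : f.range = G₀ := by
      rw [← hSM]
      refine le_antisymm ?_ (sup_le (fun s hs => ⟨(⟨s, hs⟩, 1), mul_one s⟩) (fun x hx => ⟨(1, ⟨x, hx⟩), one_mul x⟩))
      rintro _ ⟨z, rfl⟩
      exact mul_mem (mem_sup_left z.1.2) (mem_sup_right z.2.2)
    rw [← hr, ← Nat.card_congr (MonoidHom.ofInjective hinj).toEquiv, Nat.card_prod, hS]
  have hHc : 120 * Nat.card M * G₀.index = p ^ n - 1 := by rw [← hG₀, ← hcard, Subgroup.card_mul_index]
  -- `p` is prime to 30
  have hp30 : p ≠ 2 ∧ p ≠ 3 ∧ p ≠ 5 := by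
    have key : ∀ q, q ∣ 120 → p ≠ q ∨ q = 1 := fun q hq => by
      by_contra h
      push Not at h
      obtain ⟨rfl, -⟩ := h
      have h1 : p ∣ p ^ n - 1 := hHc ▸ (hq.mul_right _).mul_right _
      have h2 := Nat.dvd_sub (dvd_pow_self p hn0.ne') h1
      have h3 : 1 ≤ p ^ n := Nat.one_le_pow _ _ hp.pos
      rw [show p ^ n - (p ^ n - 1) = 1 by omega] at h2
      exact hp.ne_one (Nat.dvd_one.1 h2)
    exact ⟨(key 2 (by norm_num)).resolve_right (by norm_num), (key 3 (by norm_num)).resolve_right (by norm_num),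
      (key 5 (by norm_num)).resolve_right (by norm_num)⟩
  have hSnc : ¬ ∀ a ∈ S, ∀ b ∈ S, a * b = b * a := fun hc => not_isSolvable_sl (isSolvable_comm fun a b => by
    obtain ⟨x, rfl⟩ := eS.surjective a
    obtain ⟨y, rfl⟩ := eS.surjective b
    rw [← map_mul, ← map_mul]
    exact congrArg eS (Subtype.ext (hc x x.2 y y.2)))
  have hirr : ∀ T : Module.End (ZMod p) V, CfsgLib.GLElem.Irred T →
      (∀ s ∈ S, ∀ w, ((s : H) : V ≃ₗ[ZMod p] V) (T w) = T (((s : H) : V ≃ₗ[ZMod p] V) w)) → False :=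
    fun T hT hc => hSnc fun a ha b hb => regular_commute_of_irred H hreg hT hV (hc a ha) (hc b hb)
  have hSM' : ∀ (s : H), s ∈ S → ∀ (x : H), x ∈ M → ∀ w, (s : V ≃ₗ[ZMod p] V) ((x : V ≃ₗ[ZMod p] V) w) =
      (x : V ≃ₗ[ZMod p] V) ((s : V ≃ₗ[ZMod p] V) w) := fun s hs x hx w =>
    congrArg (fun e : H => (e : V ≃ₗ[ZMod p] V) w) (hcomm s hs x hx)
  have hn2 : n = 2 := by
    by_contra hne
    rcases (show n = 1 ∨ 3 ≤ n by omega) with h1 | h3
    · refine hirr 1 (fun W _ => ?_) (fun s _ w => rfl)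
      rcases eq_or_ne W ⊥ with h | h
      · exact Or.inl h
      · refine Or.inr (Submodule.eq_top_of_finrank_eq ?_)
        have h4 := Submodule.finrank_le W
        have h5 : Module.finrank (ZMod p) W ≠ 0 := fun e => h (Submodule.finrank_eq_zero.1 e)
        omega
    obtain ⟨r, hr, hrd, hrprim, hrbig⟩ := Cfsg.Agent.S3430.result p n hp.two_le (by omega) (by omega)
      (by omega) (by omega) (by omega)
    haveI : Fact r.Prime := ⟨hr⟩
    have hrp : ¬ r ∣ p := fun h => by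
      have h1 : r ∣ p ^ n := h.trans (dvd_pow_self p hn0.ne')
      have h2 := Nat.dvd_sub h1 hrd
      rw [show p ^ n - (p ^ n - 1) = 1 by have := Nat.one_le_pow n p hp.pos; omega] at h2
      exact hr.ne_one (Nat.dvd_one.1 h2)
    have hrp0 : (p : ZMod r) ≠ 0 := fun h => hrp ((ZMod.natCast_eq_zero_iff _ _).1 h)
    have hcast : ∀ k, r ∣ p ^ k - 1 ↔ (p : ZMod r) ^ k = 1 := fun k => by
      rw [← ZMod.natCast_eq_zero_iff, Nat.cast_sub (Nat.one_le_pow _ _ hp.pos), sub_eq_zero, Nat.cast_pow,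
        Nat.cast_one]
    have hord : orderOf (p : ZMod r) = n := by
      rw [orderOf_eq_iff (by omega)]
      exact ⟨(hcast n).1 hrd, fun k hk hk0 h => hrprim k hk0 hk ((hcast k).2 h)⟩
    have hnr : n ∣ r - 1 := hord ▸ ZMod.orderOf_dvd_card_sub_one hrp0
    have hr4 : n + 1 ≤ r := by
      have := hr.two_le
      have := Nat.le_of_dvd (by omega) hnr
      omega
    have hr5 : r ≠ 5 := by
      rintro rfl
      rcases hrbig with h | h
      · have : n = 3 := by omega
        rw [this] at hnr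
        norm_num at hnr
      · rw [← hHc] at h
        rcases hidx with e | e <;> rw [e] at h
        all_goals
          obtain ⟨c, hc⟩ := h
          have h5 : 5 ∣ Nat.card M := by omega
          exact (by norm_num : (5 : ℕ) ≠ 1) (Nat.dvd_one.1 (h30 ▸ Nat.dvd_gcd h5 (by norm_num : 5 ∣ 30)))
    have hrM : r ∣ Nat.card M := by
      rw [← hHc] at hrd
      have h7 : 7 ≤ r := by
        by_contra h
        push Not at h
        have := hr.two_le
        interval_cases r <;> first | omega | exact absurd hr (by norm_num)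
      rcases hr.dvd_mul.1 hrd with h | h
      · rcases hr.dvd_mul.1 h with h' | h'
        · exfalso
          have := Nat.le_of_dvd (by norm_num) h'
          have : r ∈ Nat.divisors 120 := Nat.mem_divisors.2 ⟨h', by norm_num⟩
          have hh : ∀ r ∈ Nat.divisors 120, 7 ≤ r → ¬ Nat.Prime r := by decide +kernel
          exact hh r this h7 hr
        · exact h'
      · exfalso
        rcases hidx with e | e <;> rw [e] at h <;> have := Nat.le_of_dvd (by norm_num) h <;> omega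
    obtain ⟨x, hx⟩ := exists_prime_orderOf_dvd_card' (G := M) r hrM
    let T : Module.End (ZMod p) V := (((x : H) : V ≃ₗ[ZMod p] V) : V ≃ₗ[ZMod p] V).toLinearMap
    have hpowT : ∀ k : ℕ, T ^ k = (((x ^ k : M) : H) : V ≃ₗ[ZMod p] V).toLinearMap := fun k => by
      induction k with
      | zero => rfl
      | succ k ih => rw [pow_succ, ih, pow_succ]; rfl
    refine hirr T (CfsgLib.GLElem.irred_of_primitive (q := p) (n := n) (r := r) (Nat.card_zmod p) hr ?_ hrp hord rfl ?_ ?_) ?_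
    · intro h
      rw [ZMod.natCast_eq_zero_iff] at h
      exact hrp ((Nat.prime_dvd_prime_iff_eq hp hr).1 h ▸ dvd_rfl)
    · rw [hpowT, ← hx, pow_orderOf_eq_one]; rfl
    · intro h
      have h1 : x = 1 := by
        obtain ⟨v, hv⟩ := exists_ne (0 : V)
        exact Subtype.ext (regular_fix H hreg hv (LinearMap.congr_fun h v))
      rw [h1, orderOf_one] at hx
      exact hr.ne_one hx.symm
    · exact fun s hs w => hSM' s hs x x.2 w
  -- dimension two: `M` consists of scalars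
  have hscal : ∀ x ∈ M, ∃ c : ZMod p, ∀ w, ((x : H) : V ≃ₗ[ZMod p] V) w = c • w := by
    intro x hx
    let T : Module.End (ZMod p) V := ((x : H) : V ≃ₗ[ZMod p] V).toLinearMap
    by_contra hno
    push Not at hno
    refine hirr T (fun W hW => ?_) (fun s hs w => hSM' s hs x hx w)
    by_contra hc
    push Not at hc
    have hW1 : Module.finrank (ZMod p) W = 1 := by
      have h1 : Module.finrank (ZMod p) W ≠ 0 := fun e => hc.1 (Submodule.finrank_eq_zero.1 e)
      have h2 := Submodule.finrank_lt hc.2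
      omega
    obtain ⟨⟨v, hvW⟩, hv0, hspan⟩ := finrank_eq_one_iff'.1 hW1
    obtain ⟨c, hc'⟩ := hspan ⟨T v, hW v hvW⟩
    have hTv : T v = c • v := (congrArg Subtype.val hc').symm
    have hv : v ≠ 0 := fun e => hv0 (Subtype.ext e)
    -- the eigenspace is invariant under `S`
    let E := Module.End.eigenspace T c
    have hvE : v ∈ E := Module.End.mem_eigenspace_iff.2 hTv
    by_cases hE : E = ⊤
    · obtain ⟨w, hw⟩ := hno c
      exact hw (Module.End.mem_eigenspace_iff.1 (show w ∈ E by rw [hE]; exact Submodule.mem_top))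
    have hE1 : Module.finrank (ZMod p) E = 1 := by
      have h1 : Module.finrank (ZMod p) E ≠ 0 := fun e => hv ((Submodule.eq_bot_iff E).1 (Submodule.finrank_eq_zero.1 e) v hvE)
      have h2 := Submodule.finrank_lt hE
      omega
    obtain ⟨u, hu0, huspan⟩ := finrank_eq_one_iff'.1 hE1
    have hinv : ∀ s ∈ S, ((s : H) : V ≃ₗ[ZMod p] V) (u : V) ∈ E := fun s hs => by
      rw [Module.End.mem_eigenspace_iff]
      show ((x : H) : V ≃ₗ[ZMod p] V) (((s : H) : V ≃ₗ[ZMod p] V) u) = c • ((s : H) : V ≃ₗ[ZMod p] V) u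
      rw [← hSM' s hs x hx, ← map_smul]
      exact congrArg _ (Module.End.mem_eigenspace_iff.1 u.2)
    refine hSnc fun a ha b hb => ?_
    obtain ⟨ca, hca⟩ := huspan ⟨_, hinv a ha⟩
    obtain ⟨cb, hcb⟩ := huspan ⟨_, hinv b hb⟩
    have hca' : ((a : H) : V ≃ₗ[ZMod p] V) u = ca • (u : V) := (congrArg Subtype.val hca).symm
    have hcb' : ((b : H) : V ≃ₗ[ZMod p] V) u = cb • (u : V) := (congrArg Subtype.val hcb).symm
    have hu : (u : V) ≠ 0 := fun e => hu0 (Subtype.ext e)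
    have e1 : (((a * b : H)) : V ≃ₗ[ZMod p] V) u = (cb * ca) • (u : V) := by
      show ((a : H) : V ≃ₗ[ZMod p] V) (((b : H) : V ≃ₗ[ZMod p] V) u) = _
      rw [hcb', map_smul, hca', smul_smul]
    have e2 : (((b * a : H)) : V ≃ₗ[ZMod p] V) u = (cb * ca) • (u : V) := by
      show ((b : H) : V ≃ₗ[ZMod p] V) (((a : H) : V ≃ₗ[ZMod p] V) u) = _
      rw [hca', map_smul, hcb', smul_smul, mul_comm]
    refine (hreg u _ hu (fun e => hu ?_)).unique e1 e2
    rw [← e1] at e
    exact ((a * b : H) : V ≃ₗ[ZMod p] V).map_eq_zero_iff.1 e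
  choose sc hsc using hscal
  obtain ⟨v₀, hv₀⟩ := exists_ne (0 : V)
  have hinjsc : ∀ (x y : M), sc x x.2 = sc y y.2 → x = y := fun x y e =>
    Subtype.ext ((hreg v₀ _ hv₀ (fun e' => hv₀ (((y : H) : V ≃ₗ[ZMod p] V).map_eq_zero_iff.1 e'))).unique
      (by rw [hsc x x.2, hsc y y.2, e]) rfl)
  let χ : M →* ZMod p :=
    { toFun := fun x => sc x x.2
      map_one' := smul_left_injective (ZMod p) hv₀ (by
        show sc ((1 : M) : H) _ • v₀ = (1 : ZMod p) • v₀
        rw [← hsc, one_smul]; rfl)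
      map_mul' := fun x y => smul_left_injective (ZMod p) hv₀ (by
        show sc ((x * y : M) : H) _ • v₀ = (sc (x : H) _ * sc (y : H) _) • v₀
        rw [← hsc, ← smul_smul, ← hsc y y.2, ← hsc x x.2]; rfl) }
  have hχ : Function.Injective χ.toHomUnits := fun x y e =>
    hinjsc x y (congrArg (fun u : (ZMod p)ˣ => (u : ZMod p)) e)
  haveI hMcyc : IsCyclic M := isCyclic_of_injective χ.toHomUnits hχ
  have hMdvd : Nat.card M ∣ p - 1 := by
    have := Subgroup.card_dvd_of_injective χ.toHomUnits hχ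
    rwa [Nat.card_units, Nat.card_zmod] at this
  rw [hn2] at hHc hcard
  obtain ⟨k, hk⟩ := hMdvd
  have hp7 : 7 ≤ p := by
    have := hp.two_le
    by_contra h
    push Not at h
    rcases (show p = 2 ∨ p = 3 ∨ p = 5 ∨ p = 4 ∨ p = 6 by omega) with e | e | e | e | e
    · exact hp30.1 e
    · exact hp30.2.1 e
    · exact hp30.2.2 e
    all_goals exact absurd (e ▸ hp) (by norm_num)
  have hM0 : 0 < Nat.card M := Nat.card_pos
  have hkey : k * (p + 1) = 120 * G₀.index := by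
    refine Nat.eq_of_mul_eq_mul_left hM0 ?_
    calc Nat.card M * (k * (p + 1)) = (Nat.card M * k) * (p + 1) := by ring
      _ = p ^ 2 - 1 := by rw [← hk, mul_comm, ← Nat.sq_sub_sq p 1]
      _ = Nat.card M * (120 * G₀.index) := by rw [← hHc]; ring
  have hk0 : 0 < k := by
    rcases Nat.eq_zero_or_pos k with h | h
    · rw [h, mul_zero] at hk; omega
    · exact h
  have hi : 1 ≤ G₀.index ∧ G₀.index < 3 := by omega
  have hp240 : p < 240 := by
    have : p + 1 ≤ k * (p + 1) := Nat.le_mul_of_pos_left _ hk0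
    omega
  have hdiv : 120 * G₀.index / (p + 1) = k := by
    rw [← hkey, Nat.mul_div_cancel _ (by omega)]
  have hmk : (p - 1) / (120 * G₀.index / (p + 1)) = Nat.card M := by
    rw [hdiv, hk, Nat.mul_div_cancel _ hk0]
  have hmod : ∀ q, q.Prime → p ≠ q → p % q ≠ 0 := fun q hq hpq h =>
    hpq ((Nat.prime_dvd_prime_iff_eq hq hp).1 (Nat.dvd_of_mod_eq_zero h)).symm
  obtain ⟨hi1, hcases⟩ := exceptional_arith hp240 hi.2 ⟨hi.1, hp7,
    ⟨hmod 2 Nat.prime_two hp30.1, hmod 3 Nat.prime_three hp30.2.1, hmod 5 (by norm_num) hp30.2.2⟩,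
    or_iff_not_imp_right.2 fun h => hmod 7 (by norm_num) h,
    by rw [← hkey, Nat.mul_mod_left], by rw [hdiv, hk, Nat.mul_mod_left], by rw [hmk]; exact h30⟩
  rw [hmk] at hcases
  refine ⟨Nat.card M, hcases, ?_, S, M, ?_, hSMb, hcomm, ⟨eS⟩, rfl, hMcyc⟩
  · rw [Module.natCard_eq_pow_finrank (K := ZMod p), Nat.card_zmod, ← hn, hn2]
  · rw [hSM]; exact Subgroup.index_eq_one.1 hi1

/-- The product decomposition as an isomorphism. -/
theorem equiv_prod {X : Type*} [Group X] (S M : Subgroup X) (hSM : S ⊔ M = ⊤) (hb : S ⊓ M = ⊥)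
    (hcomm : ∀ s ∈ S, ∀ x ∈ M, s * x = x * s) : Nonempty (X ≃* S × M) := by
  let f : S × M →* X :=
    { toFun := fun z => (z.1 : X) * z.2
      map_one' := by simp
      map_mul' := fun a b => by
        show (a.1 : X) * b.1 * ((a.2 : X) * b.2) = a.1 * a.2 * (b.1 * b.2)
        rw [mul_assoc, ← mul_assoc (b.1 : X), hcomm _ b.1.2 _ a.2.2]; group }
  refine ⟨(MulEquiv.ofBijective f ⟨?_, ?_⟩).symm⟩
  · rw [← MonoidHom.ker_eq_bot_iff, Subgroup.eq_bot_iff_forall]
    rintro ⟨s, x⟩ hsx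
    have h1 : (s : X) = (x : X)⁻¹ := eq_inv_of_mul_eq_one_left hsx
    have h2 : (s : X) ∈ S ⊓ M := Subgroup.mem_inf.2 ⟨s.2, h1 ▸ M.inv_mem x.2⟩
    rw [hb, Subgroup.mem_bot] at h2
    rw [h2] at h1
    exact Prod.ext (Subtype.ext h2) (Subtype.ext (inv_eq_one.1 h1.symm))
  · rw [← MonoidHom.range_eq_top, eq_top_iff, ← hSM]
    exact sup_le (fun s hs => ⟨(⟨s, hs⟩, 1), mul_one s⟩) (fun x hx => ⟨(1, ⟨x, hx⟩), one_mul x⟩)

end CfsgLib.Zassenhaus
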