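import Cfsg.Agent.Zassenhaus.Pairs
import Cfsg.Agent.InvChar.UniqueInvolution
import Cfsg.Agent.Transfer.Basic
import Cfsg.Agent.Coprime.Basic
import Cfsg.Agent.Solvable.PGroupBasic

/-!
A perfect fixed-point-free linear group has order divisible by three and no central element of
order three.
-/

set_option autoImplicit false
set_option linter.unusedSectionVars false
set_option linter.style.haveILetI false

namespace CfsgLib.Zassenhaus

open Subgroup

variable {G : Type*} [Group G] [Finite G]
variable {A : Type*} [Ring A] [Algebra ℂ A] [Nontrivial A] [FiniteDimensional ℂ A] {σ : G →* A}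

/-- Commuting elements of the same prime order generate the same cyclic group. -/
theorem IsFpfAlg.mem_zpowers_of_commute (h : IsFpfAlg σ) {p : ℕ} (hp : p.Prime) {x y : G}
    (hx : orderOf x = p) (hy : orderOf y = p) (hc : Commute x y) : y ∈ zpowers x := by
  by_contra hyx
  haveI : Fact p.Prime := ⟨hp⟩
  have geom : ∀ g : G, g ≠ 1 → g ^ p = 1 → ∑ i ∈ Finset.range p, σ g ^ i = 0 := fun g hg hgp => by
    refine h.mul_left_cancel₀ hg ?_
    rw [mul_geom_sum, ← map_pow, hgp, map_one, sub_self]
  have hx1 : x ≠ 1 := fun e => hp.ne_one (by rw [← hx, e, orderOf_one])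
  have hxp : x ^ p = 1 := hx ▸ pow_orderOf_eq_one x
  have hyp : y ^ p = 1 := hy ▸ pow_orderOf_eq_one y
  have hw : ∀ i : ℕ, ∑ k ∈ Finset.range p, σ (x ^ i * y) ^ k = 0 := fun i => by
    refine geom _ (fun e => hyx ?_) ?_
    · rw [eq_inv_of_mul_eq_one_right e]; exact inv_mem (pow_mem (mem_zpowers x) i)
    · rw [(hc.pow_left i).mul_pow, ← pow_mul, mul_comm, pow_mul, hxp, hyp, one_pow, mul_one]
  have hs : ∑ i ∈ Finset.range p, ∑ k ∈ Finset.range p, σ (x ^ i * y) ^ k = 0 :=
    Finset.sum_eq_zero fun i _ => hw i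
  rw [Finset.sum_comm] at hs
  have hin : ∀ k ∈ Finset.range p, ∑ i ∈ Finset.range p, σ (x ^ i * y) ^ k =
      if k = 0 then (p : A) else 0 := by
    intro k hk
    have e : ∀ i : ℕ, σ (x ^ i * y) ^ k = σ (x ^ k) ^ i * σ (y ^ k) := fun i => by
      rw [← map_pow, (hc.pow_left i).mul_pow, map_mul, ← pow_mul, mul_comm, pow_mul, map_pow σ (x ^ k) i]
    simp only [e, ← Finset.sum_mul]
    split_ifs with h0
    · subst h0; simp
    · rw [geom _ (fun e' => ?_) (by rw [← pow_mul, mul_comm, pow_mul, hxp, one_pow]), zero_mul]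
      exact Nat.not_dvd_of_pos_of_lt (Nat.pos_of_ne_zero h0) (Finset.mem_range.1 hk)
        (hx ▸ orderOf_dvd_of_pow_eq_one e')
  rw [Finset.sum_congr rfl hin, Finset.sum_ite_eq'] at hs
  simp only [Finset.mem_range, hp.pos, ↓reduceIte] at hs
  exact one_ne_zero (α := A) (nat_mul_cancel hp.ne_zero (by rw [mul_one, hs]))

theorem IsFpfAlg.restrict (h : IsFpfAlg σ) (H : Subgroup G) : IsFpfAlg (σ.comp H.subtype) :=
  h.comp H.subtype Subtype.val_injective

theorem IsFpfAlg.cyclic_or_quaternion (h : IsFpfAlg σ) {p : ℕ} [Fact p.Prime] {R : Subgroup G}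
    (hR : IsPGroup p R) :
    IsCyclic R ∨ (p = 2 ∧ ∃ n : ℕ, 1 ≤ n ∧ Nonempty (R ≃* QuaternionGroup (2 ^ n))) := by
  refine CfsgLib.UniqueInvol.cyclic_or_quaternion hR fun x y hx hy => ?_
  have hp := (Fact.out : p.Prime)
  haveI : Nontrivial R := ⟨⟨x, 1, fun e => hp.ne_one (by rw [← hx, e, orderOf_one])⟩⟩
  haveI := hR.center_nontrivial
  obtain ⟨z₀, hz₀⟩ := exists_ne (1 : center R)
  obtain ⟨k, hk⟩ := IsPGroup.iff_orderOf.1 hR (z₀ : R)
  have hk0 : k ≠ 0 := fun e => hz₀ (Subtype.ext (orderOf_eq_one_iff.1 (by rw [hk, e, pow_zero])))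
  set z : R := (z₀ : R) ^ p ^ (k - 1)
  have hz : orderOf z = p := by
    rw [orderOf_pow_of_dvd (pow_ne_zero _ hp.ne_zero) (hk ▸ pow_dvd_pow p (Nat.sub_le k 1)), hk,
      Nat.pow_div (Nat.sub_le k 1) hp.pos, Nat.sub_sub_self (Nat.one_le_iff_ne_zero.2 hk0), pow_one]
  have key : ∀ w : R, orderOf w = p → zpowers z = zpowers w := fun w hw => by
    have h1 := h.restrict R |>.mem_zpowers_of_commute hp hz hw
      (((show Commute w (z₀ : R) from mem_center_iff.1 z₀.2 w).pow_right _).symm)
    exact (Subgroup.eq_of_le_of_card_ge (zpowers_le.2 h1)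
      (by rw [Nat.card_zpowers, Nat.card_zpowers, hz, hw])).symm
  rw [← key x hx, key y hy]
  exact mem_zpowers y

/-- A perfect group has no non-trivial map to a solvable group. -/
theorem map_eq_one_of_perfect {X Y : Type*} [Group X] [Group Y] [Group.IsSolvable Y]
    (hX : commutator X = ⊤) (f : X →* Y) (x : X) : f x = 1 := by
  by_contra hne
  haveI : Nontrivial f.range := ⟨⟨⟨f x, x, rfl⟩, 1, fun e => hne (congrArg Subtype.val e)⟩⟩
  refine (Group.IsSolvable.commutator_lt_top_of_nontrivial (G := f.range)).ne ?_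
  rw [eq_top_iff]
  rintro ⟨_, a, rfl⟩ -
  have h1 : a ∈ commutator X := hX.symm ▸ mem_top a
  have h2 := Subgroup.mem_map_of_mem f.rangeRestrict h1
  rw [_root_.commutator_def, map_commutator, MonoidHom.range_eq_map .. |>.symm,
    MonoidHom.range_eq_top.2 f.rangeRestrict_surjective] at h2
  rw [_root_.commutator_def]
  exact h2

theorem isSolvable_comm {X : Type*} [Group X] (hc : ∀ a b : X, a * b = b * a) : Group.IsSolvable X :=
  Group.isSolvable_of_comm hc

/-- A perfect fixed-point-free group has no central element of order three. -/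
theorem IsFpfAlg.not_central_three (h : IsFpfAlg σ) (hperf : commutator G = ⊤) {x : G}
    (hx : orderOf x = 3) : x ∉ center G := by
  intro hxc
  haveI : Fact (Nat.Prime 3) := ⟨Nat.prime_three⟩
  obtain ⟨P, hP⟩ := (IsPGroup.of_card (p := 3) (G := zpowers x) (n := 1)
    (by rw [Nat.card_zpowers, hx, pow_one])).exists_le_sylow
  have hcyc : IsCyclic (P : Subgroup G) :=
    (h.cyclic_or_quaternion P.isPGroup').resolve_right fun e => absurd e.1 (by norm_num)
  have hcomm : IsMulCommutative (P : Subgroup G) := by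
    letI := IsCyclic.commGroup (α := (P : Subgroup G))
    exact ⟨⟨fun a b => mul_comm a b⟩⟩
  have h1 := CfsgLib.TransferBasic.inf_center_inf_commutator_eq_bot (P := P) hcomm
  have h2 : x ∈ (P : Subgroup G) ⊓ commutator G ⊓ center G :=
    ⟨⟨hP (mem_zpowers x), hperf.symm ▸ mem_top x⟩, hxc⟩
  rw [h1, Subgroup.mem_bot] at h2
  rw [h2, orderOf_one] at hx
  omega

/-- An automorphism of order prime to six of a two-generated `2`-group is trivial. -/
theorem commute_of_two_gen {g : G} {R : Subgroup G} (hR : IsPGroup 2 R) {a b : R}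
    (hab : closure ({a, b} : Set R) = ⊤) (hg : g ∈ normalizer (R : Set G))
    (h6 : (orderOf g).Coprime 6) : g ∈ centralizer (R : Set G) := by
  classical
  have hinvR : ∀ c ∈ zpowers g, ∀ u ∈ R, c * u * c⁻¹ ∈ R := fun c hc u hu =>
    (mem_normalizer_iff.1 ((zpowers_le.2 hg) hc) u).1 hu
  letI : MulDistribMulAction (zpowers g) R :=
    { smul := fun c u => ⟨c.1 * u.1 * c.1⁻¹, hinvR c.1 c.2 u.1 u.2⟩
      one_smul := fun u => Subtype.ext (by show (1 : G) * u.1 * (1 : G)⁻¹ = u.1; group)
      mul_smul := fun c d u => Subtype.ext (by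
        show c.1 * d.1 * u.1 * (c.1 * d.1)⁻¹ = c.1 * (d.1 * u.1 * d.1⁻¹) * c.1⁻¹; group)
      smul_one := fun c => Subtype.ext (by show c.1 * (1 : G) * c.1⁻¹ = 1; group)
      smul_mul := fun c u v => Subtype.ext (by
        show c.1 * (u.1 * v.1) * c.1⁻¹ = c.1 * u.1 * c.1⁻¹ * (c.1 * v.1 * c.1⁻¹); group) }
  obtain ⟨m, hm⟩ := IsPGroup.iff_card.1 hR
  have hfix := CfsgLib.Coprime.smul_eq_self_of_trivial_mod_frattini (G := R) (A := zpowers g)
    (by rw [Nat.card_zpowers, hm]; exact Nat.Coprime.pow_right _ (h6.coprime_dvd_right (by norm_num)))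
  have hsq : ∀ u : R, u ^ 2 ∈ frattini R := by
    intro u
    rw [frattini, Order.radical, mem_iInf]
    intro M
    rw [mem_iInf]
    intro hM
    obtain ⟨hn, hidx⟩ := CfsgLib.PGroupBasic.coatom_normal_index hR hM
    have := hn
    rw [← QuotientGroup.eq_one_iff, QuotientGroup.mk_pow, ← hidx, Subgroup.index_eq_card,
      pow_card_eq_one']
  have hsq' : ∀ z : R ⧸ frattini R, z * z = 1 := fun z => by
    obtain ⟨u, rfl⟩ := QuotientGroup.mk_surjective z
    rw [← QuotientGroup.mk_mul, QuotientGroup.eq_one_iff, ← pow_two]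
    exact hsq u
  have hcomm : ∀ z w : R ⧸ frattini R, z * w = w * z := fun z w => by
    have hi : ∀ z : R ⧸ frattini R, z⁻¹ = z := fun z => inv_eq_of_mul_eq_one_right (hsq' z)
    calc z * w = (z * w)⁻¹ := (hi _).symm
      _ = w⁻¹ * z⁻¹ := mul_inv_rev z w
      _ = w * z := by rw [hi, hi]
  set α : R ⧸ frattini R := QuotientGroup.mk a
  set β : R ⧸ frattini R := QuotientGroup.mk b
  have hsurj : Function.Surjective fun z : Bool × Bool =>
      (if z.1 then α else 1) * (if z.2 then β else 1) := by
    intro z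
    obtain ⟨u, rfl⟩ := QuotientGroup.mk_surjective z
    have hu : u ∈ closure ({a, b} : Set R) := hab.symm ▸ mem_top u
    induction hu using closure_induction with
    | mem v hv =>
      rcases hv with rfl | rfl
      exacts [⟨(true, false), by simp [α]⟩, ⟨(false, true), by simp [β]⟩]
    | one => exact ⟨(false, false), by simp⟩
    | mul v w _ _ hv hw =>
      obtain ⟨⟨i, j⟩, hi⟩ := hv
      obtain ⟨⟨k, l⟩, hk⟩ := hw
      refine ⟨(xor i k, xor j l), ?_⟩
      simp only at hi hk ⊢
      rw [QuotientGroup.mk_mul, ← hi, ← hk]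
      have e : ∀ p q r s : R ⧸ frattini R, p * q * (r * s) = p * r * (q * s) := fun p q r s => by
        rw [mul_assoc, ← mul_assoc q r, hcomm q r, mul_assoc r, ← mul_assoc]
      rw [e]
      cases i <;> cases j <;> cases k <;> cases l <;> simp [hsq']
    | inv v _ hv =>
      obtain ⟨w, hw⟩ := hv
      exact ⟨w, by rw [QuotientGroup.mk_inv, inv_eq_of_mul_eq_one_right (hsq' _)]; exact hw⟩
  have hq4 : Nat.card (R ⧸ frattini R) ≤ 4 := (Nat.card_le_card_of_surjective _ hsurj).trans (le_of_eq (by
    rw [Nat.card_prod, Nat.card_eq_fintype_card, Fintype.card_bool]))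
  have hinv : ∀ c : zpowers g, ∀ u v : R, u⁻¹ * v ∈ frattini R → (c • u)⁻¹ * c • v ∈ frattini R := by
    intro c u v huv
    rw [← smul_inv', ← smul_mul']
    exact (Subgroup.characteristic_iff_comap_eq.1 (frattini_characteristic (G := R))
      (MulDistribMulAction.toMulEquiv R c)).symm.le huv
  let act : MulAction (zpowers g) (R ⧸ frattini R) :=
    { smul := fun c => Quotient.map' (fun u => c • u) fun u v huv => by
        rw [QuotientGroup.leftRel_apply] at huv ⊢
        exact hinv c u v huv
      one_smul := fun z => by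
        induction z using QuotientGroup.induction_on with
        | H u => exact congrArg QuotientGroup.mk (one_smul (zpowers g) u)
      mul_smul := fun c d z => by
        induction z using QuotientGroup.induction_on with
        | H u => exact congrArg QuotientGroup.mk (mul_smul c d u) }
  refine mem_centralizer_iff.2 fun y hy => ?_
  have hkey := hfix (fun c u => ?_) ⟨g, mem_zpowers g⟩ ⟨y, hy⟩
  · exact (mul_inv_eq_iff_eq_mul.1 (congrArg Subtype.val hkey)).symm
  rw [← QuotientGroup.eq]
  by_contra hne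
  have horb : MulAction.orbit (zpowers g) (QuotientGroup.mk u : R ⧸ frattini R) ⊆ {z | z ≠ 1} := by
    rintro _ ⟨d, rfl⟩ h1
    refine hne ?_
    have e1 : (QuotientGroup.mk u : R ⧸ frattini R) = 1 := by
      have h2 := congrArg (fun z => d⁻¹ • z) (show d • (QuotientGroup.mk u : R ⧸ frattini R) = 1 from h1)
      simp only [inv_smul_smul] at h2
      rw [h2]
      exact congrArg QuotientGroup.mk (smul_one d⁻¹)
    have e2 : c • (QuotientGroup.mk u : R ⧸ frattini R) = 1 := by
      rw [e1]; exact congrArg QuotientGroup.mk (smul_one c)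
    exact e1.trans e2.symm
  have hcard : Nat.card (MulAction.orbit (zpowers g) (QuotientGroup.mk u : R ⧸ frattini R)) ≤ 3 := by
    have := Fintype.ofFinite (R ⧸ frattini R)
    refine (Nat.card_mono (Set.toFinite _) horb).trans ?_
    rw [show Nat.card ({z : R ⧸ frattini R | z ≠ 1} : Set _) = Nat.card {z : R ⧸ frattini R // z ≠ 1} from rfl,
      Nat.card_eq_fintype_card, Fintype.card_subtype_compl, Fintype.card_subtype_eq]
    rw [Nat.card_eq_fintype_card] at hq4
    omega
  have hd := Nat.card_congr (MulAction.orbitEquivQuotientStabilizer (zpowers g) (QuotientGroup.mk u : R ⧸ frattini R))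
  rw [← Subgroup.index_eq_card] at hd
  have hd2 : (MulAction.stabilizer (zpowers g) (QuotientGroup.mk u : R ⧸ frattini R)).index ∣ orderOf g :=
    Nat.card_zpowers g ▸ Subgroup.index_dvd_card _
  rw [hd] at hcard
  set i := (MulAction.stabilizer (zpowers g) (QuotientGroup.mk u : R ⧸ frattini R)).index
  have hi6 : i.Coprime 6 := h6.coprime_dvd_left hd2
  have hi0 : i ≠ 0 := Subgroup.index_ne_zero_of_finite
  have h1 : i = 1 := by interval_cases i <;> simp_all (config := { decide := true })
  exact hne ((Subgroup.index_eq_one.1 h1).symm.le (mem_top c) :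
    c • (QuotientGroup.mk u : R ⧸ frattini R) = _).symm

/-- A perfect non-trivial fixed-point-free group has order divisible by three. -/
theorem IsFpfAlg.three_dvd (h : IsFpfAlg σ) (hperf : commutator G = ⊤) [Nontrivial G] :
    3 ∣ Nat.card G := by
  classical
  by_contra h3
  set p := (Nat.card G).minFac with hp
  have hpp : p.Prime := Nat.minFac_prime (Finite.one_lt_card (α := G)).ne'
  haveI : Fact p.Prime := ⟨hpp⟩
  obtain ⟨P⟩ : Nonempty (Sylow p G) := inferInstance
  by_cases hcyc : IsCyclic (P : Subgroup G)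
  · have hc := IsCyclic.isComplement' hp.symm hcyc
    set T := MonoidHom.transferSylow P (hcyc.normalizer_le_centralizer hp.symm)
    haveI : Group.IsSolvable (P : Subgroup G) := by
      letI := IsCyclic.commGroup (α := (P : Subgroup G))
      exact isSolvable_comm mul_comm
    have htop : T.ker = ⊤ := by
      rw [eq_top_iff]; intro x _; exact MonoidHom.mem_ker.2 (map_eq_one_of_perfect hperf T x)
    have h1 := hc.card_mul_card
    rw [htop, Subgroup.card_top] at h1
    have hP1 : Nat.card (P : Subgroup G) = 1 :=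
      Nat.eq_of_mul_eq_mul_left Nat.card_pos (h1.trans (mul_one _).symm)
    exact P.ne_bot_of_dvd_card (Nat.minFac_dvd _) (Subgroup.eq_bot_of_card_eq _ hP1)
  have hp2 : p = 2 := by
    rcases h.cyclic_or_quaternion P.isPGroup' with hc | hq
    exacts [absurd hc hcyc, hq.1]
  haveI : Fact (Nat.Prime 2) := ⟨Nat.prime_two⟩
  obtain ⟨S, N, hN, hNS⟩ := CfsgLib.Fusion.hasNormalPComplement_of_localCondition (p := 2) (G := G)
    fun R hR g hg hgo => by
      have h6 : (orderOf g).Coprime 6 := by
        rw [show (6 : ℕ) = 2 * 3 from rfl]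
        refine hgo.mul_right ((Nat.Prime.coprime_iff_not_dvd Nat.prime_three).2 fun hd => h3 ?_).symm
        exact hd.trans (orderOf_dvd_natCard g)
      rcases h.cyclic_or_quaternion hR with hc | ⟨-, n, -, ⟨e⟩⟩
      · obtain ⟨a, ha⟩ := IsCyclic.exists_generator (α := R)
        refine commute_of_two_gen hR (a := a) (b := a) ?_ hg h6
        rw [eq_top_iff]
        intro x _
        exact (zpowers_le.2 (Subgroup.subset_closure (Set.mem_insert _ _))) (ha x)
      · refine commute_of_two_gen hR (a := e.symm (QuaternionGroup.a 1))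
          (b := e.symm (QuaternionGroup.xa 0)) ?_ hg h6
        rw [eq_top_iff]
        intro x _
        obtain ⟨w, rfl⟩ := e.symm.surjective x
        have hA : ∀ i : ZMod (2 * 2 ^ n), e.symm (QuaternionGroup.a i) ∈
            closure ({e.symm (QuaternionGroup.a 1), e.symm (QuaternionGroup.xa 0)} : Set R) := fun i => by
          rw [← ZMod.natCast_zmod_val i, ← QuaternionGroup.a_one_pow, map_pow]
          exact pow_mem (Subgroup.subset_closure (Set.mem_insert _ _)) _
        cases w with
        | a i => exact hA i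
        | xa i =>
          rw [show QuaternionGroup.xa i = QuaternionGroup.xa 0 * QuaternionGroup.a i by
            rw [QuaternionGroup.xa_mul_a, zero_add], map_mul]
          exact mul_mem (Subgroup.subset_closure (Set.mem_insert_of_mem _ rfl)) (hA i)
  haveI := hN
  have hSsol : Group.IsSolvable (G ⧸ N) := by
    obtain ⟨k, hk⟩ := IsPGroup.iff_card.1 S.isPGroup'
    haveI := (IsPGroup.of_card (G := G ⧸ N) (p := 2) (n := k) (by
      rw [← Subgroup.index_eq_card, hNS.symm.index_eq_card, hk])).isNilpotent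
    infer_instance
  have htop : N = ⊤ := by
    rw [eq_top_iff]; intro x _
    exact (QuotientGroup.eq_one_iff x).1 (map_eq_one_of_perfect hperf (QuotientGroup.mk' N) x)
  have h1 := hNS.card_mul_card
  rw [htop, Subgroup.card_top] at h1
  have hS1 : Nat.card (S : Subgroup G) = 1 :=
    Nat.eq_of_mul_eq_mul_left Nat.card_pos (h1.trans (mul_one _).symm)
  exact S.ne_bot_of_dvd_card (hp2 ▸ Nat.minFac_dvd _) (Subgroup.eq_bot_of_card_eq _ hS1)

end CfsgLib.Zassenhaus
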