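import Cfsg.Agent.Zassenhaus.Frames
import Cfsg.Agent.Zassenhaus.Perfect
import Cfsg.Agent.Frobenius.CharZero
import Cfsg.Agent.S3378

/-!
The theorem of Zassenhaus: a perfect fixed-point-free group is `SL(2,5)`; the structure of a
non-solvable fixed-point-free group.
-/

set_option autoImplicit false
set_option linter.unusedSectionVars false
set_option linter.style.haveILetI false

namespace CfsgLib.Zassenhaus

open Subgroup
open Cfsg.Agent.S3374 (quad quad_mul quad_mem mulMod elts card_sl)

/-- `SL(2,5)` -/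
abbrev SL25 : Type := Matrix.SpecialLinearGroup (Fin 2) (ZMod 5)

theorem quad_injective : Function.Injective quad := by
  intro m n e
  simp only [quad, Prod.mk.injEq] at e
  obtain ⟨e1, e2, e3, e4⟩ := e
  refine Subtype.ext (Matrix.ext fun i j => ZMod.val_injective 5 ?_)
  fin_cases i <;> fin_cases j
  exacts [e1, e2, e3, e4]

theorem elts_facts :
    (∀ x ∈ elts, mulMod 5 x x = (1, 0, 0, 1) → x = (1, 0, 0, 1) ∨ x = (4, 0, 0, 4)) ∧
    (∀ x ∈ elts, mulMod 5 x (1, 1, 0, 1) = mulMod 5 (1, 1, 0, 1) x →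
      mulMod 5 x (1, 0, 1, 1) = mulMod 5 (1, 0, 1, 1) x → x = (1, 0, 0, 1) ∨ x = (4, 0, 0, 4)) ∧
    (elts.filter fun x => mulMod 5 (mulMod 5 x x) x == (1, 0, 0, 1) && x != (1, 0, 0, 1)).length ≤ 20 := by
  decide +kernel

theorem unique_involution_sl {m n : SL25} (hm : m * m = 1) (hn : n * n = 1) (hm1 : m ≠ 1) (hn1 : n ≠ 1) :
    m = n := by
  have key : ∀ k : SL25, k * k = 1 → k ≠ 1 → quad k = (4, 0, 0, 4) := fun k hk hk1 => by
    refine (elts_facts.1 _ (quad_mem k) ?_).resolve_left fun e => hk1 (quad_injective (e.trans Cfsg.Agent.S3374.quad_one.symm))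
    rw [← quad_mul, hk, Cfsg.Agent.S3374.quad_one]
  exact quad_injective ((key m hm hm1).trans (key n hn hn1).symm)

/-- The lower shear. -/
def lowerShear : SL25 := ⟨!![1, 0; 1, 1], by decide +kernel⟩

theorem quad_shears : quad Cfsg.Agent.S3374.shear = (1, 1, 0, 1) ∧ quad lowerShear = (1, 0, 1, 1) := by
  decide +kernel

theorem card_center_sl : Nat.card (center SL25) ≤ 2 := by
  classical
  let f : center SL25 → Bool := fun z => decide (quad z.1 = (4, 0, 0, 4))
  have key : ∀ z : center SL25, quad z.1 = (1, 0, 0, 1) ∨ quad z.1 = (4, 0, 0, 4) := fun z => by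
    refine elts_facts.2.1 _ (quad_mem _) ?_ ?_
    · rw [← quad_shears.1, ← quad_mul, ← quad_mul, mem_center_iff.1 z.2]
    · rw [← quad_shears.2, ← quad_mul, ← quad_mul, mem_center_iff.1 z.2]
  refine (Nat.card_le_card_of_injective f fun z w e => ?_).trans (le_of_eq (by
    rw [Nat.card_eq_fintype_card, Fintype.card_bool]))
  refine Subtype.ext (quad_injective ?_)
  simp only [f, decide_eq_decide] at e
  rcases key z with hz | hz <;> rcases key w with hw | hw <;> rw [hz, hw] at e ⊢
  · exact absurd (e.2 rfl) (by decide)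
  · exact absurd (e.1 rfl) (by decide)

theorem card_three_sl : Nat.card {m : SL25 // orderOf m = 3} ≤ 20 := by
  classical
  set L := elts.filter fun x => mulMod 5 (mulMod 5 x x) x == (1, 0, 0, 1) && x != (1, 0, 0, 1) with hL
  have hmem : ∀ m : {m : SL25 // orderOf m = 3}, quad m.1 ∈ L.toFinset := fun m => by
    rw [List.mem_toFinset, hL, List.mem_filter]
    refine ⟨quad_mem _, ?_⟩
    rw [Bool.and_eq_true, beq_iff_eq, bne_iff_ne]
    refine ⟨?_, fun e => ?_⟩
    · rw [← quad_mul, ← quad_mul, ← pow_two, ← pow_succ, show (2 : ℕ) + 1 = orderOf m.1 from m.2.symm,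
        pow_orderOf_eq_one, Cfsg.Agent.S3374.quad_one]
    · have := quad_injective (e.trans Cfsg.Agent.S3374.quad_one.symm)
      have h3 := m.2
      rw [this, orderOf_one] at h3
      omega
  refine le_trans (Nat.card_le_card_of_injective (fun m => (⟨_, hmem m⟩ : L.toFinset))
    fun a b e => Subtype.ext (quad_injective (congrArg Subtype.val e))) ?_
  rw [Nat.card_eq_fintype_card, Fintype.card_coe]
  exact (List.toFinset_card_le _).trans elts_facts.2.2

variable {G : Type*} [Group G] [Finite G]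
variable {A : Type*} [Ring A] [Algebra ℂ A] [Nontrivial A] [FiniteDimensional ℂ A] {σ : G →* A}

theorem IsFpfAlg.sum_root (h : IsFpfAlg σ) {a b : G} (ha : orderOf a = 3) (hb : orderOf b = 3)
    (hR : anti σ a b * anti σ a b = 20) : σ ((a * b) ^ 5) = -1 := by
  set w := a * b
  set u := σ w + σ w⁻¹ with hu
  have h1 : u * u - u - 1 = 0 := by
    refine num_cancel (n := 16) ?_
    rw [h.anti_eq ha hb] at hR
    rw [show 16 * (u * u - u - 1) = (4 * u - 2) * (4 * u - 2) - 20 by noncomm_ring [ofNat_nsmul], hR, sub_self]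
  set t := σ w
  set t' := σ w⁻¹
  have h2 : t * t' = 1 := map_mul_inv w
  have h3 : t' * t = 1 := map_inv_mul w
  have h4 : t * t * t * t - t * t * t + t * t - t + 1 = 0 := by
    have : t * (u * u - u - 1) * t = 0 := by rw [h1, mul_zero, zero_mul]
    rw [hu, show t * ((t + t') * (t + t') - (t + t') - 1) * t =
      t * t * t * t + t * t * (t' * t) + t * t' * t * t + (t * t') * (t' * t) - t * t * t - t * t' * t - t * t by
      noncomm_ring [ofNat_nsmul], h2, h3] at this
    rw [← this]; noncomm_ring [ofNat_nsmul]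
  have h5 : t * t * t * t * t + 1 = 0 := by
    rw [show t * t * t * t * t + 1 = (t + 1) * (t * t * t * t - t * t * t + t * t - t + 1) by
      noncomm_ring [ofNat_nsmul], h4, mul_zero]
  rw [map_pow, eq_neg_iff_add_eq_zero, ← h5]
  noncomm_ring [ofNat_nsmul]

theorem neg_one_ne_one : (-1 : A) ≠ 1 := fun e => by
  refine one_ne_zero (α := A) (num_cancel (n := 2) ?_)
  rw [mul_one, show (2 : A) = 1 - -1 by noncomm_ring [ofNat_nsmul], e, sub_self]

/-- An irrational pair generates a copy of `SL(2,5)`. -/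
theorem iso_of_pair (h : IsFpfAlg σ) {a b : G} (ha : orderOf a = 3) (hb : orderOf b = 3)
    (hR : anti σ a b * anti σ a b = 20) :
    Nonempty (closure ({a, b} : Set G) ≃* SL25) := by
  set K := closure ({a, b} : Set G)
  have haK : a ∈ K := Subgroup.subset_closure (Set.mem_insert _ _)
  have hbK : b ∈ K := Subgroup.subset_closure (Set.mem_insert_of_mem _ rfl)
  set B := b * a * (b * a) with hB
  have hba : orderOf b = 3 ∧ anti σ b a * anti σ b a = 20 := ⟨hb, by rwa [anti_comm]⟩
  have h10 : σ ((b * a) ^ 5) = -1 := h.sum_root hb ha hba.2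
  have hB5 : B ^ 5 = 1 := by
    refine h.injective ?_
    rw [hB, ← pow_two, ← pow_mul, show 2 * 5 = 5 + 5 from rfl, pow_add, map_mul, h10, neg_mul_neg, one_mul, map_one]
  -- `a B` has order four
  set c := a * B * (a * B) with hc
  have hcσ : σ c = -1 := by
    have hb' : orderOf (a * b * a⁻¹) = 3 := order_conj.trans hb
    have hanti : anti σ b (a * b * a⁻¹) = -2 := by
      refine num_eq_of_mul (n := 4) ?_
      rw [anti_conj_self h ha hb, hR]; noncomm_ring [ofNat_nsmul]
    set w := b * (a * b * a⁻¹) with hw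
    have hu : σ w + σ w⁻¹ = 0 := by
      refine num_cancel (n := 4) ?_
      have := h.anti_eq hb hb'
      rw [hanti, ← hw] at this
      calc 4 * (σ w + σ w⁻¹) = (4 * (σ w + σ w⁻¹) - 2) + 2 := by noncomm_ring [ofNat_nsmul]
        _ = 0 := by rw [← this]; noncomm_ring [ofNat_nsmul]
    have hww : σ (w * w) = -1 := by
      rw [map_mul]
      calc σ w * σ w = σ w * (σ w + σ w⁻¹) - σ w * σ w⁻¹ := by noncomm_ring [ofNat_nsmul]
        _ = -1 := by rw [hu, mul_zero, map_mul_inv, zero_sub]
    have e : a * B = a * (b * a * b * a⁻¹ * (a * a)) := by rw [hB]; group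
    have e2 : c = a * (w * w) * a⁻¹ := by
      have haaa : a * a * a = 1 := by
        rw [← pow_two, ← pow_succ, show (2 : ℕ) + 1 = orderOf a from ha.symm, pow_orderOf_eq_one]
      rw [hc, e, ← inv_eq_sq ha, hw]
      have e' : a * (b * a * b * a⁻¹ * a⁻¹) = a * (b * (a * b * a⁻¹)) * a⁻¹ := by group
      rw [e']; group
    rw [e2, map_mul, map_mul, hww, mul_neg_one, neg_mul, map_mul_inv]
  have hc1 : c ≠ 1 := fun e => neg_one_ne_one (A := A) (by rw [← hcσ, e, map_one])
  have hc2 : c ^ 2 = 1 := h.injective (by rw [pow_two, map_mul, hcσ, neg_mul_neg, one_mul, map_one])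
  have hcc : ∀ g : G, c * g = g * c := fun g => h.injective (by rw [map_mul σ c g, map_mul σ g c, hcσ, neg_one_mul, mul_neg_one])
  have ha3 : a ^ 3 = 1 := by rw [← ha]; exact pow_orderOf_eq_one a
  let rels := Cfsg.Agent.S3378.rels3
  let f : PresentedGroup rels →* G := PresentedGroup.toGroup
    (Cfsg.Agent.S3378.lift_rels a B c ha3 hB5 hc2 (hcc a) (hcc B) (by rw [pow_two, hc]))
  have hfr : f.range = K := by
    apply le_antisymm
    · rw [MonoidHom.range_eq_map, map_le_iff_le_comap, ← PresentedGroup.closure_range_of rels, closure_le]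
      rintro _ ⟨i, rfl⟩
      have hBK : B ∈ K := mul_mem (mul_mem hbK haK) (mul_mem hbK haK)
      fin_cases i <;> show f _ ∈ K <;> erw [PresentedGroup.toGroup.of] <;> simp
      exacts [haK, hBK, mul_mem (mul_mem haK hBK) (mul_mem haK hBK)]
    · refine (closure_le _).2 ?_
      have hA : a ∈ f.range := ⟨PresentedGroup.of 0, PresentedGroup.toGroup.of _⟩
      have hBr : B ∈ f.range := ⟨PresentedGroup.of 1, PresentedGroup.toGroup.of _⟩
      have hcr : c ∈ f.range := ⟨PresentedGroup.of 2, PresentedGroup.toGroup.of _⟩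
      have h5 : (b * a) ^ 5 = c := h.injective (by rw [h10, hcσ])
      have e5 : b * a * (B * B) = c := by
        rw [← h5, hB]; simp only [pow_succ, pow_zero, one_mul, mul_assoc]
      have e : b = c * (B * B)⁻¹ * a⁻¹ := by rw [← e5]; group
      rintro g (rfl | rfl)
      · exact hA
      · rw [e]; exact mul_mem (mul_mem hcr (inv_mem (mul_mem hBr hBr))) (inv_mem hA)
  obtain ⟨e⟩ := Cfsg.Agent.S3378.pres_equiv
  let g : SL25 →* K :=
    (f.codRestrict K fun x => hfr ▸ ⟨x, rfl⟩).comp e.symm.toMonoidHom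
  have hgs : Function.Surjective g := by
    intro k
    obtain ⟨x, hx⟩ : (k : G) ∈ f.range := hfr.symm ▸ k.2
    exact ⟨e x, Subtype.ext (by simp [g, hx])⟩
  have hdvd : ∀ y ∈ K, orderOf y ∣ Nat.card K := fun y hy => by
    rw [← Subgroup.orderOf_mk y hy]; exact orderOf_dvd_natCard _
  have h3d : 3 ∣ Nat.card K := ha ▸ hdvd a haK
  have h5d : 5 ∣ Nat.card K := by
    haveI : Fact (Nat.Prime 5) := ⟨by norm_num⟩
    have hB1 : B ≠ 1 := fun e' => by
      apply hc1
      rw [hc, e', mul_one]
      refine h.injective ?_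
      have h' : σ (a * a) = -1 := by rw [← hcσ, hc, e', mul_one]
      exfalso
      have h6 : σ ((a * a) ^ 3) = 1 := by
        rw [← pow_two, ← pow_mul, show 2 * 3 = 3 * 2 from rfl, pow_mul, ha3, one_pow, map_one]
      rw [map_pow, h', pow_succ, pow_two, neg_mul_neg, one_mul, one_mul] at h6
      exact neg_one_ne_one h6
    exact orderOf_eq_prime hB5 hB1 ▸ hdvd B (mul_mem (mul_mem hbK haK) (mul_mem hbK haK))
  have h4d : 4 ∣ Nat.card K := by
    haveI : Fact (Nat.Prime 2) := ⟨Nat.prime_two⟩
    have ho : orderOf (a * B) = 2 ^ (1 + 1) := by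
      refine orderOf_eq_prime_pow ?_ ?_
      · rw [pow_one, pow_two, ← hc]; exact hc1
      · rw [pow_succ, pow_one, pow_mul, pow_two (a * B), ← hc]; exact hc2
    have h' := hdvd (a * B) (mul_mem haK (mul_mem (mul_mem hbK haK) (mul_mem hbK haK)))
    rwa [ho] at h'
  have hker : g.ker = ⊥ := by
    have hcard := g.ker.card_mul_index
    rw [Subgroup.index_ker, MonoidHom.range_eq_top.2 hgs, Subgroup.card_top, Nat.card_eq_fintype_card (α := SL25),
      card_sl] at hcard
    have h60 : 60 ∣ Nat.card K := by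
      rw [show (60 : ℕ) = 4 * 3 * 5 from rfl]
      exact (Nat.Coprime.mul_dvd_of_dvd_of_dvd (by norm_num)
        (Nat.Coprime.mul_dvd_of_dvd_of_dvd (by norm_num) h4d h3d) h5d)
    obtain ⟨t, ht⟩ := h60
    rw [ht] at hcard
    have hk2 : Nat.card g.ker ∣ 2 := ⟨t, by nlinarith⟩
    rcases (Nat.dvd_prime Nat.prime_two).1 hk2 with hk | hk
    · exact Subgroup.eq_bot_of_card_eq _ hk
    · exfalso
      obtain ⟨n, hn⟩ := exists_prime_orderOf_dvd_card' (G := g.ker) 2 (hp := ⟨Nat.prime_two⟩) (dvd_of_eq hk.symm)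
      have hn2 : (n : SL25) * n = 1 := by
        have h' := pow_orderOf_eq_one n
        rw [hn, pow_two] at h'
        exact congrArg Subtype.val h'
      have hn1 : (n : SL25) ≠ 1 := fun e' => by rw [← Subgroup.orderOf_coe, e', orderOf_one] at hn; omega
      have hgc : g (e (PresentedGroup.of 2)) = ⟨c, by rw [← hfr]; exact ⟨PresentedGroup.of 2, PresentedGroup.toGroup.of _⟩⟩ :=
        Subtype.ext (by
          show f (e.symm (e (PresentedGroup.of 2))) = c
          rw [e.symm_apply_apply]; exact PresentedGroup.toGroup.of _)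
      have hm2 : e (PresentedGroup.of 2) * e (PresentedGroup.of 2) = 1 := by
        rw [← map_mul, ← pow_two, ← map_one e]
        congr 1
        exact PresentedGroup.one_of_mem (x := FreeGroup.of (2 : Fin 3) ^ 2) (by simp [Cfsg.Agent.S3378.rels3])
      have hm1 : e (PresentedGroup.of 2) ≠ 1 := fun e' => by
        rw [e', map_one] at hgc
        exact hc1 (congrArg Subtype.val hgc).symm
      have := n.2
      rw [unique_involution_sl hn2 hm2 hn1 hm1, MonoidHom.mem_ker, hgc] at this
      exact hc1 (congrArg Subtype.val this)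
  exact ⟨(MulEquiv.ofBijective g ⟨(MonoidHom.ker_eq_bot_iff g).1 hker, hgs⟩).symm⟩

/-- A perfect fixed-point-free group has an irrational pair. -/
theorem exists_pair (h : IsFpfAlg σ) (hperf : commutator G = ⊤) [Nontrivial G] :
    ∃ a b : G, orderOf a = 3 ∧ orderOf b = 3 ∧ anti σ a b * anti σ a b = 20 := by
  classical
  haveI : Fact (Nat.Prime 3) := ⟨Nat.prime_three⟩
  obtain ⟨x, hx⟩ := exists_prime_orderOf_dvd_card' (G := G) 3 (h.three_dvd hperf)
  by_contra hno
  push Not at hno
  -- at most four lines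
  obtain ⟨v, hv⟩ : ∃ v : Fin 4 → G, ∀ d : G, orderOf d = 3 → ∃ i, d ∈ zpowers (v i) ∧ orderOf (v i) = 3 := by
    by_cases hall : ∀ d : G, orderOf d = 3 → d ∈ zpowers x
    · exact ⟨fun _ => x, fun d hd => ⟨0, hall d hd, hx⟩⟩
    push Not at hall
    obtain ⟨d, hd, hdx⟩ := hall
    obtain ⟨y, hf⟩ : ∃ y, IsFrame σ x y := by
      rcases h.anti_cases hx hd with rfl | rfl | e | e | e
      · exact absurd (inv_mem (mem_zpowers x)) hdx
      · exact absurd (mem_zpowers d) hdx
      · exact ⟨d, hx, hd, e⟩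
      · exact ⟨d⁻¹, hx, by rw [orderOf_inv, hd], by rw [h.anti_inv_right hd, e, neg_neg]⟩
      · exact absurd e (hno x d hx hd)
    refine ⟨![x, y, x * y * x⁻¹, x⁻¹ * y * x], fun u hu => ?_⟩
    have hm : Member x y u := by
      by_contra hne
      rcases h.anti_cases hx hu with e | e | e | e | e
      · exact hne (member_inv.1 (Or.inl (by rw [e, inv_inv]; exact Set.mem_insert _ _)))
      · exact hne (Or.inl (e ▸ Set.mem_insert _ _))
      · rcases hf.positions h hu hne e with ⟨-, r, -⟩ | ⟨-, r, -⟩ | ⟨-, r, -⟩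
        exacts [hno _ u (order_conj.trans hf.2.1) hu r, hno _ u (order_conj'.trans hf.2.1) hu r,
          hno y u hf.2.1 hu r]
      · have hu' : orderOf u⁻¹ = 3 := by rw [orderOf_inv, hu]
        rcases hf.positions h hu' (fun hm => hne (member_inv.1 hm)) (by rw [h.anti_inv_right hu, e, neg_neg])
          with ⟨-, r, -⟩ | ⟨-, r, -⟩ | ⟨-, r, -⟩
        exacts [hno _ _ (order_conj.trans hf.2.1) hu' r, hno _ _ (order_conj'.trans hf.2.1) hu' r,
          hno y _ hf.2.1 hu' r]
      · exact hno x u hx hu e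
    have key : ∀ e ∈ Four x y, ∃ i : Fin 4, ![x, y, x * y * x⁻¹, x⁻¹ * y * x] i = e := by
      rintro e (rfl | rfl | rfl | rfl)
      exacts [⟨0, rfl⟩, ⟨1, rfl⟩, ⟨2, rfl⟩, ⟨3, rfl⟩]
    rcases hm with hm | hm
    · obtain ⟨i, hi⟩ := key _ hm
      exact ⟨i, by rw [hi]; exact mem_zpowers u, by rw [hi, hu]⟩
    · obtain ⟨i, hi⟩ := key _ hm
      exact ⟨i, by rw [hi, zpowers_inv]; exact mem_zpowers u, by rw [hi, orderOf_inv, hu]⟩
  let Lines := {Z : Subgroup G // ∃ d : G, orderOf d = 3 ∧ Z = zpowers d}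
  have hline : ∀ (g : G) (d : G), (zpowers d).map (MulAut.conj g).toMonoidHom = zpowers (g * d * g⁻¹) :=
    fun g d => MonoidHom.map_zpowers _ _
  let P : G →* Equiv.Perm Lines :=
    { toFun := fun g =>
        { toFun := fun Z => ⟨Z.1.map (MulAut.conj g).toMonoidHom, by
            obtain ⟨d, hd, hZ⟩ := Z.2
            exact ⟨g * d * g⁻¹, order_conj.trans hd, by rw [hZ, hline]⟩⟩
          invFun := fun Z => ⟨Z.1.map (MulAut.conj g⁻¹).toMonoidHom, by
            obtain ⟨d, hd, hZ⟩ := Z.2
            exact ⟨g⁻¹ * d * g⁻¹⁻¹, order_conj.trans hd, by rw [hZ, hline]⟩⟩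
          left_inv := fun Z => Subtype.ext (by
            obtain ⟨d, hd, hZ⟩ := Z.2
            show (Z.1.map (MulAut.conj g).toMonoidHom).map (MulAut.conj g⁻¹).toMonoidHom = Z.1
            rw [hZ, hline, hline]; congr 1; group)
          right_inv := fun Z => Subtype.ext (by
            obtain ⟨d, hd, hZ⟩ := Z.2
            show (Z.1.map (MulAut.conj g⁻¹).toMonoidHom).map (MulAut.conj g).toMonoidHom = Z.1
            rw [hZ, hline, hline]; congr 1; group) }
      map_one' := Equiv.ext fun Z => Subtype.ext (by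
        obtain ⟨d, hd, hZ⟩ := Z.2
        show Z.1.map (MulAut.conj (1 : G)).toMonoidHom = Z.1
        rw [hZ, hline, one_mul, inv_one, mul_one])
      map_mul' := fun g k => Equiv.ext fun Z => Subtype.ext (by
        obtain ⟨d, hd, hZ⟩ := Z.2
        show Z.1.map (MulAut.conj (g * k)).toMonoidHom =
          (Z.1.map (MulAut.conj k).toMonoidHom).map (MulAut.conj g).toMonoidHom
        rw [hZ, hline, hline, hline]; congr 1; group) }
  have hcardL : Nat.card Lines ≤ 4 := by
    let f : Lines → Fin 4 := fun Z => (hv Z.2.choose Z.2.choose_spec.1).choose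
    refine (Nat.card_le_card_of_injective f fun Z W e => ?_).trans (le_of_eq (Nat.card_fin 4))
    have key : ∀ Z : Lines, Z.1 = zpowers (v (f Z)) := fun Z => by
      obtain ⟨hm, ho⟩ := (hv Z.2.choose Z.2.choose_spec.1).choose_spec
      exact Z.2.choose_spec.2.trans (Subgroup.eq_of_le_of_card_ge (zpowers_le.2 hm)
        (by rw [Nat.card_zpowers, Nat.card_zpowers, ho, Z.2.choose_spec.1]))
    exact Subtype.ext ((key Z).trans (e ▸ (key W).symm))
  haveI : Group.IsSolvable (Equiv.Perm Lines) := by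
    have hc : Nat.card (Equiv.Perm Lines) = (Nat.card Lines).factorial := Nat.card_perm
    obtain ⟨k, hk⟩ : ∃ k, Nat.card Lines = k := ⟨_, rfl⟩
    rw [hk] at hc hcardL
    interval_cases k
    · exact CfsgLib.Char.isSolvable_of_card_eq 2 3 0 0 Nat.prime_two Nat.prime_three (by rw [hc]; rfl)
    · exact CfsgLib.Char.isSolvable_of_card_eq 2 3 0 0 Nat.prime_two Nat.prime_three (by rw [hc]; rfl)
    · exact CfsgLib.Char.isSolvable_of_card_eq 2 3 1 0 Nat.prime_two Nat.prime_three (by rw [hc]; rfl)
    · exact CfsgLib.Char.isSolvable_of_card_eq 2 3 1 1 Nat.prime_two Nat.prime_three (by rw [hc]; rfl)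
    · exact CfsgLib.Char.isSolvable_of_card_eq 2 3 3 1 Nat.prime_two Nat.prime_three (by rw [hc]; rfl)
  have hnorm : (zpowers x).Normal := ⟨fun y hy g => by
    have h1 := congrArg (fun π : Equiv.Perm Lines => (π ⟨zpowers x, x, hx, rfl⟩).1) (map_eq_one_of_perfect hperf P g)
    change (zpowers x).map (MulAut.conj g).toMonoidHom = zpowers x at h1
    rw [← h1]
    exact ⟨y, hy, rfl⟩⟩
  haveI := hnorm
  haveI : Group.IsSolvable (MulAut (zpowers x)) := by
    refine isSolvable_comm fun a b => MulEquiv.ext fun y => ?_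
    obtain ⟨i, hi⟩ := MonoidHom.map_cyclic a.toMonoidHom
    obtain ⟨j, hj⟩ := MonoidHom.map_cyclic b.toMonoidHom
    simp only [MulEquiv.coe_toMonoidHom] at hi hj
    rw [MulAut.mul_apply, MulAut.mul_apply, hi, hj, hj, hi, ← zpow_mul, ← zpow_mul, mul_comm]
  refine h.not_central_three hperf hx (mem_center_iff.2 fun g => ?_)
  have h1 := congrArg Subtype.val (DFunLike.congr_fun
    (map_eq_one_of_perfect hperf (MulAut.conjNormal (H := zpowers x)) g) ⟨x, mem_zpowers x⟩)
  rw [MulAut.conjNormal_apply] at h1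
  exact mul_inv_eq_iff_eq_mul.1 h1

/-- A non-solvable finite group contains a perfect non-trivial subgroup. -/
theorem exists_perfect {X : Type*} [Group X] [Finite X] (hX : ¬ Group.IsSolvable X) :
    ∃ M : Subgroup X, commutator M = ⊤ ∧ Nontrivial M := by
  classical
  have hex : ∃ n, ∃ M : Subgroup X, ¬ Group.IsSolvable M ∧ Nat.card M = n :=
    ⟨_, ⊤, fun hs => hX (Group.isSolvable_of_surjective (f := (⊤ : Subgroup X).subtype)
      fun x => ⟨⟨x, mem_top x⟩, rfl⟩), rfl⟩
  obtain ⟨M, hM, hMn⟩ := Nat.find_spec hex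
  refine ⟨M, ?_, ?_⟩
  · by_contra hne
    refine hM ((Group.isSolvable_iff_subgroup_quotient (commutator M)).2 ⟨?_, ?_⟩)
    · by_contra hs
      have e := equivMapOfInjective (commutator M) M.subtype M.subtype_injective
      refine Nat.find_min hex (m := Nat.card (commutator M)) ?_ ⟨(commutator M).map M.subtype, fun hs' => hs ?_, ?_⟩
      · rw [← hMn]
        exact lt_of_le_of_ne (Subgroup.card_le_card_group _) fun e' => hne (Subgroup.eq_top_of_card_eq _ e')
      · haveI := hs'
        exact Group.isSolvable_of_isSolvable_injective (f := e.toMonoidHom) e.injective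
      · exact (Nat.card_congr e.toEquiv).symm
    · exact isSolvable_comm fun a b => by
        obtain ⟨a, rfl⟩ := QuotientGroup.mk_surjective a
        obtain ⟨b, rfl⟩ := QuotientGroup.mk_surjective b
        exact (Abelianization.commGroup M).mul_comm _ _
  · by_contra hnt
    rw [not_nontrivial_iff_subsingleton] at hnt
    exact hM (isSolvable_comm fun a b => Subsingleton.elim _ _)

/-- A non-solvable fixed-point-free group has an irrational pair. -/
theorem exists_pair_of_not_solvable (h : IsFpfAlg σ) (hns : ¬ Group.IsSolvable G) :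
    ∃ a b : G, orderOf a = 3 ∧ orderOf b = 3 ∧ anti σ a b * anti σ a b = 20 := by
  obtain ⟨M, hM, hnt⟩ := exists_perfect hns
  obtain ⟨a, b, ha, hb, hR⟩ := exists_pair (h.restrict M) hM
  exact ⟨a, b, by rwa [Subgroup.orderOf_coe], by rwa [Subgroup.orderOf_coe], hR⟩

/-- The neighbours of an element are at most six. -/
theorem card_neighbours (h : IsFpfAlg σ) {u : G} (hu : orderOf u = 3) :
    Nat.card {v : G // orderOf v = 3 ∧ anti σ u v = 2} ≤ 6 := by
  classical
  by_cases hex : ∃ y, IsFrame σ u y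
  swap
  · push Not at hex
    haveI : IsEmpty {v : G // orderOf v = 3 ∧ anti σ u v = 2} := ⟨fun v => hex v.1 ⟨hu, v.2⟩⟩
    simp
  obtain ⟨y, hf⟩ := hex
  by_cases hc : ∃ c, IsNorm σ u y c
  all_goals
    obtain ⟨w, hw⟩ : ∃ w : G, ∀ c, IsNorm σ u y c → c = w := by
      first
        | (obtain ⟨c, hc⟩ := hc; exact ⟨c, fun d hd => hd.unique h hf hc⟩)
        | exact ⟨1, fun c hc' => absurd ⟨c, hc'⟩ hc⟩
    have hsub : ∀ v : G, orderOf v = 3 → anti σ u v = 2 →
        v ∈ ({y, u * y * u⁻¹, u⁻¹ * y * u, w, u * w * u⁻¹, u⁻¹ * w * u} : Finset G) := by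
      intro v hv hva
      simp only [Finset.mem_insert, Finset.mem_singleton]
      by_cases hm : Member u y v
      · have hx6 : ∀ e : A, e = 2 → (8 : A) * 1 = e - (-6) := fun e he => by
          rw [he]; noncomm_ring [ofNat_nsmul]
        rcases hm with hm | hm
        · rcases hm with e | e | e | e
          · exfalso
            rw [e, h.anti_self hu] at hva
            exact one_ne_zero (α := A) (num_cancel (n := 8) (by rw [hx6 2 rfl, ← hva, sub_self]))
          exacts [Or.inl e, Or.inr (Or.inl e), Or.inr (Or.inr (Or.inl e))]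
        · exfalso
          rw [← neg_neg (anti σ u v), ← h.anti_inv_right hv] at hva
          rcases hm with e | e | e | e
          · rw [e, h.anti_self hu] at hva
            exact one_ne_zero (α := A) (num_cancel (n := 4) (by
              calc (4 : A) * 1 = - -6 - 2 := by noncomm_ring [ofNat_nsmul]
                _ = 0 := by rw [hva, sub_self]))
          all_goals
            have hv2 : anti σ u v⁻¹ = 2 := by
              rw [e]
              first
                | exact hf.2.2
                | exact hf.rotate.2.2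
                | exact hf.anti_four
            rw [hv2] at hva
            exact one_ne_zero (α := A) (num_cancel (n := 4) (by
              calc (4 : A) * 1 = 2 - -2 := by noncomm_ring [ofNat_nsmul]
                _ = 0 := by rw [hva, sub_self]))
      · rcases hf.norm_of_two h hv hm hva with hn | hn | hn <;> have := hw _ hn
        · exact Or.inr (Or.inr (Or.inr (Or.inl this)))
        · exact Or.inr (Or.inr (Or.inr (Or.inr (Or.inl (by rw [← this]; group)))))
        · exact Or.inr (Or.inr (Or.inr (Or.inr (Or.inr (by rw [← this]; group)))))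
    refine (Nat.card_le_card_of_injective
      (fun v : {v : G // orderOf v = 3 ∧ anti σ u v = 2} =>
        (⟨v.1, hsub _ v.2.1 v.2.2⟩ : ↥({y, u * y * u⁻¹, u⁻¹ * y * u, w, u * w * u⁻¹, u⁻¹ * w * u} : Finset G)))
      fun a b e => Subtype.ext (Subtype.mk.inj e)).trans ?_
    rw [Nat.card_eq_fintype_card, Fintype.card_coe]
    exact Finset.card_le_six

/-- The structure around an irrational pair. -/
theorem structure_of_pair (h : IsFpfAlg σ) {a b : G} (ha : orderOf a = 3) (hb : orderOf b = 3)
    (hR : anti σ a b * anti σ a b = 20) :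
    ∃ K : Subgroup G, K.Normal ∧ Nonempty (K ≃* SL25) ∧
      (∀ d : G, orderOf d = 3 → d ∈ K) ∧ (centralizer (K : Set G)).Normal ∧
      (∀ g ∈ K, g ∈ centralizer (K : Set G) → g * g = 1) ∧
      (centralizer (K : Set G)).index ≤ 120 ∧ 60 ∣ (centralizer (K : Set G)).index := by
  classical
  set K := closure ({a, b} : Set G) with hK
  obtain ⟨e⟩ := iso_of_pair h ha hb hR
  have hX : ∀ d : G, orderOf d = 3 → d ∈ K := fun d hd => mem_closure_pair h ha hb hR hd
  have hKn : K.Normal := ⟨fun k hk g => by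
    have : K ≤ K.comap (MulAut.conj g).toMonoidHom := (closure_le _).2 (by
      rintro z (rfl | rfl)
      exacts [hX _ (order_conj.trans ha), hX _ (order_conj.trans hb)])
    exact this hk⟩
  haveI := hKn
  set C := centralizer (K : Set G) with hC
  haveI hCn : C.Normal := Subgroup.normal_centralizer
  have hcen : ∀ g ∈ K, g ∈ C → g * g = 1 := by
    intro g hg hgC
    have hz : e ⟨g, hg⟩ ∈ center SL25 := mem_center_iff.2 fun m => by
      obtain ⟨k, rfl⟩ := e.surjective m
      rw [← map_mul, ← map_mul]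
      exact congrArg e (Subtype.ext (mem_centralizer_iff.1 hgC k k.2))
    have h2 : (⟨e ⟨g, hg⟩, hz⟩ : center SL25) ^ 2 = 1 := by
      have hd : Nat.card (center SL25) ∣ 2 := by
        have h1 := card_center_sl
        have h2 := Nat.card_pos (α := center SL25)
        interval_cases Nat.card (center SL25) <;> norm_num
      exact orderOf_dvd_iff_pow_eq_one.1 ((_root_.orderOf_dvd_natCard _).trans hd)
    have h3 := congrArg Subtype.val h2
    rw [SubmonoidClass.coe_pow, pow_two, ← map_mul, OneMemClass.coe_one, e.map_eq_one_iff] at h3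
    exact congrArg Subtype.val h3
  refine ⟨K, hKn, ⟨e⟩, hX, hCn, hcen, ?_, ?_⟩
  · -- frames
    obtain ⟨hf, hne, e₀, he₀, -, hv₀⟩ := root_frame h ha hb hR
    set z := (a * b * a⁻¹)⁻¹
    let S := Σ u : {u : G // orderOf u = 3}, {v : G // orderOf v = 3 ∧ anti σ u.1 v = 2}
    let F : G → S := fun g => ⟨⟨g * b * g⁻¹, order_conj.trans hb⟩,
      ⟨g * z * g⁻¹, order_conj.trans hf.2.1, anti_map_conj_two hf.2.2⟩⟩
    let Fbar : G ⧸ C → S := fun q => F q.out
    have hinj : Function.Injective Fbar := by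
      intro p q hpq
      have h1 : p.out * b * p.out⁻¹ = q.out * b * q.out⁻¹ := congrArg (fun s : S => s.1.1) hpq
      have h2 : p.out * z * p.out⁻¹ = q.out * z * q.out⁻¹ := congrArg (fun s : S => s.2.1) hpq
      set n := p.out⁻¹ * q.out with hn
      have hnb : Commute n b := mul_inv_eq_iff_eq_mul.1 (show n * b * n⁻¹ = b by
        calc n * b * n⁻¹ = p.out⁻¹ * (q.out * b * q.out⁻¹) * p.out := by rw [hn]; group
          _ = b := by rw [← h1]; group)
      have hnz : Commute n z := mul_inv_eq_iff_eq_mul.1 (show n * z * n⁻¹ = z by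
        calc n * z * n⁻¹ = p.out⁻¹ * (q.out * z * q.out⁻¹) * p.out := by rw [hn]; group
          _ = z := by rw [← h2]; group)
      have hna := hf.fix_adjacent h hnb hnz ha hne he₀ hv₀
      have hnC : n ∈ C := by
        have : K ≤ centralizer ({n} : Set G) := (closure_le _).2 (by
          rintro w (rfl | rfl)
          exacts [mem_centralizer_singleton_iff.2 hna.symm.eq, mem_centralizer_singleton_iff.2 hnb.symm.eq])
        exact mem_centralizer_iff.2 fun k hk => mem_centralizer_singleton_iff.1 (this hk)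
      rw [← QuotientGroup.out_eq' p, ← QuotientGroup.out_eq' q]
      exact QuotientGroup.eq.2 hnC
    rw [Subgroup.index_eq_card]
    refine (Nat.card_le_card_of_injective _ hinj).trans ?_
    haveI := Fintype.ofFinite {u : G // orderOf u = 3}
    rw [Nat.card_sigma]
    refine (Finset.sum_le_card_nsmul _ _ 6 fun u _ => card_neighbours h u.2).trans ?_
    rw [Finset.card_univ, ← Nat.card_eq_fintype_card, smul_eq_mul]
    have h20 : Nat.card {u : G // orderOf u = 3} ≤ 20 := by
      refine (Nat.card_le_card_of_injective (fun u : {u : G // orderOf u = 3} =>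
        (⟨e ⟨u.1, hX _ u.2⟩, by rw [e.orderOf_eq, Subgroup.orderOf_mk, u.2]⟩ : {m : SL25 // orderOf m = 3}))
        fun u w huw => ?_).trans card_three_sl
      exact Subtype.ext (congrArg (Subtype.val : K → G) (e.injective (congrArg Subtype.val huw)))
    omega
  · have hd : C.relIndex K ∣ C.index := Subgroup.relIndex_dvd_index_of_normal C K
    have hci := (C.subgroupOf K).card_mul_index
    have hcK : Nat.card K = 120 := by rw [Nat.card_congr e.toEquiv, Nat.card_eq_fintype_card, card_sl]
    have hle : Nat.card (C.subgroupOf K) ≤ 2 := by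
      refine (Nat.card_le_card_of_injective (fun k : C.subgroupOf K =>
        (⟨e k.1, mem_center_iff.2 fun m => ?_⟩ : center SL25)) fun u w huw => ?_).trans card_center_sl
      · obtain ⟨l, rfl⟩ := e.surjective m
        rw [← map_mul, ← map_mul]
        exact congrArg e (Subtype.ext (mem_centralizer_iff.1 k.2 l l.2))
      · exact Subtype.ext (e.injective (congrArg Subtype.val huw))
    have hpos := Nat.card_pos (α := C.subgroupOf K)
    rw [hcK] at hci
    refine Nat.dvd_trans ?_ hd
    show 60 ∣ (C.subgroupOf K).index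
    interval_cases (Nat.card (C.subgroupOf K))
    · exact ⟨2, by omega⟩
    · exact ⟨1, by omega⟩

theorem index_sup_le (h : IsFpfAlg σ) {a b : G} (ha : orderOf a = 3) (hb : orderOf b = 3)
    (hR : anti σ a b * anti σ a b = 20) :
    ∃ K : Subgroup G, K.Normal ∧ Nonempty (K ≃* SL25) ∧ (∀ d : G, orderOf d = 3 → d ∈ K) ∧
      (K ⊔ centralizer (K : Set G)).Normal ∧
      ((K ⊔ centralizer (K : Set G)).index = 1 ∨ (K ⊔ centralizer (K : Set G)).index = 2) ∧
      ∀ g ∈ K, g ∈ centralizer (K : Set G) → g * g = 1 := by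
  obtain ⟨K, hKn, ⟨e⟩, hX, hCn, hcen, h120, h60⟩ := structure_of_pair h ha hb hR
  haveI := hKn
  haveI := hCn
  set C := centralizer (K : Set G)
  refine ⟨K, hKn, ⟨e⟩, hX, inferInstance, ?_, hcen⟩
  have hci := (C.subgroupOf K).card_mul_index
  rw [Nat.card_congr e.toEquiv, Nat.card_eq_fintype_card (α := SL25), card_sl] at hci
  have hsub : ∀ x : C.subgroupOf K, x * x = 1 := fun x =>
    Subtype.ext (Subtype.ext (hcen x.1.1 x.1.2 x.2))
  have hcl : Nat.card (C.subgroupOf K) ≤ 2 := by
    refine (Nat.card_le_card_of_injective (fun k : C.subgroupOf K =>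
      (⟨e k.1, mem_center_iff.2 fun m => ?_⟩ : center SL25)) fun u w huw => ?_).trans card_center_sl
    · obtain ⟨l, rfl⟩ := e.surjective m
      rw [← map_mul, ← map_mul]
      exact congrArg e (Subtype.ext (mem_centralizer_iff.1 k.2 l l.2))
    · exact Subtype.ext (e.injective (congrArg Subtype.val huw))
  have hrel : C.relIndex (K ⊔ C) = C.relIndex K := Subgroup.relIndex_sup_right K C
  have hmul : C.relIndex (K ⊔ C) * (K ⊔ C).index = C.index := Subgroup.relIndex_mul_index le_sup_right
  rw [hrel] at hmul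
  have h1 : 60 ≤ C.relIndex K := by
    show 60 ≤ (C.subgroupOf K).index
    have := Nat.card_pos (α := C.subgroupOf K)
    nlinarith
  have h2 : 0 < (K ⊔ C).index := Nat.pos_of_ne_zero Subgroup.index_ne_zero_of_finite
  have h3 : (K ⊔ C).index ≤ 2 := by nlinarith
  show (K ⊔ C).index = 1 ∨ (K ⊔ C).index = 2
  omega

/-- **Zassenhaus**: a perfect non-trivial fixed-point-free linear group is `SL(2,5)`. -/
theorem perfect_iso (h : IsFpfAlg σ) (hperf : commutator G = ⊤) [Nontrivial G] :
    Nonempty (G ≃* SL25) := by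
  classical
  obtain ⟨a, b, ha, hb, hR⟩ := exists_pair h hperf
  obtain ⟨K, hKn, ⟨e⟩, hX, hsupn, hidx, hcen⟩ := index_sup_le h ha hb hR
  haveI := hKn
  set C := centralizer (K : Set G) with hC
  haveI := hsupn
  have hCsol : Group.IsSolvable C := by
    by_contra hns
    obtain ⟨u, -, hu, -, -⟩ := exists_pair_of_not_solvable (h.restrict C) hns
    have hu' : orderOf (u : G) = 3 := by rwa [Subgroup.orderOf_coe]
    have h2 := hcen _ (hX _ hu') u.2
    rw [← pow_two, ← orderOf_dvd_iff_pow_eq_one, hu'] at h2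
    omega
  have htop : K ⊔ C = ⊤ := by
    haveI : Group.IsSolvable (G ⧸ (K ⊔ C)) := by
      refine isSolvable_comm fun p q => ?_
      have hc : Nat.card (G ⧸ (K ⊔ C)) ≤ 2 := by rw [← Subgroup.index_eq_card]; omega
      haveI : IsCyclic (G ⧸ (K ⊔ C)) := by
        rcases hidx with h1 | h1
        · haveI : Subsingleton (G ⧸ (K ⊔ C)) :=
            (Nat.card_eq_one_iff_unique.1 (by rw [← Subgroup.index_eq_card, h1])).1
          exact isCyclic_of_subsingleton
        · haveI : Fact (Nat.Prime 2) := ⟨Nat.prime_two⟩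
          exact isCyclic_of_prime_card (p := 2) (by rw [← Subgroup.index_eq_card, h1])
      letI := IsCyclic.commGroup (α := G ⧸ (K ⊔ C))
      exact mul_comm p q
    rw [eq_top_iff]; intro x _
    exact (QuotientGroup.eq_one_iff x).1 (map_eq_one_of_perfect hperf (QuotientGroup.mk' (K ⊔ C)) x)
  haveI : Group.IsSolvable (G ⧸ K) := by
    refine Group.isSolvable_of_surjective (f := (QuotientGroup.mk' K).comp C.subtype) ?_
    intro q
    obtain ⟨x, rfl⟩ := QuotientGroup.mk_surjective q
    obtain ⟨k, hk, c, hc, rfl⟩ := (mem_sup_of_normal_left (s := K) (t := C)).1 (show x ∈ K ⊔ C by rw [htop]; exact mem_top x)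
    refine ⟨⟨c, hc⟩, ?_⟩
    show (QuotientGroup.mk c : G ⧸ K) = _
    rw [QuotientGroup.mk_mul, (QuotientGroup.eq_one_iff k).2 hk, one_mul]
  have hKtop : K = ⊤ := by
    rw [eq_top_iff]; intro x _
    exact (QuotientGroup.eq_one_iff x).1 (map_eq_one_of_perfect hperf (QuotientGroup.mk' K) x)
  exact ⟨(Subgroup.topEquiv.symm.trans (MulEquiv.subgroupCongr hKtop.symm)).trans e⟩

/-- The structure of a non-solvable fixed-point-free linear group. -/
theorem nonsolvable_structure (h : IsFpfAlg σ) (hns : ¬ Group.IsSolvable G) :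
    ∃ G₀ : Subgroup G, G₀.Normal ∧ (G₀.index = 1 ∨ G₀.index = 2) ∧
      ∃ S M : Subgroup G, S ⊔ M = G₀ ∧ S ⊓ M = ⊥ ∧ (∀ s ∈ S, ∀ x ∈ M, s * x = x * s) ∧
        Nonempty (S ≃* SL25) ∧
        (∀ (p : ℕ) [Fact p.Prime] (P : Sylow p M), IsCyclic P) ∧ (Nat.card M).Coprime 30 := by
  classical
  obtain ⟨a, b, ha, hb, hR⟩ := exists_pair_of_not_solvable h hns
  obtain ⟨K, hKn, ⟨e⟩, hX, hsupn, hidx, hcen⟩ := index_sup_le h ha hb hR
  haveI := hKn
  set C := centralizer (K : Set G) with hC
  haveI : Fact (Nat.Prime 2) := ⟨Nat.prime_two⟩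
  haveI : Fact (Nat.Prime 3) := ⟨Nat.prime_three⟩
  haveI : Fact (Nat.Prime 5) := ⟨by norm_num⟩
  have hcK : Nat.card K = 120 := by rw [Nat.card_congr e.toEquiv, Nat.card_eq_fintype_card, card_sl]
  obtain ⟨z, hz⟩ := exists_prime_orderOf_dvd_card' (G := K) 2 (by rw [hcK]; norm_num)
  have hz' : orderOf (z : G) = 2 := by rwa [Subgroup.orderOf_coe]
  have hzC : (z : G) ∈ C := mem_centralizer_iff.2 fun k _ =>
    h.injective (by rw [map_mul, map_mul, h.neg_one hz', neg_one_mul, mul_neg_one])
  have hinv : ∀ c : G, c * c = 1 → c = 1 ∨ c = z := fun c hc => or_iff_not_imp_left.2 fun hne =>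
    h.unique_involution (orderOf_eq_prime (by rw [pow_two]; exact hc) hne) hz'
  -- no element of order four centralizes `K`
  have hno4 : ∀ c ∈ C, c * c * (c * c) = 1 → c * c = 1 := by
    intro c hc hc4
    by_contra hne
    have hcc : c * c = z := (hinv _ hc4).resolve_left hne
    obtain ⟨q, hqK, hqq⟩ : ∃ q ∈ K, q * q = (z : G) := by
      have hf : IsFrame σ b (a * b * a⁻¹)⁻¹ := (root_frame h ha hb hR).1
      set w := b * (a * b * a⁻¹) with hw
      refine ⟨w, mul_mem (hX _ hb) (hX _ (order_conj.trans hb)), ?_⟩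
      refine h.injective ?_
      have hanti : anti σ b (a * b * a⁻¹) = -2 := by
        rw [← neg_neg (anti σ b (a * b * a⁻¹)), ← h.anti_inv_right (order_conj.trans hb), hf.2.2]
      have hu : σ w + σ w⁻¹ = 0 := by
        refine num_cancel (n := 4) ?_
        have := h.anti_eq hb ((order_conj (g := a)).trans hb)
        rw [hanti, ← hw] at this
        calc 4 * (σ w + σ w⁻¹) = (4 * (σ w + σ w⁻¹) - 2) + 2 := by noncomm_ring [ofNat_nsmul]
          _ = 0 := by rw [← this]; noncomm_ring [ofNat_nsmul]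
      rw [map_mul, h.neg_one hz']
      calc σ w * σ w = σ w * (σ w + σ w⁻¹) - σ w * σ w⁻¹ := by noncomm_ring [ofNat_nsmul]
        _ = -1 := by rw [hu, mul_zero, map_mul_inv, zero_sub]
    have hcq : c * q * (c * q) = 1 := by
      have hqc : q * c = c * q := mem_centralizer_iff.1 hc q hqK
      calc c * q * (c * q) = c * (q * c) * q := by group
        _ = c * c * (q * q) := by rw [hqc]; group
        _ = 1 := by rw [hcc, hqq, ← pow_two, ← hz', pow_orderOf_eq_one]
    have hcK' : c ∈ K := by
      have : c * q ∈ K := (hinv _ hcq).elim (fun e' => e' ▸ one_mem K) (fun e' => e' ▸ z.2)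
      exact (mul_mem_cancel_right hqK).1 this
    exact hne (hcen c hcK' hc)
  -- split off the involution
  set Z := zpowers (⟨(z : G), hzC⟩ : C) with hZ
  have hzC' : orderOf (⟨(z : G), hzC⟩ : C) = 2 := by rw [Subgroup.orderOf_mk, hz']
  haveI : Z.Normal := ⟨fun y hy g => by
    have hcm : Commute g (⟨(z : G), hzC⟩ : C) := Subtype.ext (by
      exact h.injective (by simp [map_mul, h.neg_one hz']))
    obtain ⟨i, rfl⟩ := hy
    rw [(hcm.zpow_right i).eq, mul_inv_cancel_right]
    exact ⟨i, rfl⟩⟩
  obtain ⟨P⟩ : Nonempty (Sylow 2 C) := inferInstance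
  have hPle : ∀ x : C, x ∈ P → x ∈ Z := by
    intro x hx
    obtain ⟨k, hk⟩ := IsPGroup.iff_orderOf.1 P.isPGroup' ⟨x, hx⟩
    rw [Subgroup.orderOf_mk] at hk
    have hsq : ∀ k : ℕ, ∀ y : C, y ^ 2 ^ k = 1 → (y : G) * y = 1 := by
      intro k
      induction k with
      | zero => intro y hy; rw [pow_zero, pow_one] at hy; simp [hy]
      | succ k ih =>
        intro y hy
        rw [pow_succ', pow_mul] at hy
        refine hno4 y y.2 ?_
        have := ih _ hy
        simpa [pow_two] using this
    rcases hinv _ (hsq k x (by rw [← hk, pow_orderOf_eq_one])) with e' | e'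
    · rw [show x = 1 from Subtype.ext e']; exact one_mem Z
    · rw [show x = ⟨(z : G), hzC⟩ from Subtype.ext e']; exact mem_zpowers _
  have hodd : Z.index.Coprime 2 := by
    rw [Nat.coprime_comm, Nat.Prime.coprime_iff_not_dvd Nat.prime_two]
    intro hd
    exact P.not_dvd_index (hd.trans (Subgroup.index_dvd_of_le hPle))
  obtain ⟨M₀, hM₀⟩ := Subgroup.exists_right_complement'_of_coprime (N := Z)
    (by rw [hZ, Nat.card_zpowers, hzC']; exact hodd.symm)
  set M := M₀.map C.subtype with hM
  have hMc : Nat.card M = Z.index := by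
    rw [Subgroup.card_map_of_injective C.subtype_injective, hM₀.symm.index_eq_card]
  have hMC : M ≤ C := Subgroup.map_subtype_le _
  refine ⟨K ⊔ C, hsupn, hidx, K, M, ?_, ?_, ?_, ⟨e⟩, ?_, ?_⟩
  · refine le_antisymm (sup_le_sup_left hMC K) (sup_le le_sup_left fun c hc => ?_)
    obtain ⟨⟨⟨y, hy⟩, ⟨w, hw⟩⟩, hyw, -⟩ := isComplement_iff_existsUnique.1 hM₀ ⟨c, hc⟩
    have e' : (y : G) * (w : G) = c := congrArg Subtype.val hyw
    rw [← e']
    refine mul_mem (mem_sup_left ?_) (mem_sup_right ⟨w, hw, rfl⟩)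
    obtain ⟨i, rfl⟩ := hy
    rw [Subgroup.coe_zpow]
    exact zpow_mem z.2 i
  · rw [eq_bot_iff]
    rintro g ⟨hgK, m, hm, rfl⟩
    rcases hinv _ (hcen _ hgK m.2) with e' | e'
    · exact Subgroup.mem_bot.2 e'
    · exfalso
      have hmz : m = ⟨(z : G), hzC⟩ := Subtype.ext e'
      have h1 : m = 1 := Subgroup.disjoint_def.1 hM₀.disjoint (hmz ▸ mem_zpowers _) hm
      rw [← hmz, h1, orderOf_one] at hzC'
      omega
  · exact fun s hs x hx => mem_centralizer_iff.1 (hMC hx) s hs
  · intro p _ P'
    refine ((h.restrict M).cyclic_or_quaternion P'.isPGroup').resolve_right fun ⟨hp, n, hn, ⟨eq⟩⟩ => ?_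
    subst hp
    have h1 : 2 ∣ Nat.card (P' : Subgroup M) := by
      rw [Nat.card_congr eq.toEquiv, Nat.card_eq_fintype_card, QuaternionGroup.card]
      exact Dvd.intro (2 * 2 ^ n) (by ring)
    have h2 := h1.trans (Subgroup.card_subgroup_dvd_card _)
    rw [hMc] at h2
    exact (Nat.prime_two.coprime_iff_not_dvd.1 hodd.symm) h2
  · have hnd : ∀ p : ℕ, p.Prime → p ∣ Nat.card M → (∀ m : G, orderOf m = p → m ∈ C → m ∈ K) → p = 2 := by
      intro p hp hpd hKp
      haveI := Fact.mk hp
      obtain ⟨m, hm⟩ := exists_prime_orderOf_dvd_card' (G := M) p hpd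
      have hm' : orderOf (m : G) = p := by rwa [Subgroup.orderOf_coe]
      have := hcen _ (hKp _ hm' (hMC m.2)) (hMC m.2)
      rw [← pow_two, ← orderOf_dvd_iff_pow_eq_one, hm'] at this
      exact (Nat.prime_dvd_prime_iff_eq hp Nat.prime_two).1 this
    have h5 : ¬ 5 ∣ Nat.card M := fun hd => by
      obtain ⟨k, hk⟩ := exists_prime_orderOf_dvd_card' (G := K) 5 (by rw [hcK]; norm_num)
      have hk' : orderOf (k : G) = 5 := by rwa [Subgroup.orderOf_coe]
      have := hnd 5 (by norm_num) hd fun m hm hmC =>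
        (zpowers_le.2 k.2) (h.mem_zpowers_of_commute (by norm_num) hk' hm (mem_centralizer_iff.1 hmC k k.2))
      omega
    have h3 : ¬ 3 ∣ Nat.card M := fun hd => by
      have := hnd 3 Nat.prime_three hd fun m hm _ => hX m hm
      omega
    rw [show (30 : ℕ) = 2 * 3 * 5 from rfl]
    refine ((hMc ▸ hodd).mul_right ?_).mul_right ?_
    · exact ((Nat.Prime.coprime_iff_not_dvd Nat.prime_three).2 h3).symm
    · exact ((Nat.Prime.coprime_iff_not_dvd (by norm_num : Nat.Prime 5)).2 h5).symm

/-- An endomorphism representation from additive maps. -/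
def endRep {E M : Type*} [Group E] [AddCommGroup M] (q : ℕ) [Module (ZMod q) M] (F : E → (M →+ M))
    (h1 : ∀ v, F 1 v = v) (h2 : ∀ a b v, F (a * b) v = F a (F b v)) : E →* Module.End (ZMod q) M where
  toFun g :=
    { toFun := F g
      map_add' := map_add (F g)
      map_smul' := fun c v => ZMod.map_smul (F g) c v }
  map_one' := LinearMap.ext fun v => h1 v
  map_mul' a b := LinearMap.ext fun v => h2 a b v

/-- A fixed-point-free action on an elementary abelian group of coprime order gives a complex one. -/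
theorem rep_of_elementary {E : Type*} [Group E] [Finite E] {W : Type*} [CommGroup W] [Nontrivial W]
    (q : ℕ) [Fact q.Prime] (hq : ¬ q ∣ Nat.card E) (hWq : ∀ w : W, w ^ q = 1) (φ : E →* MulAut W)
    (hφ : CfsgLib.Frobenius.IsFpf φ) :
    ∃ (n : ℕ) (τ : E →* Matrix (Fin n) (Fin n) ℂ), 0 < n ∧ IsFpfAlg τ := by
  letI : Module (ZMod q) (Additive W) := AddCommGroup.zmodModule fun w => hWq (Additive.toMul w)
  obtain ⟨n, ρ, hn, -, -, hρ⟩ := CfsgLib.Frobenius.CharZero.exists_irreducible q hq
    (endRep q (fun c => ((φ c).toMonoidHom.toAdditive : Additive W →+ Additive W))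
      (fun v => by simp) (fun a b v => by simp))
    (fun c hc v hv => Additive.toMul.injective (hφ c hc (Additive.toMul v) (congrArg Additive.toMul hv))) ℂ
  refine ⟨n, (Units.coeHom _).comp ρ, hn, fun g hg => ?_⟩
  rw [← Matrix.mulVec_injective_iff_isUnit]
  intro v w hvw
  refine sub_eq_zero.1 (hρ g hg (v - w) ?_)
  simp only [MonoidHom.coe_comp, Function.comp_apply, Units.coeHom_apply,
    Matrix.sub_mulVec, Matrix.one_mulVec] at hvw
  rw [Matrix.mulVec_sub, ← sub_eq_zero]
  rw [← sub_eq_zero] at hvw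
  rw [← hvw]; abel

/-- A Frobenius complement has a fixed-point-free complex representation. -/
theorem exists_rep_of_complement {E : Type*} [Group E] [Finite E] {L : Type*} [Group L] [Finite L]
    {H : Subgroup L} (hH : Cfsg.IsFrobeniusComplement H) (e : E ≃* H) :
    ∃ (n : ℕ) (τ : E →* Matrix (Fin n) (Fin n) ℂ), 0 < n ∧ IsFpfAlg τ := by
  obtain ⟨q, hq, W, φ, hqH, hW, hWc, hWq, hφ⟩ := CfsgLib.Frobenius.CharZero.exists_modular hH
  haveI := hq
  haveI : Nontrivial W := (Subgroup.nontrivial_iff_ne_bot W).2 hW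
  letI : CommGroup W := { (inferInstance : Group W) with mul_comm := hWc.is_comm.comm }
  exact rep_of_elementary q (by rwa [Nat.card_congr e.toEquiv]) hWq (φ.comp e.toMonoidHom)
    (fun g hg v hv => hφ (e g) (fun h => hg (e.injective (h.trans (map_one e).symm))) v hv)

end CfsgLib.Zassenhaus
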