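import Cfsg.Agent.S3379
import Cfsg.Agent.Solvable.FpfComplement
import Mathlib.GroupTheory.PresentedGroup

/-!
The presentation of a fixed-point-free group with cyclic Sylow subgroups.
-/

set_option autoImplicit false
set_option linter.unusedSectionVars false
set_option linter.style.haveILetI false

namespace CfsgLib.ZPresentation

open Subgroup

/-- `d` divides `n` divided by a product of distinct prime divisors, if it divides each `n / p`. -/
theorem dvd_div_prod {d n : ℕ} (s : Finset ℕ) (hs : ∀ p ∈ s, p.Prime ∧ p ∣ n) (h0 : d ∣ n)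
    (h : ∀ p ∈ s, d ∣ n / p) : (∏ p ∈ s, p) ∣ n ∧ d ∣ n / ∏ p ∈ s, p := by
  classical
  induction s using Finset.induction_on with
  | empty => simpa using h0
  | @insert q s hq ih =>
    obtain ⟨h1, h2⟩ := ih (fun p hp => hs p (Finset.mem_insert_of_mem hp))
      (fun p hp => h p (Finset.mem_insert_of_mem hp))
    obtain ⟨hqp, hqn⟩ := hs q (Finset.mem_insert_self q s)
    have h3 := h q (Finset.mem_insert_self q s)
    have hcop : Nat.Coprime q (∏ p ∈ s, p) := Nat.Coprime.prod_right fun p hp =>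
      (Nat.coprime_primes hqp (hs p (Finset.mem_insert_of_mem hp)).1).2 fun e => hq (e ▸ hp)
    rw [Finset.prod_insert hq]
    obtain ⟨c, hc⟩ := hcop.mul_dvd_of_dvd_of_dvd hqn h1
    refine ⟨⟨c, hc⟩, ?_⟩
    set P := ∏ p ∈ s, p with hP
    have hP0 : 0 < P := Finset.prod_pos fun p hp => (hs p (Finset.mem_insert_of_mem hp)).1.pos
    rw [hc, mul_comm q P, mul_assoc, Nat.mul_div_cancel_left _ hP0] at h2
    rw [hc, mul_assoc, Nat.mul_div_cancel_left _ hqp.pos] at h3
    rw [hc, Nat.mul_div_cancel_left _ (Nat.mul_pos hqp.pos hP0)]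
    have h4 := Nat.dvd_gcd h2 h3
    rwa [Nat.gcd_mul_right, hcop.gcd_eq_one, one_mul] at h4

/-- The relators of a metacyclic group. -/
abbrev rels (n m r : ℕ) : Set (FreeGroup (Fin 2)) :=
  {FreeGroup.of (0 : Fin 2) ^ n, FreeGroup.of (1 : Fin 2) ^ m,
    (FreeGroup.of (0 : Fin 2))⁻¹ * FreeGroup.of 1 * FreeGroup.of 0 * (FreeGroup.of (1 : Fin 2) ^ r)⁻¹}

theorem card_presented_le {n m r : ℕ} (hn : 0 < n) (hm : 0 < m) :
    Finite (PresentedGroup (rels n m r)) ∧ Nat.card (PresentedGroup (rels n m r)) ≤ n * m := by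
  let x : PresentedGroup (rels n m r) := PresentedGroup.of 0
  let y : PresentedGroup (rels n m r) := PresentedGroup.of 1
  have rel : ∀ w ∈ rels n m r, PresentedGroup.mk (rels n m r) w = 1 := fun w hw => PresentedGroup.one_of_mem hw
  have hx : x ^ n = 1 := by
    have := rel (FreeGroup.of 0 ^ n) (by simp [rels])
    rw [map_pow] at this; exact this
  have hy : y ^ m = 1 := by
    have := rel (FreeGroup.of 1 ^ m) (by simp [rels])
    rw [map_pow] at this; exact this
  have hxy : y * x = x * y ^ r := by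
    have := rel ((FreeGroup.of 0)⁻¹ * FreeGroup.of 1 * FreeGroup.of 0 * (FreeGroup.of 1 ^ r)⁻¹) (by simp [rels])
    rw [map_mul, map_mul, map_mul, map_inv, map_inv, map_pow, mul_inv_eq_one, mul_assoc, inv_mul_eq_iff_eq_mul]
      at this
    exact this
  have hpush : ∀ i j : ℕ, y ^ j * x ^ i = x ^ i * y ^ (j * r ^ i) := by
    intro i
    induction i with
    | zero => simp
    | succ i ih =>
      intro j
      have h1 : ∀ k : ℕ, y ^ k * x = x * y ^ (k * r) := by
        intro k
        induction k with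
        | zero => simp
        | succ k hk => rw [pow_succ, mul_assoc, hxy, ← mul_assoc, hk, mul_assoc, ← pow_add, Nat.succ_mul]
      rw [pow_succ, ← mul_assoc, ih, mul_assoc, h1, ← mul_assoc, mul_assoc j, ← pow_succ r i]
  let nf : Fin n × Fin m → PresentedGroup (rels n m r) := fun z => x ^ (z.1 : ℕ) * y ^ (z.2 : ℕ)
  have hmem : ∀ i j : ℕ, x ^ i * y ^ j ∈ Set.range nf := fun i j =>
    ⟨(⟨i % n, Nat.mod_lt _ hn⟩, ⟨j % m, Nat.mod_lt _ hm⟩), by
      show x ^ (i % n) * y ^ (j % m) = _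
      conv_rhs => rw [← Nat.mod_add_div i n, pow_add, pow_mul, hx, one_pow, mul_one,
        ← Nat.mod_add_div j m, pow_add, pow_mul, hy, one_pow, mul_one]⟩
  have hmul : ∀ u ∈ Set.range nf, ∀ v ∈ Set.range nf, u * v ∈ Set.range nf := by
    rintro _ ⟨⟨i, j⟩, rfl⟩ _ ⟨⟨k, l⟩, rfl⟩
    show x ^ (i : ℕ) * y ^ (j : ℕ) * (x ^ (k : ℕ) * y ^ (l : ℕ)) ∈ _
    rw [show x ^ (i : ℕ) * y ^ (j : ℕ) * (x ^ (k : ℕ) * y ^ (l : ℕ)) =
      x ^ (i : ℕ) * (y ^ (j : ℕ) * x ^ (k : ℕ)) * y ^ (l : ℕ) by group, hpush, ← mul_assoc, ← pow_add, mul_assoc,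
      ← pow_add]
    exact hmem _ _
  have hsurj : Function.Surjective nf := by
    intro g
    show g ∈ Set.range nf
    have hg : g ∈ closure (Set.range (PresentedGroup.of (rels := rels n m r))) := by
      rw [PresentedGroup.closure_range_of]; exact mem_top g
    induction hg using Subgroup.closure_induction with
    | mem z hz =>
      obtain ⟨i, rfl⟩ := hz
      fin_cases i
      · simpa using hmem 1 0
      · simpa using hmem 0 1
    | one => simpa using hmem 0 0
    | mul u v _ _ hu hv => exact hmul u hu v hv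
    | inv u _ hu =>
      obtain ⟨⟨i, j⟩, rfl⟩ := hu
      have h1 : (x ^ (i : ℕ) * y ^ (j : ℕ))⁻¹ = y ^ ((m - 1) * (j : ℕ)) * x ^ ((n - 1) * (i : ℕ)) := by
        refine inv_eq_of_mul_eq_one_right ?_
        rw [mul_assoc, ← mul_assoc (y ^ (j : ℕ)), ← pow_add,
          show (j : ℕ) + (m - 1) * j = m * j by
            obtain ⟨k, rfl⟩ : ∃ k, m = k + 1 := ⟨m - 1, by omega⟩
            rw [Nat.add_sub_cancel]; ring,
          pow_mul, hy, one_pow, one_mul, ← pow_add,
          show (i : ℕ) + (n - 1) * i = n * i by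
            obtain ⟨k, rfl⟩ : ∃ k, n = k + 1 := ⟨n - 1, by omega⟩
            rw [Nat.add_sub_cancel]; ring,
          pow_mul, hx, one_pow]
      show (x ^ (i : ℕ) * y ^ (j : ℕ))⁻¹ ∈ _
      rw [h1, hpush]
      exact hmem _ _
  haveI : Finite (PresentedGroup (rels n m r)) := Finite.of_surjective nf hsurj
  refine ⟨inferInstance, (Nat.card_le_card_of_surjective nf hsurj).trans ?_⟩
  rw [Nat.card_prod, Nat.card_fin, Nat.card_fin]

variable {G K : Type*} [Group G] [Finite G] [Group K] [Finite K] [Nontrivial K] {φ : G →* MulAut K}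

/-- The presentation of a fixed-point-free Z-subgroup. -/
theorem exists_presentation (h : CfsgLib.Frobenius.IsFpf φ) (G₀ : Subgroup G) [IsZGroup G₀] :
    ∃ n m r : ℕ, 0 < n ∧ 0 < m ∧ Nat.Coprime (r - 1) m ∧ Nat.Coprime n m ∧ 1 ≤ r ∧
      r ^ (n / ∏ p ∈ n.primeFactors, p) % m = 1 % m ∧
      Nonempty (G₀ ≃* PresentedGroup (rels n m r)) := by
  classical
  obtain ⟨x, y, n, m, r, hgen, hx, hy, hxy, hr, hnm, h1r, hrn⟩ :=
    Cfsg.Agent.S3379.result (G := G₀) fun p hp P => IsZGroup.isZGroup p hp.out P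
  have hn : 0 < n := hx ▸ orderOf_pos x
  have hm : 0 < m := hy ▸ orderOf_pos y
  have hfpf : CfsgLib.Frobenius.IsFpf (φ.comp G₀.subtype) := h.comp _ G₀.subtype_injective
  have hit : ∀ i : ℕ, (x ^ i)⁻¹ * y * x ^ i = y ^ (r ^ i) := fun i => by
    induction i with
    | zero => simp
    | succ i ih =>
      have e : (x ^ (i + 1))⁻¹ * y * x ^ (i + 1) = x⁻¹ * ((x ^ i)⁻¹ * y * x ^ i) * x := by
        rw [pow_succ]; group
      rw [e, ih]
      have c := conj_pow (a := x⁻¹) (b := y) (i := r ^ i)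
      rw [inv_inv] at c
      rw [← c, hxy, ← pow_mul, ← pow_succ']
  haveI hAn : (zpowers y).Normal := by
    rw [← Subgroup.normalizer_eq_top_iff, eq_top_iff, ← hgen, closure_le]
    have hy' : y ∈ zpowers y := mem_zpowers y
    rintro z (rfl | rfl)
    · rw [SetLike.mem_coe, ← Subgroup.inv_mem_iff]
      refine Subgroup.mem_normalizer_fintype ?_
      rintro w ⟨k, rfl⟩
      rw [inv_inv]
      show z⁻¹ * y ^ k * z ∈ zpowers y
      rw [show z⁻¹ * y ^ k * z = (z⁻¹ * y * z⁻¹⁻¹) ^ k by rw [conj_zpow, inv_inv], inv_inv, hxy]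
      exact zpow_mem (pow_mem hy' r) k
    · exact Subgroup.le_normalizer hy'
  have hkey : ∀ p ∈ n.primeFactors, orderOf (r : ZMod m) ∣ n / p := by
    intro p hp
    obtain ⟨hpp, hpn, -⟩ := Nat.mem_primeFactors.1 hp
    set e := x ^ (n / p) with he
    have hep : orderOf e = p := by
      rw [he, orderOf_pow' x (Nat.div_pos (Nat.le_of_dvd hn hpn) hpp.pos).ne', hx,
        Nat.gcd_eq_right (Nat.div_dvd_of_dvd hpn), Nat.div_div_self hpn hn.ne']
    have hco : (orderOf e).Coprime (Nat.card (zpowers y)) := by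
      rw [hep, Nat.card_zpowers, hy]
      exact hnm.coprime_dvd_left hpn
    have hp2 : ∀ w ∈ zpowers y, (orderOf w).Prime → e * w = w * e := by
      intro w hw hwp
      haveI : Fact p.Prime := ⟨hpp⟩
      haveI hwn : (zpowers w).Normal := by
        refine ⟨fun v hv g => ?_⟩
        obtain ⟨k, rfl⟩ := hv
        rw [← conj_zpow]
        refine zpow_mem ?_ k
        have hg : g * w * g⁻¹ ∈ zpowers y := hAn.conj_mem w hw g
        obtain ⟨j, hj⟩ := mem_zpowers_iff.1 (CfsgLib.FpfComplement.mem_zpowers_of_cyclic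
          (u := (⟨_, hg⟩ : zpowers y)) (v := ⟨w, hw⟩)
          (by rw [← Subgroup.orderOf_coe, ← Subgroup.orderOf_coe (⟨w, hw⟩ : zpowers y)]; exact (MulAut.conj g).orderOf_eq w))
        exact mem_zpowers_iff.2 ⟨j, congrArg Subtype.val hj⟩
      have hd : zpowers e ⊓ zpowers w = ⊥ := disjoint_iff.1 <| disjoint_of_coprime_natCard (by
        rw [Nat.card_zpowers, Nat.card_zpowers]
        exact hco.coprime_dvd_right (by rw [← orderOf_mk w hw]; exact orderOf_dvd_natCard _))
      have hc := CfsgLib.Solvable.card_sup_of_disjoint (A := zpowers e) (K := zpowers w)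
        (by rw [Subgroup.normalizer_eq_top]; exact le_top) hd
      rw [Nat.card_zpowers, Nat.card_zpowers, hep] at hc
      haveI : IsCyclic (zpowers e ⊔ zpowers w : Subgroup G₀) :=
        (hfpf.comp _ (Subgroup.subtype_injective _)).isCyclic_of_card hpp hwp hc
      exact setLike_mul_comm (mem_sup_left (mem_zpowers e) : e ∈ zpowers e ⊔ zpowers w)
        (mem_sup_right (mem_zpowers w))
    have hc := CfsgLib.FpfComplement.centralizes_of_prime hco hp2 (mem_zpowers y)
    have h2 : y ^ (r ^ (n / p)) = y ^ 1 := by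
      rw [← hit, ← he, mul_assoc, ← hc, inv_mul_cancel_left, pow_one]
    rw [pow_eq_pow_iff_modEq, hy, ← ZMod.natCast_eq_natCast_iff] at h2
    push_cast at h2
    exact orderOf_dvd_of_pow_eq_one h2
  have h0 : orderOf (r : ZMod m) ∣ n := by
    refine orderOf_dvd_of_pow_eq_one ?_
    have := (ZMod.natCast_eq_natCast_iff' (r ^ n) 1 m).2 hrn
    push_cast at this
    exact this
  obtain ⟨-, hd⟩ := dvd_div_prod n.primeFactors
    (fun p hp => ⟨Nat.prime_of_mem_primeFactors hp, Nat.dvd_of_mem_primeFactors hp⟩) h0 hkey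
  refine ⟨n, m, r, hn, hm, hr, hnm, h1r, ?_, ?_⟩
  · refine (ZMod.natCast_eq_natCast_iff' _ _ m).1 ?_
    push_cast
    exact orderOf_dvd_iff_pow_eq_one.1 hd
  · have hrel : ∀ w ∈ rels n m r, FreeGroup.lift ![x, y] w = 1 := by
      intro w hw
      simp only [rels, Set.mem_insert_iff, Set.mem_singleton_iff] at hw
      rcases hw with rfl | rfl | rfl <;>
        simp only [map_mul, map_pow, map_inv, FreeGroup.lift_apply_of, Matrix.cons_val_zero, Matrix.cons_val_one]
      · rw [← hx, pow_orderOf_eq_one]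
      · rw [← hy, pow_orderOf_eq_one]
      · rw [hxy, mul_inv_cancel]
    let θ := PresentedGroup.toGroup hrel
    have hθ : Function.Surjective θ := by
      rw [← MonoidHom.range_eq_top, eq_top_iff, ← hgen, closure_le]
      rintro z (rfl | rfl)
      · exact ⟨PresentedGroup.of 0, PresentedGroup.toGroup.of hrel⟩
      · exact ⟨PresentedGroup.of 1, PresentedGroup.toGroup.of hrel⟩
    obtain ⟨hfin, hle⟩ := card_presented_le (r := r) hn hm
    haveI := hfin
    refine ⟨(MulEquiv.ofBijective θ (hθ.bijective_of_nat_card_le (hle.trans ?_))).symm⟩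
    have h1 : n ∣ Nat.card G₀ := hx ▸ orderOf_dvd_natCard x
    have h2 : m ∣ Nat.card G₀ := hy ▸ orderOf_dvd_natCard y
    exact Nat.le_of_dvd Nat.card_pos (hnm.mul_dvd_of_dvd_of_dvd h1 h2)

end CfsgLib.ZPresentation
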