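import Cfsg.Agent.Zassenhaus.Main
import Cfsg.Agent.Solvable.Fitting
import Cfsg.Agent.FGSA.Nilpotent
import Cfsg.Agent.Comp.Basic

/-!
`SL(2,5)` is not solvable; the automorphism group of a solvable fixed-point-free group is solvable.
-/

set_option autoImplicit false
set_option linter.unusedSectionVars false
set_option linter.style.haveILetI false

namespace CfsgLib.Zassenhaus

open Subgroup

open scoped commutatorElement
def diagTwo : SL25 := ⟨!![2, 0; 0, 3], by decide +kernel⟩
theorem sl_words :
    diagTwo = Cfsg.Agent.S3374.shear ^ 2 * lowerShear ^ 2 * Cfsg.Agent.S3374.shear * lowerShear * Cfsg.Agent.S3374.shear ^ 4 ∧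
    ⁅diagTwo, Cfsg.Agent.S3374.shear ^ 2⁆ = Cfsg.Agent.S3374.shear ∧
    ⁅diagTwo⁻¹, lowerShear ^ 2⁆ = lowerShear := by
  decide +kernel
theorem not_isSolvable_sl : ¬ Group.IsSolvable SL25 := by
  intro h
  obtain ⟨n, hn⟩ := h.solvable
  have key : ∀ n, Cfsg.Agent.S3374.shear ∈ derivedSeries SL25 n ∧ lowerShear ∈ derivedSeries SL25 n := by
    intro n
    induction n with
    | zero => exact ⟨Subgroup.mem_top _, Subgroup.mem_top _⟩
    | succ n ih =>
      obtain ⟨hu, hl⟩ := ih
      obtain ⟨hD, h1, h2⟩ := sl_words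
      have hDm : diagTwo ∈ derivedSeries SL25 n := by
        rw [hD]; exact mul_mem (mul_mem (mul_mem (mul_mem (pow_mem hu 2) (pow_mem hl 2)) hu) hl) (pow_mem hu 4)
      rw [derivedSeries_succ]
      exact ⟨h1 ▸ Subgroup.commutator_mem_commutator hDm (pow_mem hu 2),
        h2 ▸ Subgroup.commutator_mem_commutator (inv_mem hDm) (pow_mem hl 2)⟩
  have := (key n).1
  rw [hn, Subgroup.mem_bot] at this
  exact Cfsg.Agent.S3374.shear_ne this.symm

/-- A finite product of solvable groups is solvable. -/
theorem isSolvable_pi {ι : Type*} [Finite ι] {H : ι → Type*} [∀ i, Group (H i)]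
    (h : ∀ i, Group.IsSolvable (H i)) : Group.IsSolvable (∀ i, H i) := by
  classical
  haveI := Fintype.ofFinite ι
  choose n hn using fun i => (h i).solvable
  refine ⟨⟨Finset.univ.sup n, ?_⟩⟩
  rw [eq_bot_iff]
  intro f hf
  refine Subgroup.mem_bot.2 (funext fun i => ?_)
  have h1 := map_derivedSeries_le_derivedSeries (Pi.evalMonoidHom H i) (Finset.univ.sup n) ⟨f, hf, rfl⟩
  have h2 := derivedSeries_antitone (H i) (Finset.le_sup (Finset.mem_univ i) : n i ≤ Finset.univ.sup n) h1
  rw [hn i, Subgroup.mem_bot] at h2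
  exact h2

theorem isSolvable_mulAut_of_cyclic (R : Type*) [Group R] [IsCyclic R] : Group.IsSolvable (MulAut R) := by
  refine isSolvable_comm fun a b => MulEquiv.ext fun y => ?_
  obtain ⟨i, hi⟩ := MonoidHom.map_cyclic a.toMonoidHom
  obtain ⟨j, hj⟩ := MonoidHom.map_cyclic b.toMonoidHom
  simp only [MulEquiv.coe_toMonoidHom] at hi hj
  rw [MulAut.mul_apply, MulAut.mul_apply, hi, hj, hj, hi, ← zpow_mul, ← zpow_mul, mul_comm]

/-- The automorphism group of a two-generated `2`-group is solvable. -/
theorem isSolvable_mulAut_of_two_gen {R : Type*} [Group R] [Finite R] (hR : IsPGroup 2 R) {a b : R}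
    (hab : closure ({a, b} : Set R) = ⊤) : Group.IsSolvable (MulAut R) := by
  classical
  set N := Nat.card (MulAut R) with hN
  refine CfsgLib.Char.isSolvable_of_card_eq (G := MulAut R) 2 3 (N.factorization 2) (N.factorization 3)
    Nat.prime_two Nat.prime_three ?_
  conv_lhs => rw [← Nat.prod_factorization_pow_eq_self (n := Nat.card (MulAut R)) Nat.card_pos.ne']
  rw [Finsupp.prod_of_support_subset _ (s := {2, 3}) ?_ _ (fun _ _ => pow_zero _),
    Finset.prod_pair (by norm_num)]
  intro q hq
  rw [Nat.support_factorization, Nat.mem_primeFactors] at hq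
  obtain ⟨hqp, hqd, -⟩ := hq
  by_contra hne
  simp only [Finset.mem_insert, Finset.mem_singleton, not_or] at hne
  haveI := Fact.mk hqp
  obtain ⟨g, hg⟩ := exists_prime_orderOf_dvd_card' (G := MulAut R) q hqd
  let S := R ⋊[MonoidHom.id (MulAut R)] MulAut R
  haveI : Finite S := Finite.of_equiv _ SemidirectProduct.equivProd.symm
  let R' : Subgroup S := (SemidirectProduct.inl : R →* S).range
  let eR : R ≃* R' := MonoidHom.ofInjective SemidirectProduct.inl_injective
  have hab' : closure ({eR a, eR b} : Set R') = ⊤ := by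
    have h1 := congrArg (Subgroup.map eR.toMonoidHom) hab
    rw [MonoidHom.map_closure, Set.image_pair, ← MonoidHom.range_eq_map, show eR.toMonoidHom.range = ⊤ from MonoidHom.range_eq_top.2 eR.surjective] at h1
    exact h1
  haveI : R'.Normal := by
    show (SemidirectProduct.inl : R →* S).range.Normal
    rw [SemidirectProduct.range_inl_eq_ker_rightHom]; infer_instance
  have hgN : SemidirectProduct.inr g ∈ normalizer (R' : Set S) := by
    rw [Subgroup.normalizer_eq_top]; exact mem_top _
  have hc := commute_of_two_gen (hR.of_equiv eR) hab' hgN (by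
    rw [orderOf_injective _ SemidirectProduct.inr_injective, hg, show (6 : ℕ) = 2 * 3 from rfl]
    exact Nat.Coprime.mul_right ((Nat.coprime_primes hqp Nat.prime_two).2 hne.1)
      ((Nat.coprime_primes hqp Nat.prime_three).2 hne.2))
  have hg1 : g = 1 := MulEquiv.ext fun r => by
    have h1 := mem_centralizer_iff.1 hc (SemidirectProduct.inl r) ⟨r, rfl⟩
    have h2 : (SemidirectProduct.inl (g r) : S) = SemidirectProduct.inl r := by
      have := SemidirectProduct.inl_aut (φ := MonoidHom.id (MulAut R)) g r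
      simp only [MonoidHom.id_apply] at this
      rw [this, ← h1, map_inv, mul_inv_cancel_right]
    exact SemidirectProduct.inl_injective h2
  rw [hg1, orderOf_one] at hg
  exact hqp.ne_one hg.symm

variable {G : Type*} [Group G] [Finite G]
variable {A : Type*} [Ring A] [Algebra ℂ A] [Nontrivial A] [FiniteDimensional ℂ A] {σ : G →* A}

theorem IsFpfAlg.isSolvable_mulAut_pgroup (h : IsFpfAlg σ) {p : ℕ} [Fact p.Prime] {R : Subgroup G}
    (hR : IsPGroup p R) : Group.IsSolvable (MulAut R) := by
  rcases h.cyclic_or_quaternion hR with hc | ⟨rfl, n, -, ⟨e⟩⟩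
  · exact isSolvable_mulAut_of_cyclic R
  refine isSolvable_mulAut_of_two_gen hR (a := e.symm (QuaternionGroup.a 1))
    (b := e.symm (QuaternionGroup.xa 0)) ?_
  rw [eq_top_iff]
  intro x _
  obtain ⟨w, rfl⟩ := e.symm.surjective x
  have hA : ∀ i : ZMod (2 * 2 ^ n), e.symm (QuaternionGroup.a i) ∈
      closure ({e.symm (QuaternionGroup.a 1), e.symm (QuaternionGroup.xa 0)} : Set R) := fun i => by
    rw [← ZMod.natCast_zmod_val i, ← QuaternionGroup.a_one_pow, map_pow]
    exact pow_mem (Subgroup.subset_closure (Set.mem_insert _ _)) _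
  cases w with
  | a i => exact hA i
  | xa i =>
    rw [show QuaternionGroup.xa i = QuaternionGroup.xa 0 * QuaternionGroup.a i by
      rw [QuaternionGroup.xa_mul_a, zero_add], map_mul]
    exact mul_mem (Subgroup.subset_closure (Set.mem_insert_of_mem _ rfl)) (hA i)

/-- The restriction of automorphisms to a characteristic subgroup. -/
def charRestrict {X : Type*} [Group X] (K : Subgroup X) [K.Characteristic] : MulAut X →* MulAut K where
  toFun a := (a.subgroupMap K).trans (MulEquiv.subgroupCongr (Subgroup.characteristic_iff_map_eq.1 inferInstance a))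
  map_one' := MulEquiv.ext fun _ => rfl
  map_mul' _ _ := MulEquiv.ext fun _ => rfl

/-- The automorphism group of a solvable fixed-point-free group is solvable. -/
theorem IsFpfAlg.isSolvable_mulAut (h : IsFpfAlg σ) [Group.IsSolvable G] : Group.IsSolvable (MulAut G) := by
  classical
  set F := Cfsg.fittingSubgroup G
  haveI hFn : F.Normal := inferInstance
  haveI hFnil : Group.IsNilpotent F := CfsgLib.Solvable.isNilpotent_fittingSubgroup
  haveI hFc : F.Characteristic := inferInstance
  let I := {r // r ∈ (Nat.card F).primeFactors}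
  haveI : Finite I := inferInstance
  have hsyl : ∀ r : I, ∃ R : Subgroup G, R.Characteristic ∧ IsPGroup r.1 R ∧
      ∀ y ∈ F, (∃ k, orderOf y = r.1 ^ k) → y ∈ R := by
    intro r
    haveI : Fact r.1.Prime := ⟨Nat.prime_of_mem_primeFactors r.2⟩
    obtain ⟨R⟩ : Nonempty (Sylow r.1 F) := inferInstance
    have hRn : (R : Subgroup F).Normal :=
      Sylow.normal_of_normalizerCondition (Group.normalizerCondition_of_isNilpotent (G := F)) R
    have := R.characteristic_of_normal hRn
    refine ⟨(R : Subgroup F).map F.subtype, inferInstance, R.isPGroup'.map _, fun y hy ⟨k, hk⟩ => ?_⟩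
    obtain ⟨Q, hQ⟩ := (IsPGroup.of_card (p := r.1) (G := zpowers (⟨y, hy⟩ : F)) (n := k)
      (by rw [Nat.card_zpowers, orderOf_mk, hk])).exists_le_sylow
    have := Sylow.unique_of_normal R hRn
    exact ⟨⟨y, hy⟩, (Subsingleton.elim Q R) ▸ hQ (mem_zpowers _), rfl⟩
  choose R hRc hRp hR using hsyl
  haveI : ∀ r, (R r).Characteristic := hRc
  haveI : Group.IsSolvable (∀ r : I, MulAut (R r)) := isSolvable_pi fun r => by
    haveI : Fact r.1.Prime := ⟨Nat.prime_of_mem_primeFactors r.2⟩
    exact h.isSolvable_mulAut_pgroup (hRp r)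
  let Φ : MulAut G →* ∀ r : I, MulAut (R r) := MonoidHom.pi fun r => charRestrict (R r)
  have hker : ∀ a ∈ Φ.ker, ∀ y ∈ F, a y = y := by
    intro a ha
    let E : Subgroup G :=
      { carrier := {y | a y = y}
        one_mem' := map_one a
        mul_mem' := fun {u v} (hu : a u = u) (hv : a v = v) => show a (u * v) = u * v by rw [map_mul, hu, hv]
        inv_mem' := fun {u} (hu : a u = u) => show a u⁻¹ = u⁻¹ by rw [map_inv, hu] }
    have hle : F ≤ E := CfsgLib.FGSA.le_of_prime_power_mem fun r hr y hy hyk => by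
      by_cases hy1 : y = 1
      · rw [hy1]; exact E.one_mem
      have hrF : r ∈ (Nat.card F).primeFactors := by
        refine Nat.mem_primeFactors.2 ⟨hr, ?_, Nat.card_pos.ne'⟩
        obtain ⟨k, hk⟩ := hyk
        have hk0 : k ≠ 0 := fun e => hy1 (orderOf_eq_one_iff.1 (by rw [hk, e, pow_zero]))
        refine (dvd_pow_self r hk0).trans ?_
        rw [← hk, ← Subgroup.orderOf_mk y hy]
        exact _root_.orderOf_dvd_natCard _
      have h1 := congrArg (fun f : ∀ r : I, MulAut (R r) =>
        ((f ⟨r, hrF⟩) ⟨y, hR ⟨r, hrF⟩ y hy hyk⟩ : G)) (MonoidHom.mem_ker.1 ha)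
      exact h1
    exact fun y hy => hle hy
  have hd : ∀ a ∈ Φ.ker, ∀ x : G, x⁻¹ * a x ∈ F ∧ x⁻¹ * a x ∈ centralizer (F : Set G) := by
    intro a ha x
    have h2 : x⁻¹ * a x ∈ centralizer (F : Set G) := mem_centralizer_iff.2 fun y hy => by
      have e := hker a ha (x * y * x⁻¹) (hFn.conj_mem y hy x)
      rw [map_mul, map_mul, map_inv, hker a ha y hy] at e
      calc y * (x⁻¹ * a x) = x⁻¹ * (x * y * x⁻¹) * a x := by group
        _ = x⁻¹ * (a x * y * (a x)⁻¹) * a x := by rw [e]
        _ = x⁻¹ * a x * y := by group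
    exact ⟨CfsgLib.Fitting.centralizer_fittingSubgroup_le_of_solvable h2, h2⟩
  haveI : Group.IsSolvable Φ.ker := isSolvable_comm fun a b => Subtype.ext (MulEquiv.ext fun x => by
    obtain ⟨a1, a2⟩ := hd a a.2 x
    obtain ⟨b1, b2⟩ := hd b b.2 x
    have ha : (a : MulAut G) x = x * (x⁻¹ * (a : MulAut G) x) := (mul_inv_cancel_left _ _).symm
    have hb : (b : MulAut G) x = x * (x⁻¹ * (b : MulAut G) x) := (mul_inv_cancel_left _ _).symm
    show (a : MulAut G) ((b : MulAut G) x) = (b : MulAut G) ((a : MulAut G) x)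
    conv_lhs => rw [hb, map_mul, hker a a.2 _ b1, ha]
    conv_rhs => rw [ha, map_mul, hker b b.2 _ a1, hb]
    rw [mul_assoc x, mul_assoc x, mem_centralizer_iff.1 b2 _ a1])
  exact Group.isSolvable_of_ker_le_range Φ.ker.subtype Φ (by rw [range_subtype])

end CfsgLib.Zassenhaus
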