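import Cfsg.Agent.Zassenhaus.ComplementType
import Cfsg.Agent.Zassenhaus.Solvable
import Cfsg.Agent.Classical.SmallPSL
import Cfsg.Agent.S2119

/-!
Frobenius complements: the six types of quotient, the insoluble case.
-/

set_option autoImplicit false
set_option linter.unusedSectionVars false
set_option linter.style.haveILetI false

namespace CfsgLib.ComplType

open Subgroup CfsgLib.Zassenhaus
open scoped commutatorElement

/-- `diag(2,3)` and the shear: an element of order four and one not commuting with it. -/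
theorem sl_witness : orderOf diagTwo = 4 ∧ diagTwo * Cfsg.Agent.S3374.shear ≠ Cfsg.Agent.S3374.shear * diagTwo := by
  haveI : Fact (Nat.Prime 2) := ⟨Nat.prime_two⟩
  refine ⟨orderOf_eq_prime_pow (p := 2) (n := 1) (by decide +kernel) (by decide +kernel), by decide +kernel⟩

theorem two_facts : (2 : ZMod 5) ≠ 0 ∧ (2 : ZMod 5) ^ 2 ≠ 1 := by decide

theorem commutator_sl25 : commutator SL25 = ⊤ := by
  haveI : Fact (Nat.Prime 5) := ⟨by norm_num⟩
  exact CfsgLib.Linear.commutator_SL_eq_top (Or.inr ⟨2, two_facts.1, two_facts.2⟩)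

/-- An element commuting with `x` of order four and with `y`, where `x`, `y` do not commute, has order `≠ 4`. -/
theorem orderOf_ne_four {G : Type*} [Group G] [Finite G] (h : IsLike G) {x y b : G} (hx : orderOf x = 4)
    (hxy : x * y ≠ y * x) (hbx : x * b = b * x) (hby : y * b = b * y) : orderOf b ≠ 4 := by
  intro hb4
  have h2 : ∀ z : G, orderOf z = 4 → orderOf (z ^ 2) = 2 := fun z hz => by
    rw [orderOf_pow' z (by norm_num), hz]; norm_num
  have hb2 : b ^ 2 = x ^ 2 := h.invol _ _ (h2 b hb4) (h2 x hx)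
  have hcb : Commute b x := hbx.symm
  have hmem : b * x⁻¹ ∈ zpowers x := by
    rcases eq_or_ne (b * x⁻¹) 1 with h1 | h1
    · rw [h1]; exact one_mem _
    have hsq : (b * x⁻¹) ^ 2 = 1 := by
      rw [hcb.inv_right.mul_pow, inv_pow, hb2, mul_inv_cancel]
    haveI : Fact (Nat.Prime 2) := ⟨Nat.prime_two⟩
    rw [h.invol _ _ (orderOf_eq_prime hsq h1) (h2 x hx)]
    exact pow_mem (mem_zpowers x) 2
  have hbz : b ∈ zpowers x := by
    have := mul_mem hmem (mem_zpowers x)
    rwa [inv_mul_cancel_right] at this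
  rw [← mem_powers_iff_mem_zpowers] at hbz
  obtain ⟨i, hi⟩ := hbz
  have hi' : x ^ i = b := hi
  have hodd : Nat.Coprime i (orderOf x) := by
    rw [hx]
    rcases Nat.even_or_odd i with ⟨j, hj⟩ | ho
    · exfalso
      have h1 : b ^ 2 = 1 := by
        rw [← hi', hj, ← pow_mul, show (j + j) * 2 = 4 * j by ring, pow_mul, ← hx, pow_orderOf_eq_one, one_pow]
      have := orderOf_dvd_of_pow_eq_one h1
      rw [hb4] at this
      norm_num at this
    · exact Nat.Coprime.pow_right 2 ((Nat.coprime_two_right).2 ho)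
  obtain ⟨j, hj⟩ := exists_pow_eq_self_of_coprime hodd
  rw [hi'] at hj
  have := ((show Commute y b from hby).pow_right j).eq
  rw [hj] at this
  exact hxy this.symm

/-- The two insoluble types have no non-trivial normal solvable subgroup. -/
theorem map_eq_bot_perm_five {G : Type*} [Group G] (f : G →* Equiv.Perm (Fin 5))
    (hf : alternatingGroup (Fin 5) ≤ f.range) (N : Subgroup G) [N.Normal] [Group.IsSolvable N] : N.map f = ⊥ := by
  classical
  set R := N.map f with hR
  haveI : Group.IsSolvable R := Group.isSolvable_of_surjective (f.subgroupMap_surjective N)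
  set A := alternatingGroup (Fin 5) with hA
  haveI : IsSimpleGroup A := alternatingGroup.isSimpleGroup (by simp)
  have hnorm : ∀ a ∈ A, ∀ r ∈ R, a * r * a⁻¹ ∈ R := by
    intro a ha r hr
    obtain ⟨w, rfl⟩ := hf ha
    obtain ⟨x, hx, rfl⟩ := hr
    exact ⟨w * x * w⁻¹, Subgroup.Normal.conj_mem ‹N.Normal› x hx w, by simp⟩
  haveI : (R.subgroupOf A).Normal := ⟨fun r hr a => hnorm a a.2 r hr⟩
  rcases (inferInstance : (R.subgroupOf A).Normal).eq_bot_or_eq_top with h | h
  · rw [Subgroup.eq_bot_iff_forall]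
    intro r hr
    have hcent : r ∈ centralizer (A : Set (Equiv.Perm (Fin 5))) := mem_centralizer_iff.2 fun a ha => by
      have h1 : r * (a * r⁻¹ * a⁻¹) ∈ A ⊓ R := by
        refine Subgroup.mem_inf.2 ⟨?_, mul_mem hr (hnorm a ha _ (inv_mem hr))⟩
        rw [show r * (a * r⁻¹ * a⁻¹) = (r * a * r⁻¹) * a⁻¹ by group]
        exact mul_mem ((inferInstance : A.Normal).conj_mem a ha r) (inv_mem ha)
      have h2 : (⟨_, (Subgroup.mem_inf.1 h1).1⟩ : A) ∈ R.subgroupOf A := (Subgroup.mem_inf.1 h1).2
      rw [h, Subgroup.mem_bot] at h2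
      have h3 : r * (a * r⁻¹ * a⁻¹) = 1 := congrArg Subtype.val h2
      calc a * r = 1 * (a * r) := (one_mul _).symm
        _ = r * (a * r⁻¹ * a⁻¹) * (a * r) := by rw [h3]
        _ = r * a := by group
    refine (Cfsg.Agent.S2119.result 5 (by norm_num) (by norm_num)).1
      (MulEquiv.ext fun a => Subtype.ext ?_ : MulAut.conjNormal r = MulAut.conjNormal 1)
    rw [MulAut.conjNormal_apply, MulAut.conjNormal_apply, ← mem_centralizer_iff.1 hcent a a.2]
    group
  · exfalso
    have hle : A ≤ R := Subgroup.subgroupOf_eq_top.1 h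
    haveI : Group.IsSolvable A :=
      Group.isSolvable_of_isSolvable_injective (f := Subgroup.inclusion hle) (Subgroup.inclusion_injective hle)
    exact Equiv.Perm.not_isSolvable (Fin 5) (by simp)
      (Group.isSolvable_of_ker_le_range A.subtype Equiv.Perm.sign (by
        rw [Subgroup.range_subtype, hA, alternatingGroup_eq_sign_ker]))

variable {G : Type*} [Group G] [Finite G] {B : Type*} [Ring B] [Algebra ℂ B] [Nontrivial B]
  [FiniteDimensional ℂ B] {τ : G →* B}

/-- **Existence and uniqueness in the insoluble case.** -/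
theorem insoluble_unique (h : IsLike G) (hτ : IsFpfAlg τ) (hns : ¬ Group.IsSolvable G) :
    ∃ N₀ : Subgroup G, N₀.Normal ∧ IsZGroup N₀ ∧ IsType N₀ ∧
      ∀ N : Subgroup G, N.Normal → IsZGroup N → IsType N → N = N₀ := by
  classical
  haveI : Fact (Nat.Prime 2) := ⟨Nat.prime_two⟩
  haveI : Fact (Nat.Prime 5) := ⟨by norm_num⟩
  obtain ⟨a, b, ha, hb, hR⟩ := exists_pair_of_not_solvable hτ hns
  obtain ⟨S, hSn, ⟨eS⟩, -, -, -, -⟩ := structure_of_pair hτ ha hb hR
  haveI := hSn
  obtain ⟨eP⟩ := CfsgLib.Linear.Small.nonempty_psl_two_five (F := ZMod 5) (ZMod.card 5)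
  let π : S →* alternatingGroup (Fin 5) :=
    (eP.toMonoidHom.comp (QuotientGroup.mk' (center SL25))).comp eS.toMonoidHom
  have hπ : Function.Surjective π :=
    (eP.surjective.comp (QuotientGroup.mk'_surjective _)).comp eS.surjective
  have hπk : π.ker = center S := by
    ext x
    rw [MonoidHom.mem_ker, Subgroup.mem_center_iff]
    simp only [π, MonoidHom.coe_comp, Function.comp_apply]
    rw [MulEquiv.coe_toMonoidHom, MulEquiv.coe_toMonoidHom, EmbeddingLike.map_eq_one_iff, QuotientGroup.mk'_apply, QuotientGroup.eq_one_iff,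
      Subgroup.mem_center_iff]
    constructor
    · intro hx y
      exact eS.injective (by rw [map_mul, map_mul]; exact hx (eS y))
    · intro hx m
      obtain ⟨y, rfl⟩ := eS.surjective m
      show eS y * eS x = eS x * eS y
      rw [← map_mul, ← map_mul, hx y]
  let q : (S ⧸ center S) ≃* alternatingGroup (Fin 5) :=
    (QuotientGroup.quotientMulEquivOfEq hπk.symm).trans (QuotientGroup.quotientKerEquivOfSurjective π hπ)
  -- the induced action on `S / Z(S)`
  let χ : MulAut S →* MulAut (S ⧸ center S) :=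
    { toFun := fun θ => QuotientGroup.congr (center S) (center S) θ
        (Subgroup.characteristic_iff_map_eq.1 inferInstance θ)
      map_one' := MulEquiv.ext fun x => QuotientGroup.induction_on x fun _ => rfl
      map_mul' := fun _ _ => MulEquiv.ext fun x => QuotientGroup.induction_on x fun _ => rfl }
  let c5 := MulEquiv.ofBijective (MulAut.conjNormal : Equiv.Perm (Fin 5) →* MulAut (alternatingGroup (Fin 5)))
    (Cfsg.Agent.S2119.result 5 (by norm_num) (by norm_num))
  let f : G →* Equiv.Perm (Fin 5) :=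
    (c5.symm.toMonoidHom.comp (MulAut.congr q).toMonoidHom).comp (χ.comp MulAut.conjNormal)
  have hfk : ∀ g : G, f g = 1 ↔ χ (MulAut.conjNormal g) = 1 := fun g => by
    simp only [f, MonoidHom.coe_comp, Function.comp_apply, MulEquiv.coe_toMonoidHom, EmbeddingLike.map_eq_one_iff]
  -- inner elements
  have hinner : ∀ s : S, f (s : G) = (π s : Equiv.Perm (Fin 5)) := fun s => by
    refine c5.injective (MulEquiv.ext fun y => ?_)
    obtain ⟨y, rfl⟩ := hπ y
    show c5 (c5.symm _) _ = _
    rw [MulEquiv.apply_symm_apply]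
    show q (χ (MulAut.conjNormal (s : G)) (q.symm (π y))) = MulAut.conjNormal (π s : Equiv.Perm (Fin 5)) (π y)
    rw [show q.symm (π y) = (y : S ⧸ center S) from q.symm_apply_eq.2 rfl]
    show π (MulAut.conjNormal (s : G) y) = _
    rw [show MulAut.conjNormal (s : G) y = s * y * s⁻¹ from Subtype.ext (MulAut.conjNormal_apply _ _), map_mul,
      map_mul, map_inv]
    exact Subtype.ext (MulAut.conjNormal_apply _ _).symm
  have hA : alternatingGroup (Fin 5) ≤ f.range := fun y hy => by
    obtain ⟨s, hs⟩ := hπ ⟨y, hy⟩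
    exact ⟨s, by rw [hinner, hs]⟩
  -- the kernel is the centralizer of `S`
  have hker : f.ker ≤ centralizer (S : Set G) := by
    intro g hg
    rw [MonoidHom.mem_ker, hfk] at hg
    have h1 : ∀ s : S, (MulAut.conjNormal g s)⁻¹ * s ∈ center S := fun s =>
      QuotientGroup.eq.1 (DFunLike.congr_fun hg (s : S ⧸ center S))
    haveI : IsMulCommutative (center S) := inferInstance
    let δ : S →* center S := MonoidHom.mk' (fun s => ⟨_, h1 s⟩) fun s t => Subtype.ext (by
      show (MulAut.conjNormal g (s * t))⁻¹ * (s * t) =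
        (MulAut.conjNormal g s)⁻¹ * s * ((MulAut.conjNormal g t)⁻¹ * t)
      rw [Subgroup.mem_center_iff.1 (h1 t), map_mul, mul_inv_rev]
      calc (MulAut.conjNormal g t)⁻¹ * (MulAut.conjNormal g s)⁻¹ * (s * t)
          = (MulAut.conjNormal g t)⁻¹ * ((MulAut.conjNormal g s)⁻¹ * s) * t := by group
        _ = (MulAut.conjNormal g t)⁻¹ * t * ((MulAut.conjNormal g s)⁻¹ * s) := by
          rw [mul_assoc, ← Subgroup.mem_center_iff.1 (h1 s) t, ← mul_assoc])
    haveI : Group.IsSolvable (center S) := isSolvable_comm fun a b => Subtype.ext (setLike_mul_comm a.2 b.2)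
    have hperf : commutator S = ⊤ := by
      rw [eq_top_iff, ← Subgroup.map_le_map_iff_of_injective (f := eS.toMonoidHom) eS.injective,
        map_commutator_eq, MonoidHom.range_eq_top.2 eS.surjective, Subgroup.map_top_of_surjective _ eS.surjective]
      exact commutator_sl25.ge
    rw [mem_centralizer_iff]
    intro s hs
    have h3 := map_eq_one_of_perfect hperf δ ⟨s, hs⟩
    have h4 : (g * s * g⁻¹)⁻¹ * s = 1 := congrArg (fun z : center S => ((z : S) : G)) h3
    rw [inv_mul_eq_one] at h4
    calc s * g = g * s * g⁻¹ * g := by rw [h4]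
      _ = g * s := by group
  haveI hz : IsZGroup f.ker := by
    refine h.isZGroup f.ker fun P => ?_
    have hP' : IsPGroup 2 ((P : Subgroup f.ker).map f.ker.subtype) := P.2.map _
    rcases hτ.cyclic_or_quaternion hP' with hc | ⟨-, n, -, ⟨e⟩⟩
    · exact isCyclic_of_surjective
        ((P : Subgroup f.ker).equivMapOfInjective f.ker.subtype f.ker.subtype_injective).symm.toMonoidHom
        (MulEquiv.surjective _)
    · exfalso
      haveI : NeZero (2 ^ n) := ⟨pow_ne_zero _ two_ne_zero⟩
      obtain ⟨z, hz⟩ : ∃ z, z = e.symm (QuaternionGroup.xa 0) := ⟨_, rfl⟩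
      have hzc := mem_centralizer_iff.1 (hker (map_subtype_le _ z.2))
      refine orderOf_ne_four h (x := ((eS.symm diagTwo : S) : G)) (y := ((eS.symm Cfsg.Agent.S3374.shear : S) : G))
        ?_ ?_ (hzc _ (eS.symm _).2) (hzc _ (eS.symm _).2) ?_
      · rw [orderOf_coe, MulEquiv.orderOf_eq, sl_witness.1]
      · intro e'
        exact sl_witness.2 (by
          have := congrArg eS (Subtype.ext e' : eS.symm diagTwo * eS.symm Cfsg.Agent.S3374.shear =
            eS.symm Cfsg.Agent.S3374.shear * eS.symm diagTwo)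
          simpa using this)
      · rw [orderOf_coe, hz, MulEquiv.orderOf_eq, QuaternionGroup.orderOf_xa]
  have htype : IsType f.ker := by
    by_cases hr : f.range = ⊤
    · exact Or.inr (Or.inr (Or.inr (Or.inr (Or.inr ⟨f, MonoidHom.range_eq_top.1 hr, rfl⟩))))
    · have hr' : f.range = alternatingGroup (Fin 5) := by
        have h1 : f.range.index ∣ 2 := by
          have := Subgroup.index_dvd_of_le hA
          rwa [alternatingGroup.index_eq_two] at this
        rcases (Nat.dvd_prime Nat.prime_two).1 h1 with e | e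
        · exact absurd (Subgroup.index_eq_one.1 e) hr
        · exact Equiv.Perm.eq_alternatingGroup_of_index_eq_two e
      refine Or.inr (Or.inr (Or.inr (Or.inr (Or.inl ⟨f.codRestrict _ fun x => (by rw [← hr']; exact ⟨x, rfl⟩),
        fun y => ?_, MonoidHom.ker_codRestrict _ _ _⟩))))
      obtain ⟨x, hx⟩ : (y : Equiv.Perm (Fin 5)) ∈ f.range := hA y.2
      exact ⟨x, Subtype.ext hx⟩
  refine ⟨f.ker, inferInstance, hz, htype, fun N hNn hNz hN => ?_⟩
  haveI := hNn
  haveI := hNz
  have hle : N ≤ f.ker := (Subgroup.map_eq_bot_iff N).1 (map_eq_bot_perm_five f hA N)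
  refine le_antisymm hle ?_
  obtain ⟨c1, c2, c3, -, -⟩ := card_types
  have hsmall : ∀ {Q : Type} [Group Q] [Finite Q] (g : G →* Q), g.ker = N →
      (Nat.card Q = 4 ∨ Nat.card Q = 12 ∨ Nat.card Q = 24) → False := fun {Q} _ _ g hk hc => by
    haveI := isSolvable_small hc
    exact hns (Group.isSolvable_of_ker_le_range N.subtype g (by rw [hk, Subgroup.range_subtype]))
  rcases hN with rfl | ⟨g, -, hk⟩ | ⟨g, -, hk⟩ | ⟨g, -, hk⟩ | ⟨g, hg, hk⟩ | ⟨g, hg, hk⟩
  · exact le_top
  · exact (hsmall g hk (Or.inl c1)).elim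
  · exact (hsmall g hk (Or.inr (Or.inl c2))).elim
  · exact (hsmall g hk (Or.inr (Or.inr c3))).elim
  · rw [← hk]
    refine (Subgroup.map_eq_bot_iff f.ker).1 ?_
    have h2 := map_eq_bot_perm_five ((alternatingGroup (Fin 5)).subtype.comp g)
      (by rw [MonoidHom.range_comp, MonoidHom.range_eq_top.2 hg, ← MonoidHom.range_eq_map, Subgroup.range_subtype]) f.ker
    rw [← Subgroup.map_map] at h2
    exact (Subgroup.map_eq_bot_iff_of_injective _ (alternatingGroup (Fin 5)).subtype_injective).1 h2
  · rw [← hk]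
    exact (Subgroup.map_eq_bot_iff f.ker).1
      (map_eq_bot_perm_five g (by rw [MonoidHom.range_eq_top.2 hg]; exact le_top) f.ker)

end CfsgLib.ComplType
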