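import Cfsg.Agent.Zassenhaus.Pairs

/-!
The ring identities behind the uniqueness of an icosahedral extension of a binary tetrahedral
group. Here `U` and `W` are anticommuting with `U² = -4`, `W² = -8`; `R`, `S` are square roots of
`20` commuting with both.
-/

set_option autoImplicit false
set_option linter.unusedSectionVars false

namespace CfsgLib.Zassenhaus

variable {A : Type*} [Ring A] [Algebra ℂ A] [Nontrivial A]

theorem num_ne {m n : ℕ} [m.AtLeastTwo] [n.AtLeastTwo] (h : (OfNat.ofNat m : ℕ) ≠ OfNat.ofNat n) :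
    (OfNat.ofNat m : A) ≠ OfNat.ofNat n := by
  haveI := charZero_of_injective_algebraMap (FaithfulSMul.algebraMap_injective ℂ A)
  rw [← Nat.cast_ofNat, ← Nat.cast_ofNat (n := n)]
  exact fun e => h (Nat.cast_injective e)

theorem num_cancel {n : ℕ} [n.AtLeastTwo] {a : A} (h : (OfNat.ofNat n : A) * a = 0) : a = 0 := by
  have hu : IsUnit ((n : ℕ) : A) := by
    rw [← map_natCast (algebraMap ℂ A) n]
    exact (IsUnit.mk0 (n : ℂ) (Nat.cast_ne_zero.2 (by have := Nat.AtLeastTwo.prop (n := n); omega))).map _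
  rw [← Nat.cast_ofNat] at h
  exact hu.mul_right_eq_zero.1 h

theorem num_eq_of_mul {n : ℕ} [n.AtLeastTwo] {a b : A}
    (h : (OfNat.ofNat n : A) * a = OfNat.ofNat n * b) : a = b :=
  sub_eq_zero.1 (num_cancel (n := n) (by rw [mul_sub, h, sub_self]))

theorem commute_num {n : ℕ} [n.AtLeastTwo] (a : A) : Commute (OfNat.ofNat n : A) a := by
  rw [← Nat.cast_ofNat]; exact Nat.cast_commute _ a

variable {U W : A}

theorem UW_sq (hU : U * U = -4) (hW : W * W = -8) (hWU : W * U = -(U * W)) :
    U * W * (U * W) = -32 := by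
  rw [mul_assoc, ← mul_assoc W, hWU, neg_mul, mul_assoc, hW, mul_neg, ← mul_assoc, hU]
  noncomm_ring [ofNat_nsmul]

theorem cancel_of_sq {n : ℕ} [n.AtLeastTwo] {a b : A} (ha : a * a = -OfNat.ofNat n) (h : b * a = 0) :
    b = 0 := by
  refine num_cancel (n := n) ?_
  rw [(commute_num b).eq, ← neg_neg (OfNat.ofNat n : A), ← ha, mul_neg, ← mul_assoc, h, zero_mul, neg_zero]

theorem cancel_of_sq_left {n : ℕ} [n.AtLeastTwo] {a b : A} (ha : a * a = -OfNat.ofNat n) (h : a * b = 0) :
    b = 0 := by
  refine num_cancel (n := n) ?_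
  rw [← neg_neg (OfNat.ofNat n : A), ← ha, neg_mul, mul_assoc, h, mul_zero, neg_zero]

/-- An element is determined by its anticommutators with `U`, `W` and `U W` if these commute with
`U` and `W`. -/
theorem coord (hU : U * U = -4) (hW : W * W = -8) (hWU : W * U = -(U * W)) {g a b c : A}
    (ha : U * g + g * U = a) (hb : W * g + g * W = b) (hc : U * W * g + g * (U * W) = 2 * c)
    (haU : Commute a U) (haW : Commute a W) (hbU : Commute b U) (hbW : Commute b W)
    (hcU : Commute c U) (hcW : Commute c W) :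
    32 * g = -(4 * (a * U) + 2 * (b * W) + c * (U * W)) := by
  set d := 32 * g + (4 * (a * U) + 2 * (b * W) + c * (U * W)) with hd
  have hUW := UW_sq hU hW hWU
  have e1 : U * d + d * U = 0 := by
    rw [hd, show U * (32 * g + (4 * (a * U) + 2 * (b * W) + c * (U * W))) +
        (32 * g + (4 * (a * U) + 2 * (b * W) + c * (U * W))) * U =
      32 * (U * g + g * U) + 4 * (U * a * U + a * U * U) + 2 * (U * b * W + b * W * U) +
        (U * c * (U * W) + c * (U * W * U)) by noncomm_ring [ofNat_nsmul],
      ha, ← haU.eq, ← hbU.eq, ← hcU.eq, mul_assoc b W U, hWU, mul_assoc U W U, hWU, mul_assoc a U U, hU]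
    noncomm_ring [ofNat_nsmul]
  have e2 : W * d + d * W = 0 := by
    rw [hd, show W * (32 * g + (4 * (a * U) + 2 * (b * W) + c * (U * W))) +
        (32 * g + (4 * (a * U) + 2 * (b * W) + c * (U * W))) * W =
      32 * (W * g + g * W) + 4 * (W * a * U + a * (U * W)) + 2 * (W * b * W + b * (W * W)) +
        (W * c * U * W + c * (U * W * W)) by noncomm_ring [ofNat_nsmul],
      hb, ← haW.eq, ← hbW.eq, ← hcW.eq, mul_assoc a W U, mul_assoc c W U, hWU, mul_assoc b W W, hW]
    noncomm_ring [ofNat_nsmul]
  have e3 : U * W * d + d * (U * W) = 0 := by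
    rw [hd, show U * W * (32 * g + (4 * (a * U) + 2 * (b * W) + c * (U * W))) +
        (32 * g + (4 * (a * U) + 2 * (b * W) + c * (U * W))) * (U * W) =
      32 * (U * W * g + g * (U * W)) + 4 * (U * (W * a) * U + a * (U * U) * W) +
        2 * (U * (W * b) * W + b * (W * U) * W) + (U * (W * c) * (U * W) + c * (U * W * (U * W))) by
          noncomm_ring [ofNat_nsmul],
      hc, hUW, ← haW.eq, ← hbW.eq, ← hcW.eq,
      show U * (a * W) * U = U * a * (W * U) by noncomm_ring [ofNat_nsmul],
      show U * (b * W) * W = U * b * (W * W) by noncomm_ring [ofNat_nsmul],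
      show U * (c * W) * (U * W) = U * c * (W * U) * W by noncomm_ring [ofNat_nsmul],
      ← haU.eq, ← hbU.eq, ← hcU.eq, hWU,
      show a * U * -(U * W) = -(a * (U * U) * W) by noncomm_ring [ofNat_nsmul],
      show b * -(U * W) * W = -(b * U * (W * W)) by noncomm_ring [ofNat_nsmul],
      show c * U * -(U * W) * W = -(c * (U * U) * (W * W)) by noncomm_ring [ofNat_nsmul], hU, hW]
    noncomm_ring [ofNat_nsmul]
  have e4 : d * (U * W) = U * W * d := by
    rw [← mul_assoc, eq_neg_of_add_eq_zero_right e1, neg_mul, mul_assoc, eq_neg_of_add_eq_zero_right e2,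
      mul_neg, neg_neg, mul_assoc]
  rw [e4, ← two_mul] at e3
  have h1 := num_cancel (n := 2) e3
  have h2 := cancel_of_sq_left hUW h1
  exact eq_neg_of_add_eq_zero_left h2

/-- A sum that has to be a scalar can have no component along `U`. -/
theorem component_zero (hW : W * W = -8) (hWU : W * U = -(U * W)) {X C : A}
    (hCW : Commute C W) (hXW : Commute X W) (k : A) (hk : Commute k W) (h : X + C * U = k) :
    C * U = 0 := by
  have e : W * (X + C * U) = (X - C * U) * W := by
    rw [mul_add, ← hXW.eq, ← mul_assoc, ← hCW.eq, mul_assoc, hWU]; noncomm_ring [ofNat_nsmul]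
  rw [h, ← hk.eq] at e
  have e2 : (X - C * U - k) * W = 0 := by rw [sub_mul, ← e, sub_self]
  have e3 := sub_eq_zero.1 (cancel_of_sq hW e2)
  refine num_cancel (n := 2) ?_
  rw [two_mul]
  have : X + C * U - (X - C * U) = 0 := by rw [h, e3, sub_self]
  rw [← this]; noncomm_ring [ofNat_nsmul]

section Roots

variable {R S : A}

theorem brkt_anticomm (hR : R * R = 20) (hS : S * S = 20) :
    (R + S) * (R * S - S * R) + (R * S - S * R) * (R + S) = 0 ∧
      (S - R) * (R * S - S * R) + (R * S - S * R) * (S - R) = 0 := by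
  constructor
  · rw [show (R + S) * (R * S - S * R) + (R * S - S * R) * (R + S) =
      R * R * S - S * (R * R) + R * (S * S) - S * S * R by noncomm_ring [ofNat_nsmul], hR, hS]
    noncomm_ring [ofNat_nsmul]
  · rw [show (S - R) * (R * S - S * R) + (R * S - S * R) * (S - R) =
      -(R * R * S) + S * (R * R) + R * (S * S) - S * S * R by noncomm_ring [ofNat_nsmul], hR, hS]
    noncomm_ring [ofNat_nsmul]

theorem brkt_sq (hR : R * R = 20) (hS : S * S = 20) :
    (R * S - S * R) * (R * S - S * R) = (R * S + S * R) * (R * S + S * R) - 1600 := by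
  rw [show (R * S - S * R) * (R * S - S * R) = (R * S + S * R) * (R * S + S * R) -
      2 * (R * (S * S) * R) - 2 * (S * (R * R) * S) by noncomm_ring [ofNat_nsmul], hR, hS,
    show R * 20 * R = 20 * (R * R) by noncomm_ring [ofNat_nsmul],
    show S * 20 * S = 20 * (S * S) by noncomm_ring [ofNat_nsmul], hR, hS]
  noncomm_ring [ofNat_nsmul]

/-- The first of the two conditions relating the roots `R`, `S`. -/
theorem first_condition (hU : U * U = -4) (hW : W * W = -8) (hWU : W * U = -(U * W))
    (hR : R * R = 20) (hS : S * S = 20) (hRU : Commute R U) (hRW : Commute R W)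
    (hSU : Commute S U) (hSW : Commute S W) {t : A}
    (ht : 16 * t = 8 * (R + S) + (R * S - S * R) * U)
    (hcases : t = 6 ∨ t = -6 ∨ t = 2 ∨ t = -2 ∨ t * t = 20) :
    (R * S + S * R) * (R * S + S * R) = 16 * (R * S + S * R) + 960 := by
  set C := R * S - S * R with hC
  have hCU : Commute C U := (hRU.mul_left hSU).sub_left (hSU.mul_left hRU)
  have hCW : Commute C W := (hRW.mul_left hSW).sub_left (hSW.mul_left hRW)
  have hscal : ∀ k : A, (∀ a, Commute k a) → t = k → k * k ≠ 20 → IsUnit k → False := by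
    intro k hk htk hk20 hku
    have h8 : 8 * (R + S) + C * U = 16 * k := by rw [← ht, htk]
    have h0 := component_zero hW hWU hCW ((commute_num W).mul_left (hRW.add_left hSW)) _
      ((commute_num W).mul_left (hk W)) h8
    rw [h0, add_zero, show (16 : A) * k = 8 * (2 * k) by noncomm_ring [ofNat_nsmul]] at h8
    have hRS : R = 2 * k - S := eq_sub_of_add_eq (num_eq_of_mul h8)
    have h1 : 4 * (k * (k - S)) = 0 := by
      have h2 := hR
      rw [hRS, show (2 * k - S) * (2 * k - S) = 4 * (k * k) - 2 * (k * S) - 2 * (S * k) + S * S by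
        noncomm_ring [ofNat_nsmul], ← (hk S).eq, hS] at h2
      calc 4 * (k * (k - S)) = (4 * (k * k) - 2 * (k * S) - 2 * (k * S) + 20) - 20 := by
            noncomm_ring [ofNat_nsmul]
        _ = 0 := by rw [h2, sub_self]
    have h3 := sub_eq_zero.1 (hku.mul_right_eq_zero.1 (num_cancel h1))
    exact hk20 (by rw [h3, hS])
  have hu : ∀ n : ℕ, ∀ [n.AtLeastTwo], IsUnit (OfNat.ofNat n : A) := fun n _ => by
    rw [← map_ofNat (algebraMap ℂ A) n]
    exact (IsUnit.mk0 _ (OfNat.ofNat_ne_zero n)).map _
  rcases hcases with h | h | h | h | h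
  · exact (hscal _ commute_num h (by
      rw [show (6 : A) * 6 = 36 by noncomm_ring [ofNat_nsmul]]; exact num_ne (by norm_num)) (hu 6)).elim
  · exact (hscal _ (fun a => (commute_num a).neg_left) h (by
      rw [show (-6 : A) * -6 = 36 by noncomm_ring [ofNat_nsmul]]; exact num_ne (by norm_num)) (hu 6).neg).elim
  · exact (hscal _ commute_num h (by
      rw [show (2 : A) * 2 = 4 by noncomm_ring [ofNat_nsmul]]; exact num_ne (by norm_num)) (hu 2)).elim
  · exact (hscal _ (fun a => (commute_num a).neg_left) h (by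
      rw [show (-2 : A) * -2 = 4 by noncomm_ring [ofNat_nsmul]]; exact num_ne (by norm_num)) (hu 2).neg).elim
  set Q := R * S + S * R with hQ
  have h2 : (8 * (R + S) + C * U) * (8 * (R + S) + C * U) = 5120 := by
    rw [← ht, show 16 * t * (16 * t) = 256 * (t * t) by noncomm_ring [ofNat_nsmul], h]
    noncomm_ring [ofNat_nsmul]
  rw [show (8 * (R + S) + C * U) * (8 * (R + S) + C * U) = 64 * ((R + S) * (R + S)) +
      8 * ((R + S) * C * U + C * (U * (R + S))) + C * (U * C) * U by noncomm_ring [ofNat_nsmul],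
    ← (hRU.add_left hSU).eq, ← hCU.eq,
    show (R + S) * C * U + C * ((R + S) * U) = ((R + S) * C + C * (R + S)) * U by noncomm_ring [ofNat_nsmul],
    (brkt_anticomm hR hS).1,
    show C * (C * U) * U = C * C * (U * U) by noncomm_ring [ofNat_nsmul], brkt_sq hR hS, ← hQ, hU,
    show (R + S) * (R + S) = R * R + S * S + Q by rw [hQ]; noncomm_ring [ofNat_nsmul], hR, hS] at h2
  refine num_eq_of_mul (n := 4) ?_
  calc 4 * (Q * Q) = (64 * (20 + 20 + Q) + 6400) -
        (64 * (20 + 20 + Q) + 8 * (0 * U) + (Q * Q - 1600) * -4) := by noncomm_ring [ofNat_nsmul]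
    _ = (64 * (20 + 20 + Q) + 6400) - 5120 := by rw [h2]
    _ = 4 * (16 * Q + 960) := by noncomm_ring [ofNat_nsmul]

/-- The two conditions force `R = S`. -/
theorem roots_eq (hU : U * U = -4) (hW : W * W = -8) (hWU : W * U = -(U * W))
    (hR : R * R = 20) (hS : S * S = 20) (hRU : Commute R U) (hRW : Commute R W)
    (hSU : Commute S U) (hSW : Commute S W) {t u : A}
    (ht : 16 * t = 8 * (R + S) + (R * S - S * R) * U)
    (hu : 32 * u = -(16 - 2 * (R * S + S * R) + 8 * (S - R) + (R * S - S * R) * (U + W)))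
    (hct : t = 6 ∨ t = -6 ∨ t = 2 ∨ t = -2 ∨ t * t = 20)
    (hcu : u = 6 ∨ u = -6 ∨ u = 2 ∨ u = -2 ∨ u * u = 20) : R = S := by
  have hfirst := first_condition hU hW hWU hR hS hRU hRW hSU hSW ht hct
  set C := R * S - S * R with hC
  set Q := R * S + S * R with hQ
  set X := 16 - 2 * Q + 8 * (S - R) with hX
  have hCU : Commute C U := (hRU.mul_left hSU).sub_left (hSU.mul_left hRU)
  have hCW : Commute C W := (hRW.mul_left hSW).sub_left (hSW.mul_left hRW)
  have hQW : Commute Q W := (hRW.mul_left hSW).add_left (hSW.mul_left hRW)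
  have hQU : Commute Q U := (hRU.mul_left hSU).add_left (hSU.mul_left hRU)
  have hXW : Commute X W :=
    ((commute_num W).sub_left ((commute_num W).mul_left hQW)).add_left
      ((commute_num W).mul_left (hSW.sub_left hRW))
  have hXU : Commute X U :=
    ((commute_num U).sub_left ((commute_num U).mul_left hQU)).add_left
      ((commute_num U).mul_left (hSU.sub_left hRU))
  have hV : (U + W) * (U + W) = -12 := by
    rw [show (U + W) * (U + W) = U * U + W * W + U * W + W * U by noncomm_ring [ofNat_nsmul], hU, hW, hWU]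
    noncomm_ring [ofNat_nsmul]
  have hscal : ∀ k : A, (∀ a, Commute k a) → u = k → R = S := by
    intro k hk huk
    have h1 : (X + C * W) + C * U = -(32 * k) := by
      rw [← huk, hu]; noncomm_ring [ofNat_nsmul]
    have h0 := component_zero hW hWU hCW (hXW.add_left (hCW.mul_left (Commute.refl W))) _
      (((commute_num W).mul_left (hk W)).neg_left) h1
    have hC0 : C = 0 := cancel_of_sq hU h0
    have hcm : R * S = S * R := sub_eq_zero.1 hC0
    have hP : Q * Q = 1600 := by
      have := brkt_sq hR hS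
      rw [← hC, hC0, mul_zero, ← hQ] at this
      exact sub_eq_zero.1 this.symm
    have h40 : Q = 40 := by
      refine num_eq_of_mul (n := 16) ?_
      rw [show (16 : A) * 40 = 1600 - 960 by noncomm_ring [ofNat_nsmul], ← hP, hfirst, add_sub_cancel_right]
    have h20 : R * S = 20 := by
      refine num_eq_of_mul (n := 2) ?_
      rw [show (2 : A) * 20 = 40 by noncomm_ring [ofNat_nsmul], ← h40, hQ, ← hcm, two_mul]
    refine num_eq_of_mul (n := 20) ?_
    calc (20 : A) * R = R * (R * S) := by rw [h20, (commute_num R).eq]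
      _ = 20 * S := by rw [← mul_assoc, hR]
  rcases hcu with h | h | h | h | h
  · exact hscal _ commute_num h
  · exact hscal _ (fun a => (commute_num a).neg_left) h
  · exact hscal _ commute_num h
  · exact hscal _ (fun a => (commute_num a).neg_left) h
  exfalso
  have h2 : (X + C * (U + W)) * (X + C * (U + W)) = 20480 := by
    rw [show X + C * (U + W) = -(32 * u) by rw [hu]; noncomm_ring [ofNat_nsmul],
      show -(32 * u) * -(32 * u) = 1024 * (u * u) by noncomm_ring [ofNat_nsmul], h]
    noncomm_ring [ofNat_nsmul]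
  set K := X * C + C * X with hK
  rw [show (X + C * (U + W)) * (X + C * (U + W)) =
      X * X + (X * C * (U + W) + C * ((U + W) * X)) + C * ((U + W) * C) * (U + W) by
        noncomm_ring [ofNat_nsmul],
    ← (hXU.add_right hXW).eq, ← (hCU.add_right hCW).eq,
    show X * C * (U + W) + C * (X * (U + W)) = K * (U + W) by rw [hK]; noncomm_ring [ofNat_nsmul],
    show C * (C * (U + W)) * (U + W) = C * C * ((U + W) * (U + W)) by noncomm_ring [ofNat_nsmul], hV] at h2
  have hKW : Commute K W := (hXW.mul_left hCW).add_left (hCW.mul_left hXW)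
  have hK0 : K = 0 := by
    refine cancel_of_sq hU (component_zero hW hWU hKW
      (((hXW.mul_left hXW).add_left ((hCW.mul_left hCW).mul_left (commute_num W).neg_left)).add_left
        (hKW.mul_left (Commute.refl W))) _ (commute_num (n := 20480) W) (X := X * X + C * C * -12 + K * W) ?_)
    rw [← h2]; noncomm_ring [ofNat_nsmul]
  have hQC : Q * C = C * Q := by
    have h1 := brkt_sq hR hS
    rw [hC, hQ, show (R * S + S * R) * (R * S - S * R) =
        R * S * (R * S) - R * (S * S) * R + S * (R * R) * S - S * R * (S * R) by noncomm_ring [ofNat_nsmul],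
      show (R * S - S * R) * (R * S + S * R) =
        R * S * (R * S) + R * (S * S) * R - S * (R * R) * S - S * R * (S * R) by noncomm_ring [ofNat_nsmul],
      hR, hS, show R * 20 * R = 20 * (R * R) by noncomm_ring [ofNat_nsmul],
      show S * 20 * S = 20 * (S * S) by noncomm_ring [ofNat_nsmul], hR, hS]
    noncomm_ring [ofNat_nsmul]
  have h8 : (8 - Q) * C = 0 := by
    refine num_cancel (n := 4) ?_
    have h1 := (brkt_anticomm hR hS).2
    rw [← hC] at h1
    calc 4 * ((8 - Q) * C)
        = (16 - 2 * Q) * C + (16 * C - 2 * (Q * C)) + 8 * 0 := by noncomm_ring [ofNat_nsmul]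
      _ = K := by rw [← h1, hQC, hK, hX]; noncomm_ring [ofNat_nsmul]
      _ = 0 := hK0
  have h9 : (8 - Q) * (Q - 40) = 0 := by
    refine num_cancel (n := 16) ?_
    calc 16 * ((8 - Q) * (Q - 40)) = (8 - Q) * ((16 * Q + 960) - 1600) := by noncomm_ring [ofNat_nsmul]
      _ = (8 - Q) * (C * C) := by rw [← hfirst, hC, brkt_sq hR hS]
      _ = 0 := by rw [← mul_assoc, h8, zero_mul]
  have h40 : Q = 40 := by
    refine num_eq_of_mul (n := 32) ?_
    calc 32 * Q = (8 - Q) * (Q - 40) + (Q * Q - (16 * Q + 960)) + 1280 := by noncomm_ring [ofNat_nsmul]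
      _ = 32 * 40 := by rw [h9, hfirst, sub_self]; noncomm_ring [ofNat_nsmul]
  have hCC : C * C = 0 := by
    rw [hC, brkt_sq hR hS, ← hQ, h40]; noncomm_ring [ofNat_nsmul]
  have hD : (S - R) * (S - R) = 0 := by
    rw [show (S - R) * (S - R) = R * R + S * S - Q by rw [hQ]; noncomm_ring [ofNat_nsmul], hR, hS, h40]
    noncomm_ring [ofNat_nsmul]
  rw [hCC, hK0, zero_mul, zero_mul, add_zero, add_zero, hX, h40,
    show (16 - 2 * (40 : A) + 8 * (S - R)) * (16 - 2 * 40 + 8 * (S - R)) =
      4096 - 1024 * (S - R) + 64 * ((S - R) * (S - R)) by noncomm_ring [ofNat_nsmul], hD] at h2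
  have h16 : S - R = -16 := by
    refine num_eq_of_mul (n := 1024) ?_
    calc 1024 * (S - R) = 4096 - (4096 - 1024 * (S - R) + 64 * 0) := by noncomm_ring [ofNat_nsmul]
      _ = 4096 - 20480 := by rw [h2]
      _ = 1024 * -16 := by noncomm_ring [ofNat_nsmul]
  rw [h16, show (-16 : A) * -16 = 256 * 1 by noncomm_ring [ofNat_nsmul]] at hD
  exact one_ne_zero (num_cancel hD)

end Roots

end CfsgLib.Zassenhaus
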