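import Mathlib

/-!
The equation `a + a⁻¹ + b + b⁻¹ = 1` between roots of unity forces the order of `a` to be one of
`1, 3, 4, 6, 10`.
-/

set_option autoImplicit false

namespace CfsgLib.Zassenhaus

open Polynomial

/-- A unit of `ZMod n` in the middle third. -/
theorem exists_coprime_middle {n : ℕ} (hn : 0 < n)
    (hne : n ≠ 1 ∧ n ≠ 3 ∧ n ≠ 4 ∧ n ≠ 6 ∧ n ≠ 10) :
    ∃ j : ℕ, Nat.Coprime j n ∧ 3 * |(2 * j : ℝ) - n| < n := by
  have key : ∀ j : ℕ, Nat.Coprime j n → n < 3 * j → 3 * j < 2 * n →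
      ∃ j : ℕ, Nat.Coprime j n ∧ 3 * |(2 * j : ℝ) - n| < n := by
    intro j hc h1 h2
    have h1' : (n : ℝ) < 3 * j := by exact_mod_cast h1
    have h2' : (3 * j : ℝ) < 2 * n := by exact_mod_cast h2
    refine ⟨j, hc, ?_⟩
    rcases abs_cases ((2 * j : ℝ) - n) with ⟨h, -⟩ | ⟨h, -⟩ <;> rw [h] <;> linarith
  obtain ⟨m, rfl | rfl⟩ := Nat.even_or_odd' n
  · obtain ⟨l, rfl | rfl⟩ := Nat.even_or_odd' m
    · -- `n = 4 l`
      refine key (2 * l - 1) ?_ (by omega) (by omega)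
      have h1 : Nat.gcd (2 * l - 1) (2 * (2 * l)) ∣ 2 * (2 * l) := Nat.gcd_dvd_right _ _
      have h2 : Nat.gcd (2 * l - 1) (2 * (2 * l)) ∣ 2 * l - 1 := Nat.gcd_dvd_left _ _
      have h3 : Nat.Coprime (2 * l - 1) (2 * l) := by
        have e : 2 * l = (2 * l - 1) + 1 := by omega
        rw [e, Nat.add_sub_cancel]
        exact Nat.coprime_self_add_right.2 (Nat.coprime_one_right _)
      have h4 : Nat.Coprime (2 * l - 1) 2 := Nat.coprime_two_right.2 ⟨l - 1, by omega⟩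
      exact h4.mul_right h3
    · -- `n = 2 m`, `m` odd
      rcases Nat.eq_zero_or_pos l with rfl | hl
      · exact key 1 (by decide) (by omega) (by omega)
      refine key (2 * l - 1) ?_ (by omega) (by omega)
      have h4 : Nat.Coprime (2 * l - 1) 2 := Nat.coprime_two_right.2 ⟨l - 1, by omega⟩
      have h3 : Nat.Coprime (2 * l - 1) (2 * l + 1) := by
        have e : 2 * l + 1 = (2 * l - 1) + 2 := by omega
        rw [e]
        exact Nat.coprime_self_add_right.2 h4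
      exact h4.mul_right h3
  · refine key m ?_ (by omega) (by omega)
    rw [two_mul, add_assoc]
    exact Nat.coprime_self_add_right.2 (Nat.coprime_self_add_right.2 (Nat.coprime_one_right _))

theorem order_cases {n n' : ℕ} (hn : 0 < n) (hn' : 0 < n') {a b : ℂ} (ha : IsPrimitiveRoot a n)
    (hb : b ^ n' = 1) (h : a + a⁻¹ + (b + b⁻¹) = 1) :
    n = 1 ∨ n = 3 ∨ n = 4 ∨ n = 6 ∨ n = 10 := by
  by_contra hne
  obtain ⟨j, hjc, hj⟩ := exists_coprime_middle hn
    ⟨fun e => hne (Or.inl e), fun e => hne (Or.inr (Or.inl e)), fun e => hne (Or.inr (Or.inr (Or.inl e))),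
      fun e => hne (Or.inr (Or.inr (Or.inr (Or.inl e)))), fun e => hne (Or.inr (Or.inr (Or.inr (Or.inr e))))⟩
  set N := n * n' with hN
  have hN0 : 0 < N := Nat.mul_pos hn hn'
  haveI : NeZero n := ⟨hn.ne'⟩
  haveI : NeZero N := ⟨hN0.ne'⟩
  have hζ := Complex.isPrimitiveRoot_exp N hN0.ne'
  set ζ := Complex.exp (2 * Real.pi * Complex.I / N)
  obtain ⟨A, -, hA⟩ := hζ.eq_pow_of_pow_eq_one (show a ^ N = 1 by rw [hN, pow_mul, ha.pow_eq_one, one_pow])
  obtain ⟨B, -, hB⟩ := hζ.eq_pow_of_pow_eq_one (show b ^ N = 1 by rw [hN, mul_comm, pow_mul, hb, one_pow])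
  set ν := Complex.exp (2 * Real.pi * Complex.I * (j / n))
  have hν : IsPrimitiveRoot ν n := Complex.isPrimitiveRoot_exp_of_coprime j n hn.ne' hjc
  obtain ⟨i, -, hi⟩ := ha.eq_pow_of_pow_eq_one hν.pow_eq_one
  have hic : i.Coprime n := (ha.pow_iff_coprime hn i).1 (hi ▸ hν)
  obtain ⟨U, hU⟩ := ZMod.unitsMap_surjective (Dvd.intro n' rfl : n ∣ N) (ZMod.unitOfCoprime i hic)
  set J := (U : ZMod N).val with hJ
  have hJc : J.Coprime N := ZMod.val_coe_unit_coprime U
  have hJn : (J : ZMod n) = (i : ZMod n) := by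
    have := congrArg (fun u : (ZMod n)ˣ => (u : ZMod n)) hU
    simp only [ZMod.unitsMap_def, Units.coe_map, MonoidHom.coe_coe, ZMod.coe_unitOfCoprime] at this
    rw [← this, ZMod.castHom_apply, hJ, ZMod.natCast_val]
  have haJ : a ^ J = ν := by
    rw [← hi]
    have h1 : J ≡ i [MOD n] := (ZMod.natCast_eq_natCast_iff _ _ _).1 hJn
    rw [← Nat.mod_add_div J n, ← Nat.mod_add_div i n, h1, pow_add, pow_add, pow_mul, pow_mul,
      ha.pow_eq_one, one_pow, one_pow]
  have hinv : ∀ z : ℂ, z ^ N = 1 → z ^ (N - 1) = z⁻¹ := fun z hz => by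
    refine eq_inv_of_mul_eq_one_left ?_
    rw [← pow_succ, Nat.sub_add_cancel hN0, hz]
  -- the relation holds at the conjugate root
  let P : ℚ[X] := X ^ A + X ^ (A * (N - 1)) + (X ^ B + X ^ (B * (N - 1))) - 1
  have haeval : ∀ z : ℂ, z ^ N = 1 →
      aeval z P = z ^ A + (z ^ A)⁻¹ + (z ^ B + (z ^ B)⁻¹) - 1 := fun z hz => by
    have hzA : (z ^ A) ^ N = 1 := by rw [← pow_mul, mul_comm, pow_mul, hz, one_pow]
    have hzB : (z ^ B) ^ N = 1 := by rw [← pow_mul, mul_comm, pow_mul, hz, one_pow]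
    simp only [P, map_sub, map_add, map_pow, aeval_X, map_one, pow_mul, hinv _ hzA, hinv _ hzB]
  have hroot : aeval (ζ ^ J) (cyclotomic N ℚ) = 0 := by
    rw [aeval_def, ← eval_map, map_cyclotomic]
    exact (hζ.pow_of_coprime J hJc).isRoot_cyclotomic hN0
  have hdvd : cyclotomic N ℚ ∣ P := by
    rw [cyclotomic_eq_minpoly_rat hζ hN0]
    exact minpoly.dvd ℚ ζ (by rw [haeval ζ hζ.pow_eq_one, hA, hB, h, sub_self])
  have hrel := aeval_eq_zero_of_dvd_aeval_eq_zero hdvd hroot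
  rw [haeval _ (by rw [← pow_mul, mul_comm, pow_mul, hζ.pow_eq_one, one_pow]), sub_eq_zero,
    ← pow_mul, mul_comm J A, pow_mul, hA, haJ, ← pow_mul, mul_comm J B, pow_mul, hB] at hrel
  -- compare real parts
  have hnorm : ∀ {z : ℂ} {k : ℕ}, k ≠ 0 → z ^ k = 1 → (z + z⁻¹).re = 2 * z.re := fun hk hz => by
    rw [Complex.inv_eq_conj (Complex.norm_eq_one_of_pow_eq_one hz hk), Complex.add_re, Complex.conj_re]
    ring
  have hbJ : (b ^ J) ^ n' = 1 := by rw [← pow_mul, mul_comm, pow_mul, hb, one_pow]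
  have hre := congrArg Complex.re hrel
  rw [Complex.add_re, hnorm hn.ne' hν.pow_eq_one, hnorm hn'.ne' hbJ, Complex.one_re] at hre
  have hb1 : (b ^ J).re ≤ 1 :=
    (Complex.re_le_norm _).trans (le_of_eq (Complex.norm_eq_one_of_pow_eq_one hbJ hn'.ne'))
  have hνre : ν.re = Real.cos (2 * Real.pi * (j / n)) := by
    rw [show ν = Complex.exp (((2 * Real.pi * (j / n) : ℝ) : ℂ) * Complex.I) by
      simp only [ν]; congr 1; push_cast; ring, Complex.exp_ofReal_mul_I_re]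
  have hlt : ν.re < -(1 / 2) := by
    rw [hνre, show 2 * Real.pi * ((j : ℝ) / n) = Real.pi * ((2 * j - n) / n) + Real.pi by field_simp; ring,
      Real.cos_add_pi, neg_lt_neg_iff, ← Real.cos_pi_div_three,
      ← Real.cos_abs (Real.pi * ((2 * j - n) / n))]
    refine Real.cos_lt_cos_of_nonneg_of_le_pi (abs_nonneg _) (by linarith [Real.pi_pos]) ?_
    rw [abs_mul, abs_of_pos Real.pi_pos, div_eq_mul_one_div Real.pi 3]
    refine mul_lt_mul_of_pos_left ?_ Real.pi_pos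
    have hn0 : (0 : ℝ) < n := Nat.cast_pos.2 hn
    rw [abs_div, abs_of_pos hn0, div_lt_iff₀ hn0]
    linarith
  linarith

end CfsgLib.Zassenhaus
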