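import Cfsg.Agent.Zassenhaus.Algebra

/-!
Elements of order three in a fixed-point-free linear group: two of them with irrational
anticommutator generate all of them.
-/

set_option autoImplicit false
set_option linter.unusedSectionVars false
set_option linter.style.haveILetI false

namespace CfsgLib.Zassenhaus

open Subgroup

variable {G : Type*} [Group G] [Finite G]
variable {A : Type*} [Ring A] [Algebra ℂ A] [Nontrivial A] [FiniteDimensional ℂ A] {σ : G →* A}

theorem order_conj {g x : G} : orderOf (g * x * g⁻¹) = orderOf x := (MulAut.conj g).orderOf_eq x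

theorem order_conj' {g x : G} : orderOf (g⁻¹ * x * g) = orderOf x := by
  simpa using order_conj (g := g⁻¹) (x := x)

theorem map_inv_mul (g : G) : σ g⁻¹ * σ g = 1 := by rw [← map_mul, inv_mul_cancel, map_one]

theorem map_mul_inv (g : G) : σ g * σ g⁻¹ = 1 := by rw [← map_mul, mul_inv_cancel, map_one]

theorem xi_map_conj (g a : G) : xi σ (g * a * g⁻¹) = σ g * xi σ a * σ g⁻¹ := by
  rw [xi, xi, map_mul, map_mul,
    show σ g * (2 * σ a + 1) * σ g⁻¹ = 2 * (σ g * σ a * σ g⁻¹) + σ g * σ g⁻¹ by noncomm_ring [ofNat_nsmul],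
    map_mul_inv]

theorem anti_map_conj (g a b : G) :
    anti σ (g * a * g⁻¹) (g * b * g⁻¹) = σ g * anti σ a b * σ g⁻¹ := by
  simp only [anti, xi_map_conj]
  have e : ∀ u v : A, σ g * u * σ g⁻¹ * (σ g * v * σ g⁻¹) = σ g * (u * v) * σ g⁻¹ := fun u v => by
    rw [show σ g * u * σ g⁻¹ * (σ g * v * σ g⁻¹) = σ g * u * (σ g⁻¹ * σ g) * v * σ g⁻¹ by
      simp only [mul_assoc], map_inv_mul, mul_one]
    simp only [mul_assoc]
  rw [e, e, mul_add, add_mul]

theorem anti_map_conj_const {g a b : G} {k : A} (hk : Commute (σ g) k) (h : anti σ a b = k) :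
    anti σ (g * a * g⁻¹) (g * b * g⁻¹) = k := by
  rw [anti_map_conj, h, hk.eq, mul_assoc, map_mul_inv, mul_one]

theorem anti_map_conj_two {g a b : G} (h : anti σ a b = 2) :
    anti σ (g * a * g⁻¹) (g * b * g⁻¹) = 2 :=
  anti_map_conj_const (commute_num _).symm h

theorem anti_map_conj_neg_two {g a b : G} (h : anti σ a b = -2) :
    anti σ (g * a * g⁻¹) (g * b * g⁻¹) = -2 :=
  anti_map_conj_const (commute_num (σ g)).symm.neg_right h

theorem anti_map_conj_sq {g a b : G} (h : anti σ a b * anti σ a b = 20) :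
    anti σ (g * a * g⁻¹) (g * b * g⁻¹) * anti σ (g * a * g⁻¹) (g * b * g⁻¹) = 20 := by
  rw [anti_map_conj, show σ g * anti σ a b * σ g⁻¹ * (σ g * anti σ a b * σ g⁻¹) =
    σ g * anti σ a b * (σ g⁻¹ * σ g) * anti σ a b * σ g⁻¹ by simp only [mul_assoc], map_inv_mul, mul_one,
    mul_assoc (σ g), h, ← (commute_num (σ g)).eq, mul_assoc, map_mul_inv, mul_one]

theorem xi_injective (h : IsFpfAlg σ) : Function.Injective (xi σ) := fun a b e => by
  refine h.injective (num_eq_of_mul (n := 2) ?_)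
  exact add_right_cancel e

theorem xi_conj_formula (h : IsFpfAlg σ) {x : G} (y : G) (hx : orderOf x = 3) :
    4 * xi σ (x * y * x⁻¹) =
      -2 * xi σ y - anti σ x y * xi σ x + (xi σ y * xi σ x - xi σ x * xi σ y) := by
  rw [xi_map_conj,
    show 4 * (σ x * xi σ y * σ x⁻¹) = (2 * σ x) * xi σ y * (2 * σ x⁻¹) by noncomm_ring [ofNat_nsmul],
    show 2 * σ x⁻¹ = xi σ x⁻¹ - 1 by rw [xi, add_sub_cancel_right],
    show 2 * σ x = xi σ x - 1 by rw [xi, add_sub_cancel_right], h.xi_inv hx]
  have e : xi σ x * xi σ y * xi σ x = anti σ x y * xi σ x + 3 * xi σ y := by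
    rw [anti, show (xi σ x * xi σ y + xi σ y * xi σ x) * xi σ x =
      xi σ x * xi σ y * xi σ x + xi σ y * (xi σ x * xi σ x) by noncomm_ring [ofNat_nsmul], h.xi_sq hx]
    noncomm_ring [ofNat_nsmul]
  rw [show (xi σ x - 1) * xi σ y * (-xi σ x - 1) =
    -(xi σ x * xi σ y * xi σ x) - xi σ x * xi σ y + xi σ y * xi σ x + xi σ y by noncomm_ring [ofNat_nsmul], e]
  noncomm_ring [ofNat_nsmul]

theorem anti_options (h : IsFpfAlg σ) {x y : G} (hx : orderOf x = 3) (hy : orderOf y = 3) :
    anti σ x y = 6 ∨ anti σ x y = -6 ∨ anti σ x y = 2 ∨ anti σ x y = -2 ∨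
      anti σ x y * anti σ x y = 20 := by
  rcases h.anti_cases hx hy with rfl | rfl | e | e | e
  · exact Or.inl (by rw [h.anti_inv_right hx, h.anti_self hx, neg_neg])
  · exact Or.inr (Or.inl (h.anti_self hx))
  · exact Or.inr (Or.inr (Or.inl e))
  · exact Or.inr (Or.inr (Or.inr (Or.inl e)))
  · exact Or.inr (Or.inr (Or.inr (Or.inr e)))

/-- The value of the anticommutator of `y` and its conjugate. -/
theorem anti_conj_self (h : IsFpfAlg σ) {x y : G} (hx : orderOf x = 3) (hy : orderOf y = 3) :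
    4 * anti σ y (x * y * x⁻¹) = 12 - anti σ x y * anti σ x y := by
  have hc : Commute (anti σ x y) (xi σ y) := anti_comm σ y x ▸ h.anti_commute hy
  rw [show 4 * anti σ y (x * y * x⁻¹) =
      xi σ y * (4 * xi σ (x * y * x⁻¹)) + 4 * xi σ (x * y * x⁻¹) * xi σ y by
      rw [anti]; noncomm_ring [ofNat_nsmul],
    xi_conj_formula h y hx,
    show xi σ y * (-2 * xi σ y - anti σ x y * xi σ x + (xi σ y * xi σ x - xi σ x * xi σ y)) +
        (-2 * xi σ y - anti σ x y * xi σ x + (xi σ y * xi σ x - xi σ x * xi σ y)) * xi σ y =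
      -4 * (xi σ y * xi σ y) - (xi σ y * anti σ x y * xi σ x + anti σ x y * (xi σ x * xi σ y)) +
        (xi σ y * xi σ y * xi σ x - xi σ x * (xi σ y * xi σ y)) by noncomm_ring [ofNat_nsmul],
    h.xi_sq hy, ← hc.eq, mul_assoc (anti σ x y), ← mul_add,
    show xi σ y * xi σ x + xi σ x * xi σ y = anti σ x y from add_comm _ _]
  noncomm_ring [ofNat_nsmul]

/-- Two elements of order three generating a binary tetrahedral group. -/
def IsFrame (σ : G →* A) (x y : G) : Prop := orderOf x = 3 ∧ orderOf y = 3 ∧ anti σ x y = 2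

/-- The four conjugates. -/
def Four (x y : G) : Set G := {x, y, x * y * x⁻¹, x⁻¹ * y * x}

/-- One of the eight elements of order three. -/
def Member (x y d : G) : Prop := d ∈ Four x y ∨ d⁻¹ ∈ Four x y

/-- The sum of the first two. -/
noncomputable def fU (σ : G →* A) (x y : G) : A := xi σ x + xi σ y

/-- The difference of the first two. -/
noncomputable def fW (σ : G →* A) (x y : G) : A := xi σ x - xi σ y

/-- An element outside in standard position. -/
def IsNorm (σ : G →* A) (x y c : G) : Prop :=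
  orderOf c = 3 ∧ anti σ x c = 2 ∧ anti σ y c = -2 ∧
    anti σ (x * y * x⁻¹) c * anti σ (x * y * x⁻¹) c = 20 ∧
    anti σ (x⁻¹ * y * x) c = -anti σ (x * y * x⁻¹) c

section Frame

variable {x y : G}

theorem IsFrame.U_sq (h : IsFpfAlg σ) (hf : IsFrame σ x y) : fU σ x y * fU σ x y = -4 := by
  rw [fU, show (xi σ x + xi σ y) * (xi σ x + xi σ y) = xi σ x * xi σ x + xi σ y * xi σ y + anti σ x y by
    rw [anti]; noncomm_ring [ofNat_nsmul], h.xi_sq hf.1, h.xi_sq hf.2.1, hf.2.2]
  noncomm_ring [ofNat_nsmul]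

theorem IsFrame.W_sq (h : IsFpfAlg σ) (hf : IsFrame σ x y) : fW σ x y * fW σ x y = -8 := by
  rw [fW, show (xi σ x - xi σ y) * (xi σ x - xi σ y) = xi σ x * xi σ x + xi σ y * xi σ y - anti σ x y by
    rw [anti]; noncomm_ring [ofNat_nsmul], h.xi_sq hf.1, h.xi_sq hf.2.1, hf.2.2]
  noncomm_ring [ofNat_nsmul]

theorem IsFrame.WU (h : IsFpfAlg σ) (hf : IsFrame σ x y) :
    fW σ x y * fU σ x y = -(fU σ x y * fW σ x y) := by
  rw [← sub_eq_zero, fU, fW, show (xi σ x - xi σ y) * (xi σ x + xi σ y) - -((xi σ x + xi σ y) * (xi σ x - xi σ y)) =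
    2 * (xi σ x * xi σ x) - 2 * (xi σ y * xi σ y) by noncomm_ring [ofNat_nsmul], h.xi_sq hf.1, h.xi_sq hf.2.1, sub_self]

theorem IsFrame.three (h : IsFpfAlg σ) (hf : IsFrame σ x y) :
    4 * xi σ (x * y * x⁻¹) = -2 * fU σ x y + fU σ x y * fW σ x y := by
  rw [xi_conj_formula h y hf.1, hf.2.2, fU, fW,
    show (xi σ x + xi σ y) * (xi σ x - xi σ y) =
      xi σ x * xi σ x - xi σ y * xi σ y + (xi σ y * xi σ x - xi σ x * xi σ y) by noncomm_ring [ofNat_nsmul],
    h.xi_sq hf.1, h.xi_sq hf.2.1]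
  noncomm_ring [ofNat_nsmul]

theorem IsFrame.four (h : IsFpfAlg σ) (hf : IsFrame σ x y) :
    4 * xi σ (x⁻¹ * y * x) = -2 * fU σ x y - fU σ x y * fW σ x y := by
  have e := xi_conj_formula h y (x := x⁻¹) (by rw [orderOf_inv, hf.1])
  rw [inv_inv, h.anti_inv_left hf.1, h.xi_inv hf.1, hf.2.2] at e
  rw [e, fU, fW, show (xi σ x + xi σ y) * (xi σ x - xi σ y) =
      xi σ x * xi σ x - xi σ y * xi σ y + (xi σ y * xi σ x - xi σ x * xi σ y) by noncomm_ring [ofNat_nsmul],
    h.xi_sq hf.1, h.xi_sq hf.2.1]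
  noncomm_ring [ofNat_nsmul]

theorem IsFrame.swap (hf : IsFrame σ x y) : IsFrame σ y x :=
  ⟨hf.2.1, hf.1, anti_comm σ x y ▸ hf.2.2⟩

theorem IsFrame.conj_swap (h : IsFpfAlg σ) (hf : IsFrame σ x y) :
    y * x * y⁻¹ = x⁻¹ * y * x := by
  refine xi_injective h (num_eq_of_mul (n := 4) ?_)
  rw [hf.four h, hf.swap.three h, show fU σ y x = fU σ x y from add_comm _ _,
    show fW σ y x = -fW σ x y from (neg_sub _ _).symm]
  noncomm_ring [ofNat_nsmul]

theorem IsFrame.rotate (hf : IsFrame σ x y) : IsFrame σ x (x * y * x⁻¹) :=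
  ⟨hf.1, order_conj.trans hf.2.1, by
    have := anti_map_conj_two (g := x) hf.2.2
    rwa [mul_inv_cancel_right] at this⟩

theorem IsFrame.anti_four (hf : IsFrame σ x y) : anti σ x (x⁻¹ * y * x) = 2 := by
  have := anti_map_conj_two (g := x⁻¹) hf.2.2
  simpa using this

theorem inv_eq_sq {x : G} (hx : orderOf x = 3) : x⁻¹ = x * x :=
  inv_eq_of_mul_eq_one_right (by
    rw [← pow_two, ← pow_succ', show (2 : ℕ) + 1 = orderOf x from hx.symm, pow_orderOf_eq_one])

theorem IsFrame.conj_x (hf : IsFrame σ x y) {e : G} (he : e ∈ Four x y) : x * e * x⁻¹ ∈ Four x y := by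
  rcases he with rfl | rfl | rfl | rfl
  · exact Or.inl (mul_inv_cancel_right _ _)
  · exact Or.inr (Or.inr (Or.inl rfl))
  · refine Or.inr (Or.inr (Or.inr ?_))
    rw [show x * (x * y * x⁻¹) * x⁻¹ = x * x * y * (x * x)⁻¹ by group, ← inv_eq_sq hf.1, inv_inv]
    exact Set.mem_singleton _
  · exact Or.inr (Or.inl (by group))

theorem IsFrame.conj_y (h : IsFpfAlg σ) (hf : IsFrame σ x y) {e : G} (he : e ∈ Four x y) :
    y * e * y⁻¹ ∈ Four x y := by
  have h1 := hf.conj_swap h
  have h2 : y⁻¹ * x * y = x * y * x⁻¹ := (hf.swap.conj_swap h).symm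
  rcases he with rfl | rfl | rfl | rfl
  · exact Or.inr (Or.inr (Or.inr h1))
  · exact Or.inr (Or.inl (mul_inv_cancel_right _ _))
  · rw [← h2]
    exact Or.inl (by group)
  · refine Or.inr (Or.inr (Or.inl ?_))
    rw [← h1, show y * (y * x * y⁻¹) * y⁻¹ = y * y * x * (y * y)⁻¹ by group, ← inv_eq_sq hf.2.1, inv_inv, h2]

theorem IsFrame.conj_mem (h : IsFpfAlg σ) (hf : IsFrame σ x y) {g : G}
    (hg : g ∈ closure ({x, y} : Set G)) : ∀ e ∈ Four x y, g * e * g⁻¹ ∈ Four x y := by
  induction hg using closure_induction with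
  | mem a ha =>
    rcases ha with rfl | rfl
    exacts [fun e he => hf.conj_x he, fun e he => hf.conj_y h he]
  | one => intro e he; simpa using he
  | mul a b _ _ ha hb =>
    intro e he
    rw [show a * b * e * (a * b)⁻¹ = a * (b * e * b⁻¹) * a⁻¹ by group]
    exact ha _ (hb _ he)
  | inv a _ ha =>
    intro e he
    have hpow : ∀ k : ℕ, a ^ k * e * (a ^ k)⁻¹ ∈ Four x y := fun k => by
      induction k with
      | zero => simpa using he
      | succ k ih =>
        rw [pow_succ', show a * a ^ k * e * (a * a ^ k)⁻¹ = a * (a ^ k * e * (a ^ k)⁻¹) * a⁻¹ by group]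
        exact ha _ ih
    rw [show a⁻¹ = a ^ (orderOf a - 1) from inv_eq_of_mul_eq_one_right (by
      rw [← pow_succ', Nat.sub_add_cancel (orderOf_pos a), pow_orderOf_eq_one])]
    exact hpow _

theorem IsFrame.member_conj (h : IsFpfAlg σ) (hf : IsFrame σ x y) {g d : G}
    (hg : g ∈ closure ({x, y} : Set G)) (hd : Member x y (g * d * g⁻¹)) : Member x y d := by
  rcases hd with hd | hd <;> have := hf.conj_mem h (inv_mem hg) _ hd
  · exact Or.inl (by convert this using 1; group)
  · exact Or.inr (by convert this using 1; group)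

theorem member_inv {d : G} : Member x y d⁻¹ ↔ Member x y d := by
  unfold Member; rw [inv_inv, or_comm]

theorem IsFrame.four_order (hf : IsFrame σ x y) {e : G} (he : e ∈ Four x y) : orderOf e = 3 := by
  rcases he with rfl | rfl | rfl | rfl
  exacts [hf.1, hf.2.1, order_conj.trans hf.2.1, order_conj'.trans hf.2.1]

theorem Four_le {x y : G} {K : Subgroup G} (hx : x ∈ K) (hy : y ∈ K) {e : G} (he : e ∈ Four x y) :
    e ∈ K := by
  rcases he with rfl | rfl | rfl | rfl
  exacts [hx, hy, mul_mem (mul_mem hx hy) (inv_mem hx), mul_mem (mul_mem (inv_mem hx) hy) hx]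

theorem Member.mem {d : G} (hd : Member x y d) {K : Subgroup G} (hx : x ∈ K) (hy : y ∈ K) : d ∈ K :=
  hd.elim (Four_le hx hy) fun h => inv_mem_iff.1 (Four_le hx hy h)

/-- The values of the anticommutators with a non-member. -/
theorem IsFrame.options (h : IsFpfAlg σ) (hf : IsFrame σ x y) {d e : G} (hd : orderOf d = 3)
    (hne : ¬ Member x y d) (he : e ∈ Four x y) :
    anti σ e d = 2 ∨ anti σ e d = -2 ∨ anti σ e d * anti σ e d = 20 := by
  rcases h.anti_cases (hf.four_order he) hd with rfl | rfl | e' | e' | e'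
  · exact absurd (member_inv.2 (Or.inl he)) hne
  · exact absurd (Or.inl he) hne
  · exact Or.inl e'
  · exact Or.inr (Or.inl e')
  · exact Or.inr (Or.inr e')

theorem IsFrame.sum_four (h : IsFpfAlg σ) (hf : IsFrame σ x y) (d : G) :
    anti σ x d + anti σ y d + anti σ (x * y * x⁻¹) d + anti σ (x⁻¹ * y * x) d = 0 := by
  have e : xi σ (x * y * x⁻¹) + xi σ (x⁻¹ * y * x) = -(xi σ x + xi σ y) := by
    refine num_eq_of_mul (n := 4) ?_
    rw [mul_add, hf.three h, hf.four h, fU, fW]; noncomm_ring [ofNat_nsmul]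
  rw [anti, anti, anti, anti]
  calc _ = (xi σ x + xi σ y) * xi σ d + xi σ d * (xi σ x + xi σ y) +
        ((xi σ (x * y * x⁻¹) + xi σ (x⁻¹ * y * x)) * xi σ d +
          xi σ d * (xi σ (x * y * x⁻¹) + xi σ (x⁻¹ * y * x))) := by noncomm_ring [ofNat_nsmul]
    _ = 0 := by rw [e]; noncomm_ring [ofNat_nsmul]

theorem IsFrame.commute_UW {a : A} (hx : Commute a (xi σ x)) (hy : Commute a (xi σ y)) :
    Commute a (fU σ x y) ∧ Commute a (fW σ x y) := ⟨hx.add_right hy, hx.sub_right hy⟩

theorem IsFrame.commute_UW' (h : IsFpfAlg σ) (hf : IsFrame σ x y) {a : A}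
    (h3 : Commute a (xi σ (x * y * x⁻¹))) (h4 : Commute a (xi σ (x⁻¹ * y * x))) :
    Commute a (fU σ x y) ∧ Commute a (fW σ x y) := by
  have e : fU σ x y = -(xi σ (x * y * x⁻¹) + xi σ (x⁻¹ * y * x)) := by
    refine num_eq_of_mul (n := 4) ?_
    rw [mul_neg, mul_add, hf.three h, hf.four h]; noncomm_ring [ofNat_nsmul]
  have hU : Commute a (fU σ x y) := e ▸ (h3.add_right h4).neg_right
  have hUW : Commute a (fU σ x y * fW σ x y) := by
    rw [show fU σ x y * fW σ x y = 4 * xi σ (x * y * x⁻¹) + 2 * fU σ x y by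
      rw [hf.three h]; noncomm_ring [ofNat_nsmul]]
    exact ((commute_num a).symm.mul_right h3).add_right ((commute_num a).symm.mul_right hU)
  refine ⟨hU, ?_⟩
  have h4W : Commute a (-4 * fW σ x y) := by
    rw [← hf.U_sq h, mul_assoc]; exact hU.mul_right hUW
  show _ = _
  have := h4W.eq
  refine num_eq_of_mul (n := 4) ?_
  calc 4 * (a * fW σ x y) = -(a * (-4 * fW σ x y)) := by noncomm_ring [ofNat_nsmul]
    _ = -(-4 * fW σ x y * a) := by rw [this]
    _ = 4 * (fW σ x y * a) := by noncomm_ring [ofNat_nsmul]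

/-- Coordinates of an element with respect to a frame. -/
theorem IsFrame.coord (h : IsFpfAlg σ) (hf : IsFrame σ x y) (d : G) {a b c : A}
    (ha : anti σ x d + anti σ y d = a) (hb : anti σ x d - anti σ y d = b)
    (hc : anti σ (x * y * x⁻¹) d - anti σ (x⁻¹ * y * x) d = c)
    (haU : Commute a (fU σ x y)) (haW : Commute a (fW σ x y)) (hbU : Commute b (fU σ x y))
    (hbW : Commute b (fW σ x y)) (hcU : Commute c (fU σ x y)) (hcW : Commute c (fW σ x y)) :
    32 * xi σ d = -(4 * (a * fU σ x y) + 2 * (b * fW σ x y) + c * (fU σ x y * fW σ x y)) := by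
  refine Zassenhaus.coord (hf.U_sq h) (hf.W_sq h) (hf.WU h) ?_ ?_ ?_ haU haW hbU hbW hcU hcW
  · rw [← ha, anti, anti, fU]; noncomm_ring [ofNat_nsmul]
  · rw [← hb, anti, anti, fW]; noncomm_ring [ofNat_nsmul]
  · rw [show fU σ x y * fW σ x y = 2 * xi σ (x * y * x⁻¹) - 2 * xi σ (x⁻¹ * y * x) by
      refine num_eq_of_mul (n := 2) ?_
      rw [show (2 : A) * (2 * xi σ (x * y * x⁻¹) - 2 * xi σ (x⁻¹ * y * x)) =
        4 * xi σ (x * y * x⁻¹) - 4 * xi σ (x⁻¹ * y * x) by noncomm_ring [ofNat_nsmul], hf.three h, hf.four h]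
      noncomm_ring [ofNat_nsmul], ← hc, anti, anti]
    noncomm_ring [ofNat_nsmul]

end Frame

section Values

theorem three_roots {a b c : A} (ha : a * a = 20) (hb : b * b = 20) (hc : c * c = 20)
    (hs : a + b + c = -2) : False := by
  have hac : b + c = -2 - a := by rw [← hs]; noncomm_ring [ofNat_nsmul]
  have hbc : a + c = -2 - b := by rw [← hs]; noncomm_ring [ofNat_nsmul]
  have key : ∀ u v w : A, u * u = 20 → v * v = 20 → w * w = 20 → v + w = -2 - u →
      v * w + w * v = 4 * u - 16 := by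
    intro u v w hu hv hw huvw
    have : (v + w) * (v + w) = (-2 - u) * (-2 - u) := by rw [huvw]
    rw [show (v + w) * (v + w) = v * v + w * w + (v * w + w * v) by noncomm_ring [ofNat_nsmul],
      show (-2 - u) * (-2 - u) = 4 + 4 * u + u * u by noncomm_ring [ofNat_nsmul], hu, hv, hw] at this
    calc v * w + w * v = 20 + 20 + (v * w + w * v) - 40 := by noncomm_ring [ofNat_nsmul]
      _ = 4 * u - 16 := by rw [this]; noncomm_ring [ofNat_nsmul]
  -- the roots commute
  have com : ∀ u v w : A, v * v = 20 → v * w + w * v = 4 * u - 16 → u * v = v * u := by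
    intro u v w hv he
    refine num_eq_of_mul (n := 4) ?_
    have e : v * (v * w + w * v) = (v * w + w * v) * v := by
      rw [show v * (v * w + w * v) = v * v * w + v * w * v by noncomm_ring [ofNat_nsmul],
        show (v * w + w * v) * v = v * w * v + w * (v * v) by noncomm_ring [ofNat_nsmul], hv,
        (commute_num w).eq, add_comm]
    rw [he] at e
    calc 4 * (u * v) = (4 * u - 16) * v + 16 * v := by noncomm_ring [ofNat_nsmul]
      _ = v * (4 * u - 16) + 16 * v := by rw [e]
      _ = 4 * (v * u) := by noncomm_ring [ofNat_nsmul]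
  have k1 := key a b c ha hb hc hac
  have k2 := key b a c hb ha hc hbc
  have cab := com a b c hb k1
  have cac := com a c b hc (by rw [add_comm]; exact k1)
  have cbc := com b c a hc (by rw [add_comm]; exact k2)
  have hbc' : b * c = 2 * a - 8 := by
    refine num_eq_of_mul (n := 2) ?_
    rw [two_mul (b * c), show (2 : A) * (2 * a - 8) = 4 * a - 16 by noncomm_ring [ofNat_nsmul], ← k1, cbc]
  have h400 : b * c * (b * c) = (2 * a - 8) * (2 * a - 8) := by rw [hbc']
  rw [show b * c * (b * c) = b * (c * b) * c by noncomm_ring [ofNat_nsmul], ← cbc,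
    show b * (b * c) * c = b * b * (c * c) by noncomm_ring [ofNat_nsmul], hb, hc,
    show (2 * a - 8) * (2 * a - 8) = 4 * (a * a) - 32 * a + 64 by noncomm_ring [ofNat_nsmul], ha] at h400
  have h8 : a = -8 := by
    refine num_eq_of_mul (n := 32) ?_
    calc 32 * a = (4 * 20 + 64) - (4 * 20 - 32 * a + 64) := by noncomm_ring [ofNat_nsmul]
      _ = (4 * 20 + 64) - 20 * 20 := by rw [h400]
      _ = 32 * -8 := by noncomm_ring [ofNat_nsmul]
  rw [h8, show (-8 : A) * -8 = 64 by noncomm_ring [ofNat_nsmul]] at ha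
  exact num_ne (by norm_num) ha

theorem two_roots {a b s : A} (ha : a * a = 20) (hb : b * b = 20) (hs : s + a + b = -2)
    (h : s = 2 ∨ s = -2) : s = -2 ∧ b = -a := by
  rcases h with rfl | rfl
  · have he : b = -4 - a := by
      calc b = (2 + a + b) - 2 - a := by noncomm_ring [ofNat_nsmul]
        _ = -4 - a := by rw [hs]; noncomm_ring [ofNat_nsmul]
    rw [he, show (-4 - a) * (-4 - a) = 16 + 8 * a + a * a by noncomm_ring [ofNat_nsmul], ha] at hb
    have h2 : a = -2 := by
      refine num_eq_of_mul (n := 8) ?_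
      calc 8 * a = (16 + 8 * a + 20) - 36 := by noncomm_ring [ofNat_nsmul]
        _ = 8 * -2 := by rw [hb]; noncomm_ring [ofNat_nsmul]
    rw [h2, show (-2 : A) * -2 = 4 by noncomm_ring [ofNat_nsmul]] at ha
    exact absurd ha (num_ne (by norm_num))
  · refine ⟨rfl, ?_⟩
    calc b = (-2 + a + b) + 2 - a := by noncomm_ring [ofNat_nsmul]
      _ = -a := by rw [hs]; noncomm_ring [ofNat_nsmul]

theorem two_scalars {s t r : A} (hs : s = 2 ∨ s = -2) (ht : t = 2 ∨ t = -2) (hr : r * r = 20)
    (he : s + t + r = -2) : False := by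
  have hr' : r = -2 - s - t := by rw [← he]; noncomm_ring [ofNat_nsmul]
  rcases hs with rfl | rfl <;> rcases ht with rfl | rfl
  · rw [hr', show (-2 - 2 - 2 : A) * (-2 - 2 - 2) = 36 by noncomm_ring [ofNat_nsmul]] at hr
    exact num_ne (by norm_num) hr
  · rw [hr', show (-2 - 2 - -2 : A) * (-2 - 2 - -2) = 4 by noncomm_ring [ofNat_nsmul]] at hr
    exact num_ne (by norm_num) hr
  · rw [hr', show (-2 - -2 - 2 : A) * (-2 - -2 - 2) = 4 by noncomm_ring [ofNat_nsmul]] at hr
    exact num_ne (by norm_num) hr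
  · rw [hr', show (-2 - -2 - -2 : A) * (-2 - -2 - -2) = 4 by noncomm_ring [ofNat_nsmul]] at hr
    exact num_ne (by norm_num) hr

theorem commute_two {s : A} (hs : s = 2 ∨ s = -2) (a : A) : Commute s a := by
  rcases hs with rfl | rfl
  exacts [commute_num a, (commute_num a).neg_left]

end Values

section Frame

variable {x y : G}

/-- The possible positions of a non-member. -/
theorem IsFrame.positions (h : IsFpfAlg σ) (hf : IsFrame σ x y) {d : G} (hd : orderOf d = 3)
    (hne : ¬ Member x y d) (h1 : anti σ x d = 2) :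
    (anti σ y d = -2 ∧ anti σ (x * y * x⁻¹) d * anti σ (x * y * x⁻¹) d = 20 ∧
      anti σ (x⁻¹ * y * x) d = -anti σ (x * y * x⁻¹) d) ∨
    (anti σ (x * y * x⁻¹) d = -2 ∧ anti σ (x⁻¹ * y * x) d * anti σ (x⁻¹ * y * x) d = 20 ∧
      anti σ y d = -anti σ (x⁻¹ * y * x) d) ∨
    (anti σ (x⁻¹ * y * x) d = -2 ∧ anti σ y d * anti σ y d = 20 ∧
      anti σ (x * y * x⁻¹) d = -anti σ y d) := by
  have hsum := hf.sum_four h d
  rw [h1] at hsum
  have h2 := hf.options h hd hne (e := y) (Or.inr (Or.inl rfl))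
  have h3 := hf.options h hd hne (e := x * y * x⁻¹) (Or.inr (Or.inr (Or.inl rfl)))
  have h4 := hf.options h hd hne (e := x⁻¹ * y * x) (Or.inr (Or.inr (Or.inr rfl)))
  set a := anti σ y d with ha
  set b := anti σ (x * y * x⁻¹) d with hb
  set c := anti σ (x⁻¹ * y * x) d with hc
  have hsum' : a + b + c = -2 := by
    calc a + b + c = (2 + a + b + c) - 2 := by noncomm_ring [ofNat_nsmul]
      _ = -2 := by rw [hsum, zero_sub]
  rw [← or_assoc] at h2 h3 h4
  rcases h2 with s2 | r2 <;> rcases h3 with s3 | r3 <;> rcases h4 with s4 | r4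
  · -- three scalars
    exfalso
    haveI := charZero_of_injective_algebraMap (FaithfulSMul.algebraMap_injective ℂ A)
    have hco := hf.coord h d (a := 2 + a) (b := 2 - a) (c := b - c) (by rw [h1]) (by rw [h1]) rfl
      ((commute_num _).add_left (commute_two s2 _)) ((commute_num _).add_left (commute_two s2 _))
      ((commute_num _).sub_left (commute_two s2 _)) ((commute_num _).sub_left (commute_two s2 _))
      ((commute_two s3 _).sub_left (commute_two s4 _)) ((commute_two s3 _).sub_left (commute_two s4 _))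
    have hsq : (32 * xi σ d) * (32 * xi σ d) = -3072 := by
      rw [show 32 * xi σ d * (32 * xi σ d) = 1024 * (xi σ d * xi σ d) by noncomm_ring [ofNat_nsmul], h.xi_sq hd]
      noncomm_ring [ofNat_nsmul]
    rw [hco] at hsq
    have hU := hf.U_sq h
    have hW := hf.W_sq h
    have hUW := UW_sq hU hW (hf.WU h)
    have hX : fW σ x y * (fU σ x y * fW σ x y) + fU σ x y * fW σ x y * fW σ x y = 0 := by
      rw [← mul_assoc, hf.WU h]; noncomm_ring [ofNat_nsmul]
    generalize fU σ x y = U at *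
    generalize fW σ x y = W at *
    generalize a = a' at *
    generalize b = b' at *
    generalize c = c' at *
    have k : ∀ w : A, -(w : A) * -w = w * w := fun w => by noncomm_ring [ofNat_nsmul]
    have h1024 : (1024 : A) ≠ 3072 := num_ne (by norm_num)
    rcases s2 with rfl | rfl <;> rcases s3 with rfl | rfl <;> rcases s4 with rfl | rfl <;>
      first
        | (exfalso; revert hsum'; norm_num; done)
        | (refine h1024 (neg_injective ?_); rw [← hsq]
           first
             | (rw [show -(4 * ((2 + (2 : A)) * U) + 2 * ((2 - 2) * W) + (-2 - -2) * (U * W)) *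
                  -(4 * ((2 + 2) * U) + 2 * ((2 - 2) * W) + (-2 - -2) * (U * W)) = 256 * (U * U) by
                  noncomm_ring [ofNat_nsmul], hU]; noncomm_ring [ofNat_nsmul]; done)
             | (rw [show -(4 * ((2 + (-2 : A)) * U) + 2 * ((2 - -2) * W) + (2 - -2) * (U * W)) *
                  -(4 * ((2 + -2) * U) + 2 * ((2 - -2) * W) + (2 - -2) * (U * W)) =
                  64 * (W * W) + 32 * (W * (U * W) + U * W * W) + 16 * (U * W * (U * W)) by
                  noncomm_ring [ofNat_nsmul], hW, hX, hUW]; noncomm_ring [ofNat_nsmul]; done)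
             | (rw [show -(4 * ((2 + (-2 : A)) * U) + 2 * ((2 - -2) * W) + (-2 - 2) * (U * W)) *
                  -(4 * ((2 + -2) * U) + 2 * ((2 - -2) * W) + (-2 - 2) * (U * W)) =
                  64 * (W * W) - 32 * (W * (U * W) + U * W * W) + 16 * (U * W * (U * W)) by
                  noncomm_ring [ofNat_nsmul], hW, hX, hUW]; noncomm_ring [ofNat_nsmul]; done))
  · exact (two_scalars s2 s3 r4 hsum').elim
  · exact (two_scalars s2 s4 r3 (by rw [← hsum']; abel)).elim
  · obtain ⟨e1, e2⟩ := two_roots r3 r4 hsum' s2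
    exact Or.inl ⟨e1, r3, e2⟩
  · exact (two_scalars s3 s4 r2 (by rw [← hsum']; abel)).elim
  · obtain ⟨e1, e2⟩ := two_roots r4 r2 (by rw [← hsum']; abel) s3
    exact Or.inr (Or.inl ⟨e1, r4, e2⟩)
  · obtain ⟨e1, e2⟩ := two_roots r2 r3 (by rw [← hsum']; abel) s4
    exact Or.inr (Or.inr ⟨e1, r2, e2⟩)
  · exact (three_roots r2 r3 r4 hsum').elim

theorem IsNorm.gamma (h : IsFpfAlg σ) (hf : IsFrame σ x y) {c : G} (hc : IsNorm σ x y c) :
    Commute (anti σ (x * y * x⁻¹) c) (fU σ x y) ∧ Commute (anti σ (x * y * x⁻¹) c) (fW σ x y) ∧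
      16 * xi σ c = -(4 * fW σ x y + anti σ (x * y * x⁻¹) c * (fU σ x y * fW σ x y)) := by
  obtain ⟨hc3, h1, h2, -, h4⟩ := hc
  set R := anti σ (x * y * x⁻¹) c with hR
  have hcm := hf.commute_UW' h (a := R) (h.anti_commute (order_conj.trans hf.2.1))
    (by
      have := (h.anti_commute (x := x⁻¹ * y * x) (y := c) (order_conj'.trans hf.2.1)).neg_left
      rwa [h4, neg_neg] at this)
  refine ⟨hcm.1, hcm.2, num_eq_of_mul (n := 2) ?_⟩
  have hco := hf.coord h c (a := 0) (b := 4) (c := 2 * R) (by rw [h1, h2]; noncomm_ring [ofNat_nsmul])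
    (by rw [h1, h2]; noncomm_ring [ofNat_nsmul]) (by rw [h4, ← hR]; noncomm_ring [ofNat_nsmul])
    (Commute.zero_left _) (Commute.zero_left _) (commute_num _) (commute_num _)
    ((commute_num _).mul_left hcm.1) ((commute_num _).mul_left hcm.2)
  rw [show (2 : A) * (16 * xi σ c) = 32 * xi σ c by noncomm_ring [ofNat_nsmul], hco]
  noncomm_ring [ofNat_nsmul]

/-- An element in standard position is unique. -/
theorem IsNorm.unique (h : IsFpfAlg σ) (hf : IsFrame σ x y) {c d : G} (hc : IsNorm σ x y c)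
    (hd : IsNorm σ x y d) : c = d := by
  obtain ⟨hRU, hRW, hg⟩ := hc.gamma h hf
  obtain ⟨hSU, hSW, hd'⟩ := hd.gamma h hf
  have hU := hf.U_sq h
  have hW := hf.W_sq h
  have hWU := hf.WU h
  have hUW := UW_sq hU hW hWU
  set R := anti σ (x * y * x⁻¹) c with hR
  set S := anti σ (x * y * x⁻¹) d with hS
  set U := fU σ x y with hUdef
  set W := fW σ x y with hWdef
  have hWUW : W * (U * W) = 8 * U := by
    rw [← mul_assoc, hWU, neg_mul, mul_assoc, hW]; noncomm_ring [ofNat_nsmul]
  have hUWW : U * W * W = -8 * U := by rw [mul_assoc, hW]; noncomm_ring [ofNat_nsmul]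
  -- conjugate by an element of order four
  set q := x * y⁻¹ with hq
  have hq1 : 8 * σ q = U * W - 2 * W := by
    have e : U * W = xi σ y * xi σ x - xi σ x * xi σ y := by
      rw [hUdef, hWdef, fU, fW, show (xi σ x + xi σ y) * (xi σ x - xi σ y) =
        xi σ x * xi σ x - xi σ y * xi σ y + (xi σ y * xi σ x - xi σ x * xi σ y) by noncomm_ring [ofNat_nsmul],
        h.xi_sq hf.1, h.xi_sq hf.2.1, sub_self, zero_add]
    rw [e, hWdef, fW, hq, map_mul,
      show 8 * (σ x * σ y⁻¹) = 2 * ((2 * σ x) * (2 * σ y⁻¹)) by noncomm_ring [ofNat_nsmul],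
      show 2 * σ x = xi σ x - 1 by rw [xi, add_sub_cancel_right],
      show 2 * σ y⁻¹ = xi σ y⁻¹ - 1 by rw [xi, add_sub_cancel_right], h.xi_inv hf.2.1,
      show (2 : A) * ((xi σ x - 1) * (-xi σ y - 1)) = -(xi σ x * xi σ y + xi σ y * xi σ x) +
        (xi σ y * xi σ x - xi σ x * xi σ y) - 2 * (xi σ x - xi σ y) + 2 by noncomm_ring [ofNat_nsmul],
      show xi σ x * xi σ y + xi σ y * xi σ x = 2 from hf.2.2]
    noncomm_ring [ofNat_nsmul]
  have hq2 : 8 * σ q⁻¹ = -(U * W - 2 * W) := by
    have e : U * W = xi σ y * xi σ x - xi σ x * xi σ y := by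
      rw [hUdef, hWdef, fU, fW, show (xi σ x + xi σ y) * (xi σ x - xi σ y) =
        xi σ x * xi σ x - xi σ y * xi σ y + (xi σ y * xi σ x - xi σ x * xi σ y) by noncomm_ring [ofNat_nsmul],
        h.xi_sq hf.1, h.xi_sq hf.2.1, sub_self, zero_add]
    rw [e, hWdef, fW, hq, mul_inv_rev, inv_inv, map_mul,
      show 8 * (σ y * σ x⁻¹) = 2 * ((2 * σ y) * (2 * σ x⁻¹)) by noncomm_ring [ofNat_nsmul],
      show 2 * σ y = xi σ y - 1 by rw [xi, add_sub_cancel_right],
      show 2 * σ x⁻¹ = xi σ x⁻¹ - 1 by rw [xi, add_sub_cancel_right], h.xi_inv hf.1,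
      show (2 : A) * ((xi σ y - 1) * (-xi σ x - 1)) = -(xi σ x * xi σ y + xi σ y * xi σ x) -
        (xi σ y * xi σ x - xi σ x * xi σ y) + 2 * (xi σ x - xi σ y) + 2 by noncomm_ring [ofNat_nsmul],
      show xi σ x * xi σ y + xi σ y * xi σ x = 2 from hf.2.2]
    noncomm_ring [ofNat_nsmul]
  have hqd : 8 * xi σ (q * d * q⁻¹) = U * W + S * W := by
    refine num_eq_of_mul (n := 128) ?_
    rw [xi_map_conj, show 128 * (8 * (σ q * xi σ d * σ q⁻¹)) = 8 * σ q * (16 * xi σ d) * (8 * σ q⁻¹) by
      noncomm_ring [ofNat_nsmul], hq1, hq2, hd',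
      show (U * W - 2 * W) * -(4 * W + S * (U * W)) * -(U * W - 2 * W) =
        4 * ((U * W - 2 * W) * W * (U * W - 2 * W)) +
          (U * W - 2 * W) * S * (U * W) * (U * W - 2 * W) by noncomm_ring [ofNat_nsmul],
      ← ((hSU.mul_right hSW).sub_right ((commute_num S).symm.mul_right hSW)).eq,
      show (U * W - 2 * W) * W * (U * W - 2 * W) =
        U * W * (W * (U * W)) - 2 * (U * W * W * W) - 2 * (W * W * (U * W)) + 4 * (W * W * W) by
        noncomm_ring [ofNat_nsmul],
      show S * (U * W - 2 * W) * (U * W) * (U * W - 2 * W) =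
        S * (U * W * (U * W) * (U * W) - 2 * (U * W * (U * W) * W) - 2 * (W * (U * W * (U * W))) +
          4 * (W * (U * W) * W)) by noncomm_ring [ofNat_nsmul],
      hWUW, hUWW, hUW, hW, show U * W * (8 * U) = 8 * (U * (W * U)) by noncomm_ring [ofNat_nsmul], hWU,
      show U * -(U * W) = -(U * U * W) by noncomm_ring [ofNat_nsmul], hU]
    noncomm_ring [ofNat_nsmul]
  have ht : 16 * anti σ c (q * d * q⁻¹) = 8 * (R + S) + (R * S - S * R) * U := by
    refine num_eq_of_mul (n := 8) ?_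
    rw [anti, show 8 * (16 * (xi σ c * xi σ (q * d * q⁻¹) + xi σ (q * d * q⁻¹) * xi σ c)) =
      16 * xi σ c * (8 * xi σ (q * d * q⁻¹)) + 8 * xi σ (q * d * q⁻¹) * (16 * xi σ c) by
      noncomm_ring [ofNat_nsmul], hg, hqd,
      show -(4 * W + R * (U * W)) * (U * W + S * W) + (U * W + S * W) * -(4 * W + R * (U * W)) =
        -4 * (W * (U * W) + U * W * W) - 4 * ((W * S) * W + S * (W * W)) -
          (R * (U * W * (U * W)) + U * W * R * (U * W)) - (R * (U * W * S) * W + S * (W * R) * (U * W)) by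
        noncomm_ring [ofNat_nsmul],
      ← hSW.eq, ← (hRU.mul_right hRW).eq, ← (hSU.mul_right hSW).eq, ← hRW.eq,
      show R * (U * W) * (U * W) = R * (U * W * (U * W)) by noncomm_ring [ofNat_nsmul],
      show S * W * W = S * (W * W) by noncomm_ring [ofNat_nsmul],
      show R * (S * (U * W)) * W = R * S * (U * W * W) by noncomm_ring [ofNat_nsmul],
      show S * (R * W) * (U * W) = S * R * (W * (U * W)) by noncomm_ring [ofNat_nsmul],
      hWUW, hUWW, hUW, hW]
    noncomm_ring [ofNat_nsmul]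
  have hxd : 32 * xi σ (x * d * x⁻¹) = (4 * S - 8) * U - (2 * S + 4) * W + (S + 2) * (U * W) := by
    have hx2 : 2 * xi σ x = U + W := by rw [hUdef, hWdef, fU, fW]; noncomm_ring [ofNat_nsmul]
    have hWUm : W * U = -(U * W) := hWU
    refine num_eq_of_mul (n := 4) ?_
    rw [show 4 * (32 * xi σ (x * d * x⁻¹)) = 32 * (4 * xi σ (x * d * x⁻¹)) by noncomm_ring [ofNat_nsmul],
      xi_conj_formula h d hf.1, hd.2.1,
      show 32 * (-2 * xi σ d - 2 * xi σ x + (xi σ d * xi σ x - xi σ x * xi σ d)) =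
        -4 * (16 * xi σ d) - 32 * (2 * xi σ x) + (16 * xi σ d * (2 * xi σ x) - 2 * xi σ x * (16 * xi σ d)) by
        noncomm_ring [ofNat_nsmul], hx2, hd',
      show -(4 * W + S * (U * W)) * (U + W) - (U + W) * -(4 * W + S * (U * W)) =
        -4 * (W * U - U * W) - S * (U * (W * U) + U * W * W) + (U + W) * S * (U * W) by
          noncomm_ring [ofNat_nsmul],
      ← (hSU.add_right hSW).eq,
      show S * (U + W) * (U * W) = S * (U * U * W + W * (U * W)) by noncomm_ring [ofNat_nsmul],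
      hUWW, hWUW, hWUm, show U * -(U * W) = -(U * U * W) by noncomm_ring [ofNat_nsmul], hU]
    noncomm_ring [ofNat_nsmul]
  have hu : 32 * anti σ c (x * d * x⁻¹) =
      -(16 - 2 * (R * S + S * R) + 8 * (S - R) + (R * S - S * R) * (U + W)) := by
    refine num_eq_of_mul (n := 16) ?_
    have hUUW : U * (U * W) = -4 * W := by rw [← mul_assoc, hU]
    have hUWU : U * W * U = 4 * W := by rw [mul_assoc, hWU, mul_neg, hUUW]; noncomm_ring [ofNat_nsmul]
    rw [anti, show 16 * (32 * (xi σ c * xi σ (x * d * x⁻¹) + xi σ (x * d * x⁻¹) * xi σ c)) =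
      16 * xi σ c * (32 * xi σ (x * d * x⁻¹)) + 32 * xi σ (x * d * x⁻¹) * (16 * xi σ c) by
      noncomm_ring [ofNat_nsmul], hg, hxd,
      show -(4 * W + R * (U * W)) * ((4 * S - 8) * U - (2 * S + 4) * W + (S + 2) * (U * W)) +
          ((4 * S - 8) * U - (2 * S + 4) * W + (S + 2) * (U * W)) * -(4 * W + R * (U * W)) =
        -4 * (W * (4 * S - 8) * U + (4 * S - 8) * (U * W)) +
          4 * (W * (2 * S + 4) * W + (2 * S + 4) * (W * W)) -
          4 * (W * (S + 2) * (U * W) + (S + 2) * (U * W * W)) -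
          (R * (U * W * (4 * S - 8)) * U + (4 * S - 8) * (U * R) * (U * W)) +
          (R * (U * W * (2 * S + 4)) * W + (2 * S + 4) * (W * R) * (U * W)) -
          (R * (U * W * (S + 2)) * (U * W) + (S + 2) * (U * W * R) * (U * W)) by
        noncomm_ring [ofNat_nsmul],
      ← (((commute_num W).mul_left hSW).sub_left (commute_num W)).eq,
      ← (((commute_num W).mul_left hSW).add_left (commute_num W)).eq,
      ← (hSW.add_left (commute_num W)).eq, ← hRU.eq, ← hRW.eq, ← (hRU.mul_right hRW).eq,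
      ← (((commute_num (U * W)).mul_left (hSU.mul_right hSW)).sub_left (commute_num _)).eq,
      ← (((commute_num (U * W)).mul_left (hSU.mul_right hSW)).add_left (commute_num _)).eq,
      ← ((hSU.mul_right hSW).add_left (commute_num _)).eq,
      show (4 * S - 8) * W * U = (4 * S - 8) * (W * U) by noncomm_ring [ofNat_nsmul],
      show (2 * S + 4) * W * W = (2 * S + 4) * (W * W) by noncomm_ring [ofNat_nsmul],
      show (S + 2) * W * (U * W) = (S + 2) * (W * (U * W)) by noncomm_ring [ofNat_nsmul],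
      show R * ((4 * S - 8) * (U * W)) * U = R * (4 * S - 8) * (U * W * U) by noncomm_ring [ofNat_nsmul],
      show (4 * S - 8) * (R * U) * (U * W) = (4 * S - 8) * R * (U * (U * W)) by noncomm_ring [ofNat_nsmul],
      show R * ((2 * S + 4) * (U * W)) * W = R * (2 * S + 4) * (U * W * W) by noncomm_ring [ofNat_nsmul],
      show (2 * S + 4) * (R * W) * (U * W) = (2 * S + 4) * R * (W * (U * W)) by noncomm_ring [ofNat_nsmul],
      show R * ((S + 2) * (U * W)) * (U * W) = R * (S + 2) * (U * W * (U * W)) by noncomm_ring [ofNat_nsmul],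
      show (S + 2) * (R * (U * W)) * (U * W) = (S + 2) * R * (U * W * (U * W)) by noncomm_ring [ofNat_nsmul],
      hWUW, hUWW, hUWU, hUUW, hUW, hW, hWU]
    noncomm_ring [ofNat_nsmul]
  have hRS := roots_eq hU hW hWU hc.2.2.2.1 hd.2.2.2.1 hRU hRW hSU hSW ht hu
    (anti_options h hc.1 (order_conj.trans hd.1)) (anti_options h hc.1 (order_conj.trans hd.1))
  exact xi_injective h (num_eq_of_mul (n := 16) (by rw [hg, hd', show R = S from hRS]))

/-- Moving a non-member with value `2` at `x` into standard position. -/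
theorem IsFrame.norm_of_two (h : IsFpfAlg σ) (hf : IsFrame σ x y) {d : G} (hd : orderOf d = 3)
    (hne : ¬ Member x y d) (h1 : anti σ x d = 2) :
    IsNorm σ x y d ∨ IsNorm σ x y (x⁻¹ * d * x) ∨ IsNorm σ x y (x * d * x⁻¹) := by
  have hxx : x⁻¹ * x⁻¹ = x := by rw [← mul_inv_rev, ← inv_eq_sq hf.1, inv_inv]
  rcases hf.positions h hd hne h1 with ⟨a, b, c⟩ | ⟨a, b, c⟩ | ⟨a, b, c⟩
  · exact Or.inl ⟨hd, h1, a, b, c⟩
  · have e1 : x⁻¹ * x * x⁻¹⁻¹ = x := by group
    have e2 : x⁻¹ * (x * y * x⁻¹) * x⁻¹⁻¹ = y := by group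
    have e3 : x⁻¹ * (x⁻¹ * y * x) * x⁻¹⁻¹ = x * y * x⁻¹ := by
      rw [show x⁻¹ * (x⁻¹ * y * x) * x⁻¹⁻¹ = x⁻¹ * x⁻¹ * y * (x * x) by simp [mul_assoc], hxx, ← inv_eq_sq hf.1]
    have e4 : x⁻¹ * y * x⁻¹⁻¹ = x⁻¹ * y * x := by group
    refine Or.inr (Or.inl ⟨order_conj'.trans hd, ?_, ?_, ?_, ?_⟩)
    · have := anti_map_conj_two (g := x⁻¹) h1; simpa [e1] using this
    · have := anti_map_conj_neg_two (g := x⁻¹) a; rw [e2] at this; simpa using this
    · have := anti_map_conj_sq (g := x⁻¹) b; rw [e3] at this; simpa using this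
    · have p := anti_map_conj (σ := σ) x⁻¹ y d
      rw [c, mul_neg, neg_mul, ← anti_map_conj, e3, e4] at p
      simpa using p
  · have e3 : x * (x⁻¹ * y * x) * x⁻¹ = y := by group
    have e4 : x * (x * y * x⁻¹) * x⁻¹ = x⁻¹ * y * x := by
      rw [show x * (x * y * x⁻¹) * x⁻¹ = x * x * y * (x * x)⁻¹ by group, ← inv_eq_sq hf.1, inv_inv]
    refine Or.inr (Or.inr ⟨order_conj.trans hd, ?_, ?_, ?_, ?_⟩)
    · have := anti_map_conj_two (g := x) h1; simpa using this
    · have := anti_map_conj_neg_two (g := x) a; rwa [e3] at this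
    · exact anti_map_conj_sq (g := x) b
    · have p := anti_map_conj (σ := σ) x (x * y * x⁻¹) d
      rw [c, mul_neg, neg_mul, ← anti_map_conj, e4] at p
      exact p

/-- A non-member with value `±2` somewhere is conjugate to one in standard position. -/
theorem IsFrame.exists_norm (h : IsFpfAlg σ) (hf : IsFrame σ x y) {d e : G} (hd : orderOf d = 3)
    (hne : ¬ Member x y d) (he : e ∈ Four x y) (hv : anti σ e d = 2 ∨ anti σ e d = -2) :
    ∃ g ∈ closure ({x, y} : Set G), ∃ d' : G, (d' = d ∨ d' = d⁻¹) ∧ IsNorm σ x y (g * d' * g⁻¹) := by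
  have hxm : x ∈ closure ({x, y} : Set G) := subset_closure (Or.inl rfl)
  have hym : y ∈ closure ({x, y} : Set G) := subset_closure (Or.inr rfl)
  obtain ⟨g, hg, hge⟩ : ∃ g ∈ closure ({x, y} : Set G), g * e * g⁻¹ = x := by
    have h4 : y⁻¹ * (x⁻¹ * y * x) * y = x := by rw [← hf.conj_swap h]; group
    rcases he with he | he | he | he <;> rw [he]
    · exact ⟨1, one_mem _, by group⟩
    · refine ⟨y⁻¹ * x⁻¹, mul_mem (inv_mem hym) (inv_mem hxm), ?_⟩
      calc _ = y⁻¹ * (x⁻¹ * y * x) * y := by group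
        _ = x := h4
    · refine ⟨y⁻¹ * x⁻¹ * x⁻¹, mul_mem (mul_mem (inv_mem hym) (inv_mem hxm)) (inv_mem hxm), ?_⟩
      calc _ = y⁻¹ * (x⁻¹ * y * x) * y := by group
        _ = x := h4
    · exact ⟨y⁻¹, inv_mem hym, by rw [inv_inv]; exact h4⟩
  obtain ⟨d', hd', hd'3, hne', h2⟩ : ∃ d', (d' = d ∨ d' = d⁻¹) ∧ orderOf d' = 3 ∧ ¬ Member x y d' ∧
      anti σ x (g * d' * g⁻¹) = 2 := by
    rcases hv with hv | hv
    · exact ⟨d, Or.inl rfl, hd, hne, by have := anti_map_conj_two (g := g) hv; rwa [hge] at this⟩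
    · refine ⟨d⁻¹, Or.inr rfl, by rwa [orderOf_inv], fun h' => hne (member_inv.1 h'), ?_⟩
      have := anti_map_conj_two (g := g) (a := e) (b := d⁻¹) (σ := σ)
        (by rw [h.anti_inv_right hd, hv, neg_neg])
      rwa [hge] at this
  have hne2 : ¬ Member x y (g * d' * g⁻¹) := fun h' => hne' (hf.member_conj h hg h')
  rcases hf.norm_of_two h (order_conj.trans hd'3) hne2 h2 with hn | hn | hn
  · exact ⟨g, hg, d', hd', hn⟩
  · exact ⟨x⁻¹ * g, mul_mem (inv_mem hxm) hg, d', hd', by convert hn using 1; group⟩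
  · exact ⟨x * g, mul_mem hxm hg, d', hd', by convert hn using 1; group⟩

/-- Two non-members near a frame: each lies in the group generated by the frame and the other. -/
theorem IsFrame.mem_of_adjacent (h : IsFpfAlg σ) (hf : IsFrame σ x y) {K : Subgroup G} (hx : x ∈ K)
    (hy : y ∈ K) {d : G} (hd : orderOf d = 3) (hne : ¬ Member x y d) (hdK : d ∈ K)
    {e : G} (he : e ∈ Four x y) (hv : anti σ e d = 2 ∨ anti σ e d = -2)
    {a f : G} (ha : orderOf a = 3) (hf' : f ∈ Four x y) (hva : anti σ f a = 2 ∨ anti σ f a = -2) :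
    a ∈ K := by
  by_cases hm : Member x y a
  · exact hm.mem hx hy
  have hle : closure ({x, y} : Set G) ≤ K := (closure_le K).2 (by
    rintro z (rfl | rfl) <;> assumption)
  obtain ⟨g, hg, d', hd', hn⟩ := hf.exists_norm h hd hne he hv
  obtain ⟨k, hk, a', ha', hn'⟩ := hf.exists_norm h ha hm hf' hva
  have hd'K : g * d' * g⁻¹ ∈ K := by
    refine mul_mem (mul_mem (hle hg) ?_) (inv_mem (hle hg))
    rcases hd' with rfl | rfl
    exacts [hdK, inv_mem hdK]
  rw [hn.unique h hf hn'] at hd'K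
  have : a' ∈ K := (mul_mem_cancel_left (hle hk)).1 ((mul_mem_cancel_right (inv_mem (hle hk))).1 hd'K)
  rcases ha' with rfl | rfl
  exacts [this, inv_mem_iff.1 this]

/-- An element centralizing a frame fixes its neighbours. -/
theorem IsFrame.fix_adjacent (h : IsFpfAlg σ) (hf : IsFrame σ x y) {n : G} (hnx : Commute n x)
    (hny : Commute n y) {d e : G} (hd : orderOf d = 3) (hne : ¬ Member x y d) (he : e ∈ Four x y)
    (hv : anti σ e d = 2 ∨ anti σ e d = -2) : Commute n d := by
  obtain ⟨g, hg, d', hd', hn⟩ := hf.exists_norm h hd hne he hv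
  have hgn : Commute n g := by
    have : closure ({x, y} : Set G) ≤ centralizer ({n} : Set G) := (closure_le _).2 (by
      rintro z (rfl | rfl) <;> exact mem_centralizer_singleton_iff.2 (Commute.eq (by
        first | exact hnx.symm | exact hny.symm)))
    exact (mem_centralizer_singleton_iff.1 (this hg)).symm
  have fix : ∀ z, Commute n z → n * z * n⁻¹ = z := fun z hz => by rw [hz.eq, mul_inv_cancel_right]
  have fx : n * (x * y * x⁻¹) * n⁻¹ = x * y * x⁻¹ :=
    fix _ ((hnx.mul_right hny).mul_right hnx.inv_right)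
  have fy : n * (x⁻¹ * y * x) * n⁻¹ = x⁻¹ * y * x :=
    fix _ ((hnx.inv_right.mul_right hny).mul_right hnx)
  obtain ⟨o, h1, h2, h3, h4⟩ := hn
  set c := g * d' * g⁻¹ with hc
  have hn' : IsNorm σ x y (n * c * n⁻¹) := by
    refine ⟨order_conj.trans o, ?_, ?_, ?_, ?_⟩
    · have := anti_map_conj_two (g := n) h1; rwa [fix _ hnx] at this
    · have := anti_map_conj_neg_two (g := n) h2; rwa [fix _ hny] at this
    · have := anti_map_conj_sq (g := n) h3; rwa [fx] at this
    · have p := anti_map_conj (σ := σ) n (x⁻¹ * y * x) c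
      rw [h4, mul_neg, neg_mul, ← anti_map_conj, fx, fy] at p
      exact p
  have hcc := hn'.unique h hf ⟨o, h1, h2, h3, h4⟩
  have h5 : Commute n c := mul_inv_eq_iff_eq_mul.1 hcc
  have h6 : Commute n d' := by
    have := (hgn.inv_right.mul_right h5).mul_right hgn
    rwa [hc, show g⁻¹ * (g * d' * g⁻¹) * g = d' by group] at this
  rcases hd' with rfl | rfl
  exacts [h6, by simpa using h6.inv_right]

end Frame

section Root

variable {a b : G}

/-- A pair with irrational anticommutator gives a frame and a non-member near it. -/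
theorem root_frame (h : IsFpfAlg σ) (ha : orderOf a = 3) (hb : orderOf b = 3)
    (hR : anti σ a b * anti σ a b = 20) :
    IsFrame σ b (a * b * a⁻¹)⁻¹ ∧ ¬ Member b (a * b * a⁻¹)⁻¹ a ∧
      ∃ e ∈ Four b (a * b * a⁻¹)⁻¹, e ≠ b ∧ (anti σ e a = 2 ∨ anti σ e a = -2) := by
  set z := (a * b * a⁻¹)⁻¹ with hz
  have hz3 : orderOf z = 3 := by rw [hz, orderOf_inv, order_conj, hb]
  have hf : IsFrame σ b z := by
    refine ⟨hb, hz3, ?_⟩
    rw [hz, h.anti_inv_right (order_conj.trans hb)]
    refine num_eq_of_mul (n := 4) ?_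
    rw [mul_neg, anti_conj_self h ha hb, hR]; noncomm_ring [ofNat_nsmul]
  have hR' : anti σ b a = anti σ a b := anti_comm σ b a
  have hne : ¬ Member b z a := by
    intro hm
    have h6 : ∀ e ∈ Four b z, anti σ b e = -6 ∨ anti σ b e = 2 := by
      rintro e (rfl | rfl | rfl | rfl)
      exacts [Or.inl (h.anti_self hb), Or.inr hf.2.2, Or.inr hf.rotate.2.2, Or.inr hf.anti_four]
    have hsq : anti σ b a * anti σ b a = 36 ∨ anti σ b a * anti σ b a = 4 := by
      rcases hm with hm | hm
      · rcases h6 a hm with e | e <;> rw [e]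
        · left; noncomm_ring [ofNat_nsmul]
        · right; noncomm_ring [ofNat_nsmul]
      · have := h.anti_inv_right (x := b) ha
        rcases h6 a⁻¹ hm with e | e <;> rw [e] at this <;> rw [← neg_neg (anti σ b a), ← this]
        · left; noncomm_ring [ofNat_nsmul]
        · right; noncomm_ring [ofNat_nsmul]
    rw [hR', hR] at hsq
    rcases hsq with e | e <;> exact num_ne (by norm_num) e
  refine ⟨hf, hne, ?_⟩
  have hza : anti σ z a = -anti σ a b := by
    rw [hz, h.anti_inv_left (order_conj.trans hb)]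
    congr 1
    have p := anti_map_conj (σ := σ) a b a
    have hsa : Commute (σ a) (anti σ a b) := by
      have h2 := ((h.anti_commute (y := b) ha).symm.sub_left (Commute.one_left _)).eq
      rw [xi, add_sub_cancel_right] at h2
      refine num_eq_of_mul (n := 2) ?_
      rw [← mul_assoc, h2, ← mul_assoc, ← (commute_num (anti σ a b)).eq, mul_assoc]
    rw [mul_inv_cancel_right, hR', hsa.eq] at p
    rw [p, mul_assoc, map_mul_inv, mul_one]
  have hb2 : z ≠ b ∧ b * z * b⁻¹ ≠ b ∧ b⁻¹ * z * b ≠ b := by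
    have hzb : z ≠ b := fun e => by
      have h2 := hf.2.2
      rw [e, h.anti_self hb] at h2
      have h3 : (8 : A) = 0 := by
        calc (8 : A) = 2 - (-6) := by noncomm_ring [ofNat_nsmul]
          _ = 0 := by rw [← h2, sub_self]
      exact one_ne_zero (α := A) (num_cancel (n := 8) (by rw [mul_one, h3]))
    refine ⟨hzb, fun e => hzb ?_, fun e => hzb ?_⟩
    · calc z = b⁻¹ * (b * z * b⁻¹) * b := by group
        _ = b := by rw [e]; group
    · calc z = b * (b⁻¹ * z * b) * b⁻¹ := by group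
        _ = b := by rw [e]; group
  have h3 := hf.options h ha hne (e := b * z * b⁻¹) (Or.inr (Or.inr (Or.inl rfl)))
  rcases h3 with h3 | h3 | h3
  · exact ⟨_, Or.inr (Or.inr (Or.inl rfl)), hb2.2.1, Or.inl h3⟩
  · exact ⟨_, Or.inr (Or.inr (Or.inl rfl)), hb2.2.1, Or.inr h3⟩
  exfalso
  set R := anti σ a b with hRdef
  set S := anti σ (b * z * b⁻¹) a with hSdef
  have hsum := hf.sum_four h a
  rw [hR', hza, add_neg_cancel, zero_add] at hsum
  have h4 : anti σ (b⁻¹ * z * b) a = -S := eq_neg_of_add_eq_zero_right hsum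
  have hRc := IsFrame.commute_UW (σ := σ) (x := b) (y := z) (a := R)
    (hR' ▸ h.anti_commute hb) (by
      have := (h.anti_commute (y := a) hz3).neg_left
      rwa [hza, neg_neg] at this)
  have hSc := hf.commute_UW' h (a := S) (h.anti_commute (order_conj.trans hz3)) (by
    have := (h.anti_commute (y := a) (x := b⁻¹ * z * b) (order_conj'.trans hz3)).neg_left
    rwa [h4, neg_neg] at this)
  have hco := hf.coord h a (a := 0) (b := 2 * R) (c := 2 * S) (by rw [hR', hza, add_neg_cancel])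
    (by rw [hR', hza]; noncomm_ring [ofNat_nsmul]) (by rw [h4, ← hSdef]; noncomm_ring [ofNat_nsmul])
    (Commute.zero_left _) (Commute.zero_left _) ((commute_num _).mul_left hRc.1)
    ((commute_num _).mul_left hRc.2) ((commute_num _).mul_left hSc.1) ((commute_num _).mul_left hSc.2)
  have hU := hf.U_sq h
  have hW := hf.W_sq h
  have hWU := hf.WU h
  have hUW := UW_sq hU hW hWU
  set U := fU σ b z
  set W := fW σ b z
  have hsq : (2 * (R * W) + S * (U * W)) * (2 * (R * W) + S * (U * W)) = -768 := by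
    refine num_eq_of_mul (n := 4) ?_
    rw [show (4 : A) * ((2 * (R * W) + S * (U * W)) * (2 * (R * W) + S * (U * W))) =
      -(4 * (0 * U) + 2 * (2 * R * W) + 2 * S * (U * W)) * -(4 * (0 * U) + 2 * (2 * R * W) + 2 * S * (U * W)) by
        noncomm_ring [ofNat_nsmul], ← hco,
      show 32 * xi σ a * (32 * xi σ a) = 1024 * (xi σ a * xi σ a) by noncomm_ring [ofNat_nsmul], h.xi_sq ha]
    noncomm_ring [ofNat_nsmul]
  rw [show (2 * (R * W) + S * (U * W)) * (2 * (R * W) + S * (U * W)) =
      4 * (R * (W * R) * W) + 2 * (R * (W * S) * (U * W) + S * (U * W * R) * W) +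
        S * (U * W * S) * (U * W) by noncomm_ring [ofNat_nsmul],
    ← hRc.2.eq, ← hSc.2.eq, ← (hRc.1.mul_right hRc.2).eq, ← (hSc.1.mul_right hSc.2).eq,
    show R * (R * W) * W = R * R * (W * W) by noncomm_ring [ofNat_nsmul],
    show R * (S * W) * (U * W) = R * S * (W * U * W) by noncomm_ring [ofNat_nsmul],
    show S * (R * (U * W)) * W = S * R * (U * (W * W)) by noncomm_ring [ofNat_nsmul],
    show S * (S * (U * W)) * (U * W) = S * S * (U * W * (U * W)) by noncomm_ring [ofNat_nsmul],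
    hR, h3, hUW, hWU, show -(U * W) * W = -(U * (W * W)) by noncomm_ring [ofNat_nsmul], hW] at hsq
  have hC : (R * S - S * R) * U = 0 := by
    refine component_zero hW hWU ((hRc.2.mul_left hSc.2).sub_left (hSc.2.mul_left hRc.2))
      (X := 0) (Commute.zero_left _) 32 (commute_num _) ?_
    refine num_eq_of_mul (n := 16) ?_
    calc (16 : A) * (0 + (R * S - S * R) * U)
        = (4 * (20 * -8) + 2 * (R * S * -(U * -8) + S * R * (U * -8)) + 20 * -32) + 1280 := by
          noncomm_ring [ofNat_nsmul]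
      _ = 16 * 32 := by rw [hsq]; noncomm_ring [ofNat_nsmul]
  have h1 : (16 : A) * ((R * S - S * R) * U) = 512 := by
    calc (16 : A) * ((R * S - S * R) * U)
        = (4 * (20 * -8) + 2 * (R * S * -(U * -8) + S * R * (U * -8)) + 20 * -32) + 1280 := by
          noncomm_ring [ofNat_nsmul]
      _ = 512 := by rw [hsq]; noncomm_ring [ofNat_nsmul]
  rw [hC, mul_zero] at h1
  exact one_ne_zero (num_cancel (n := 512) ((mul_one _).trans h1.symm))

/-- Such a pair generates all elements of order three. -/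
theorem mem_closure_pair (h : IsFpfAlg σ) (ha : orderOf a = 3) (hb : orderOf b = 3)
    (hR : anti σ a b * anti σ a b = 20) {d : G} (hd : orderOf d = 3) :
    d ∈ closure ({a, b} : Set G) := by
  set K := closure ({a, b} : Set G)
  have haK : a ∈ K := subset_closure (Or.inl rfl)
  have hbK : b ∈ K := subset_closure (Or.inr rfl)
  obtain ⟨hf, hne, e₀, he₀, -, hv₀⟩ := root_frame h ha hb hR
  set z := (a * b * a⁻¹)⁻¹ with hz
  have hzK : z ∈ K := inv_mem (mul_mem (mul_mem haK hbK) (inv_mem haK))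
  have near : ∀ u, orderOf u = 3 → ∀ f ∈ Four b z, (anti σ f u = 2 ∨ anti σ f u = -2) → u ∈ K :=
    fun u hu f hf' hv => hf.mem_of_adjacent h hbK hzK ha hne haK he₀ hv₀ hu hf' hv
  rcases h.anti_cases hb hd with rfl | rfl | e | e | e
  · exact inv_mem hbK
  · exact hbK
  · exact near d hd b (Or.inl rfl) (Or.inl e)
  · exact near d hd b (Or.inl rfl) (Or.inr e)
  obtain ⟨hf', hne', e₁, he₁, he₁b, hv₁⟩ := root_frame h hd hb (by rwa [anti_comm])
  set z' := (d * b * d⁻¹)⁻¹ with hz'
  have hbe : anti σ b e₁ = 2 := by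
    rcases he₁ with rfl | rfl | rfl | rfl
    exacts [absurd rfl he₁b, hf'.2.2, hf'.rotate.2.2, hf'.anti_four]
  have he₁3 := hf'.four_order he₁
  have he₁K : e₁ ∈ K := near e₁ he₁3 b (Or.inl rfl) (Or.inl hbe)
  by_cases hm : Member b z e₁
  · rcases hm with hm | hm
    · exact near d hd e₁ hm hv₁
    · refine near d hd e₁⁻¹ hm ?_
      rw [h.anti_inv_left he₁3]
      rcases hv₁ with e' | e' <;> rw [e']
      exacts [Or.inr rfl, Or.inl (neg_neg _)]
  -- a second frame containing `e₁`
  have hf2 : IsFrame σ b e₁ := ⟨hb, he₁3, hbe⟩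
  have hz2 : ¬ Member b e₁ z := by
    intro hzm
    apply hm
    rcases hzm with hzm | hzm
    · rcases hzm with e' | e' | e' | e'
      · exfalso
        have h2 := hf.2.2
        rw [e', h.anti_self hb] at h2
        exact one_ne_zero (α := A) (num_cancel (n := 8) (by
          calc (8 : A) * 1 = 2 - (-6) := by noncomm_ring [ofNat_nsmul]
            _ = 0 := by rw [← h2, sub_self]))
      · exact Or.inl (Or.inr (Or.inl e'.symm))
      · refine Or.inl (Or.inr (Or.inr (Or.inr ?_)))
        rw [show z = b * e₁ * b⁻¹ from e']; group; rfl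
      · refine Or.inl (Or.inr (Or.inr (Or.inl ?_)))
        rw [show z = b⁻¹ * e₁ * b from e']; group
    · exfalso
      have h2 := hf.2.2
      rw [← neg_neg (anti σ b z), ← h.anti_inv_right hf.2.1] at h2
      rcases hzm with e' | e' | e' | e'
      · rw [e', h.anti_self hb] at h2
        exact one_ne_zero (α := A) (num_cancel (n := 4) (by
          calc (4 : A) * 1 = - -6 - 2 := by noncomm_ring [ofNat_nsmul]
            _ = 0 := by rw [h2, sub_self]))
      all_goals
        have hv : anti σ b z⁻¹ = 2 := by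
          rw [e']
          first
            | exact hbe
            | exact hf2.rotate.2.2
            | exact hf2.anti_four
        rw [hv] at h2
        exact one_ne_zero (α := A) (num_cancel (n := 4) (by
          calc (4 : A) * 1 = 2 - -2 := by noncomm_ring [ofNat_nsmul]
            _ = 0 := by rw [h2, sub_self]))
  exact hf2.mem_of_adjacent h hbK he₁K hf.2.1 hz2 hzK (Or.inl rfl) (Or.inl hf.2.2) hd
    (Or.inr (Or.inl rfl)) hv₁

end Root

end CfsgLib.Zassenhaus
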