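import Cfsg.Agent.Zassenhaus.Cosine

/-!
Fixed-point-free linear actions: pairs of elements of order three.
-/

set_option autoImplicit false
set_option linter.unusedSectionVars false

namespace CfsgLib.Zassenhaus

open Polynomial

variable {G : Type*} [Group G] [Finite G]

section Ring

variable {A : Type*} [Ring A]

/-- Numerals as multiples of one, for `noncomm_ring`. -/
theorem ofNat_nsmul (n : ℕ) [n.AtLeastTwo] :
    (OfNat.ofNat n : A) = (OfNat.ofNat n : ℕ) • (1 : A) := by rw [nsmul_one, Nat.cast_ofNat]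

variable (σ : G →* A)

/-- A linear representation in which only the identity has the eigenvalue one. -/
def IsFpfAlg : Prop := ∀ g : G, g ≠ 1 → IsUnit (σ g - 1)

/-- Twice the traceless part of an element of order three. -/
def xi (g : G) : A := 2 * σ g + 1

/-- The anticommutator of the traceless parts. -/
def anti (x y : G) : A := xi σ x * xi σ y + xi σ y * xi σ x

theorem anti_comm (x y : G) : anti σ x y = anti σ y x := add_comm _ _

variable {σ}

theorem IsFpfAlg.comp {H : Type*} [Group H] (h : IsFpfAlg σ) (f : H →* G) (hf : Function.Injective f) :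
    IsFpfAlg (σ.comp f) := fun x hx => h (f x) (fun e => hx (hf (e.trans (map_one f).symm)))

theorem IsFpfAlg.mul_left_cancel₀ (h : IsFpfAlg σ) {g : G} (hg : g ≠ 1) {a : A}
    (ha : (σ g - 1) * a = 0) : a = 0 :=
  (h g hg).mul_right_eq_zero.1 ha

theorem IsFpfAlg.injective [Nontrivial A] (h : IsFpfAlg σ) : Function.Injective σ := by
  intro a b hab
  by_contra hne
  have h1 : a⁻¹ * b ≠ 1 := fun e => hne (inv_mul_eq_one.1 e)
  refine not_isUnit_zero (M₀ := A) ?_
  have := h _ h1
  rwa [map_mul, ← hab, ← map_mul, inv_mul_cancel, map_one, sub_self] at this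

theorem IsFpfAlg.neg_one (h : IsFpfAlg σ) {g : G} (hg : orderOf g = 2) : σ g = -1 := by
  have h1 : g ≠ 1 := fun e => by rw [e, orderOf_one] at hg; omega
  have h2 : σ g * σ g = 1 := by rw [← map_mul, ← pow_two, ← hg, pow_orderOf_eq_one, map_one]
  have h3 := h.mul_left_cancel₀ h1 (a := σ g + 1) (by rw [sub_mul, mul_add, h2]; noncomm_ring [ofNat_nsmul])
  exact eq_neg_of_add_eq_zero_left h3

theorem IsFpfAlg.unique_involution [Nontrivial A] (h : IsFpfAlg σ) {g k : G} (hg : orderOf g = 2)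
    (hk : orderOf k = 2) : g = k :=
  h.injective (by rw [h.neg_one hg, h.neg_one hk])

theorem IsFpfAlg.three (h : IsFpfAlg σ) {x : G} (hx : orderOf x = 3) :
    σ x * σ x + σ x + 1 = 0 := by
  have h1 : x ≠ 1 := fun e => by rw [e, orderOf_one] at hx; omega
  refine h.mul_left_cancel₀ h1 ?_
  have h3 : σ x * (σ x * σ x) = 1 := by
    rw [← map_mul, ← map_mul, ← pow_two, ← pow_succ', show (2 : ℕ) + 1 = orderOf x from hx.symm,
      pow_orderOf_eq_one, map_one]
  rw [sub_mul, mul_add, mul_add, h3]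
  noncomm_ring [ofNat_nsmul]

theorem IsFpfAlg.sq_three (h : IsFpfAlg σ) {x : G} (hx : orderOf x = 3) :
    σ x * σ x = -σ x - 1 := by
  rw [← sub_eq_zero, ← h.three hx]; noncomm_ring [ofNat_nsmul]

theorem map_inv_three {x : G} (hx : orderOf x = 3) : σ x⁻¹ = σ x * σ x := by
  rw [← map_mul]
  congr 1
  refine inv_eq_of_mul_eq_one_right ?_
  rw [← pow_two, ← pow_succ', show (2 : ℕ) + 1 = orderOf x from hx.symm, pow_orderOf_eq_one]

theorem IsFpfAlg.xi_inv (h : IsFpfAlg σ) {x : G} (hx : orderOf x = 3) : xi σ x⁻¹ = -xi σ x := by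
  rw [xi, map_inv_three hx, h.sq_three hx, xi]; noncomm_ring [ofNat_nsmul]

theorem IsFpfAlg.xi_sq (h : IsFpfAlg σ) {x : G} (hx : orderOf x = 3) : xi σ x * xi σ x = -3 := by
  rw [xi, show (2 * σ x + 1) * (2 * σ x + 1) = 4 * (σ x * σ x) + 4 * σ x + 1 by noncomm_ring [ofNat_nsmul],
    h.sq_three hx]
  noncomm_ring [ofNat_nsmul]

theorem IsFpfAlg.anti_inv_right (h : IsFpfAlg σ) {x y : G} (hy : orderOf y = 3) :
    anti σ x y⁻¹ = -anti σ x y := by
  rw [anti, anti, h.xi_inv hy]; noncomm_ring [ofNat_nsmul]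

theorem IsFpfAlg.anti_inv_left (h : IsFpfAlg σ) {x y : G} (hx : orderOf x = 3) :
    anti σ x⁻¹ y = -anti σ x y := by
  rw [anti, anti, h.xi_inv hx]; noncomm_ring [ofNat_nsmul]

theorem IsFpfAlg.anti_self (h : IsFpfAlg σ) {x : G} (hx : orderOf x = 3) : anti σ x x = -6 := by
  rw [anti, h.xi_sq hx]; noncomm_ring [ofNat_nsmul]

/-- The anticommutator commutes with each of the two elements. -/
theorem IsFpfAlg.anti_commute (h : IsFpfAlg σ) {x y : G} (hx : orderOf x = 3) :
    Commute (anti σ x y) (xi σ x) := by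
  have h2 := h.xi_sq hx
  show _ * _ = _ * _
  rw [anti, add_mul, mul_add, ← mul_assoc (xi σ x) (xi σ x), h2, mul_assoc (xi σ y), h2,
    mul_assoc (xi σ x)]
  noncomm_ring [ofNat_nsmul]

/-- The anticommutator in terms of the product. -/
theorem IsFpfAlg.anti_eq (h : IsFpfAlg σ) {x y : G} (hx : orderOf x = 3) (hy : orderOf y = 3) :
    anti σ x y = 4 * (σ (x * y) + σ (x * y)⁻¹) - 2 := by
  rw [anti, xi, xi, mul_inv_rev, map_mul, map_mul, map_inv_three hx, map_inv_three hy, h.sq_three hx,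
    h.sq_three hy]
  noncomm_ring [ofNat_nsmul]

end Ring

section Alg

variable {A : Type*} [Ring A] [Algebra ℂ A] [Nontrivial A] [FiniteDimensional ℂ A] {σ : G →* A}

theorem charZero_alg : CharZero A :=
  charZero_of_injective_algebraMap (FaithfulSMul.algebraMap_injective ℂ A)

theorem nat_mul_cancel {k : ℕ} (hk : k ≠ 0) {a : A} (h : (k : A) * a = 0) : a = 0 := by
  have hu : IsUnit ((k : A)) := by
    rw [← map_natCast (algebraMap ℂ A) k]
    exact (IsUnit.mk0 (k : ℂ) (Nat.cast_ne_zero.2 hk)).map _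
  exact hu.mul_right_eq_zero.1 h

theorem IsFpfAlg.root_primitive (h : IsFpfAlg σ) {g : G} {l : ℂ} (hl : l ∈ spectrum ℂ (σ g)) :
    IsPrimitiveRoot l (orderOf g) := by
  have hpow : ∀ k : ℕ, l ^ k ∈ spectrum ℂ (σ (g ^ k)) := fun k => by
    rw [map_pow]; exact spectrum.pow_mem_pow (σ g) k hl
  refine ⟨?_, fun k hk => orderOf_dvd_of_pow_eq_one ?_⟩
  · have := hpow (orderOf g)
    rw [pow_orderOf_eq_one, map_one] at this
    rwa [spectrum.one_eq, Set.mem_singleton_iff] at this
  · by_contra hne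
    have := hpow k
    rw [hk, spectrum.mem_iff, map_one, ← IsUnit.neg_iff, neg_sub] at this
    exact this (h _ hne)

/-- The order of the product of two elements of order three. -/
theorem IsFpfAlg.order_mul (h : IsFpfAlg σ) {x y : G} (hx : orderOf x = 3) (hy : orderOf y = 3) :
    orderOf (x * y) = 1 ∨ orderOf (x * y) = 3 ∨ orderOf (x * y) = 4 ∨ orderOf (x * y) = 6 ∨
      orderOf (x * y) = 10 := by
  set w := x * y with hw
  set w' := x * y⁻¹ with hw'
  set m := orderOf w
  set m' := orderOf w'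
  have hm : 0 < m := orderOf_pos w
  have hm' : 0 < m' := orderOf_pos w'
  have hsum : σ w + σ w⁻¹ + (σ w' + σ w'⁻¹) = 1 := by
    rw [hw, hw', mul_inv_rev, mul_inv_rev, inv_inv, map_mul, map_mul, map_mul, map_mul,
      map_inv_three hy, h.sq_three hy, map_inv_three hx, h.sq_three hx]
    noncomm_ring [ofNat_nsmul]
  have hinvpow : ∀ g : G, σ g⁻¹ = σ g ^ (orderOf g - 1) := fun g => by
    rw [← map_pow]
    congr 1
    refine inv_eq_of_mul_eq_one_right ?_
    rw [← pow_succ', Nat.sub_add_cancel (orderOf_pos g), pow_orderOf_eq_one]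
  obtain ⟨l, hl⟩ := spectrum.nonempty_of_isAlgClosed_of_finiteDimensional ℂ (σ w)
  have hlp := h.root_primitive hl
  have hlinv : ∀ {z : ℂ} {k : ℕ}, 0 < k → z ^ k = 1 → z ^ (k - 1) = z⁻¹ := fun hk hz =>
    eq_inv_of_mul_eq_one_left (by rw [← pow_succ, Nat.sub_add_cancel hk, hz])
  let p : ℂ[X] := C 1 - X - X ^ (m - 1)
  have hp : aeval (σ w) p = σ w' + σ w'⁻¹ := by
    simp only [p, map_sub, map_one, aeval_X, map_pow, ← hinvpow w, m]
    rw [← hsum]; noncomm_ring [ofNat_nsmul]
  have hmem : 1 - l - l ^ (m - 1) ∈ spectrum ℂ (σ w' + σ w'⁻¹) := by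
    rw [← hp, spectrum.map_polynomial_aeval_of_nonempty _ _ ⟨l, hl⟩]
    exact ⟨l, hl, by simp [p]⟩
  let q : ℂ[X] := X + X ^ (m' - 1)
  have hq : aeval (σ w') q = σ w' + σ w'⁻¹ := by
    simp only [q, map_add, aeval_X, map_pow, ← hinvpow w', m']
  rw [← hq, spectrum.map_polynomial_aeval_of_nonempty _ _
    (spectrum.nonempty_of_isAlgClosed_of_finiteDimensional ℂ (σ w'))] at hmem
  obtain ⟨b, hb, hbe⟩ := hmem
  have hbp := (h.root_primitive hb).pow_eq_one
  simp only [q, eval_add, eval_X, eval_pow] at hbe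
  rw [hlinv hm' hbp, hlinv hm hlp.pow_eq_one] at hbe
  exact order_cases hm hm' hlp hbp (by rw [hbe]; ring)

theorem IsFpfAlg.eq_one_of_sum_two (h : IsFpfAlg σ) {w : G} (hu : σ w + σ w⁻¹ = 2) : w = 1 := by
  by_contra hne
  have h1 : (σ w - 1) * (σ w - 1) = 0 := by
    have : σ w * (σ w + σ w⁻¹) = σ w * 2 := by rw [hu]
    rw [mul_add, ← map_mul σ w w⁻¹, mul_inv_cancel, map_one] at this
    calc (σ w - 1) * (σ w - 1) = (σ w * σ w + 1) - σ w * 2 := by noncomm_ring [ofNat_nsmul]
      _ = 0 := by rw [this, sub_self]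
  exact not_isUnit_zero (M₀ := A) (h1 ▸ (h w hne).mul (h w hne))

/-- The five possibilities for the anticommutator. -/
theorem IsFpfAlg.anti_cases (h : IsFpfAlg σ) {x y : G} (hx : orderOf x = 3) (hy : orderOf y = 3) :
    y = x⁻¹ ∨ y = x ∨ anti σ x y = 2 ∨ anti σ x y = -2 ∨ anti σ x y * anti σ x y = 20 := by
  set w := x * y with hw
  rw [h.anti_eq hx hy, ← hw]
  rcases h.order_mul hx hy with hm | hm | hm | hm | hm <;> rw [← hw] at hm
  · exact Or.inl (eq_inv_of_mul_eq_one_right (orderOf_eq_one_iff.1 hm))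
  · -- the other product is trivial
    right; left
    have h3 := h.three hm
    have hsum : σ (x * y⁻¹) + σ (x * y⁻¹)⁻¹ = 2 := by
      have e : σ (x * y⁻¹) + σ (x * y⁻¹)⁻¹ = 1 - (σ w + σ w⁻¹) := by
        rw [hw, mul_inv_rev, mul_inv_rev, inv_inv, map_mul, map_mul, map_mul, map_mul,
          map_inv_three hy, h.sq_three hy, map_inv_three hx, h.sq_three hx]
        noncomm_ring [ofNat_nsmul]
      rw [e, map_inv_three hm, h.sq_three hm]
      noncomm_ring [ofNat_nsmul]
    exact (mul_inv_eq_one.1 (h.eq_one_of_sum_two hsum)).symm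
  · right; right; right; left
    have h2 : orderOf (w ^ 2) = 2 := by rw [orderOf_pow_of_dvd two_ne_zero (by omega), hm]
    have h3 : σ w⁻¹ = -σ w := by
      rw [show w⁻¹ = w ^ 2 * w from inv_eq_of_mul_eq_one_right (by
        rw [← pow_succ, ← pow_succ', show (2 : ℕ) + 1 + 1 = orderOf w from hm.symm, pow_orderOf_eq_one]), map_mul, h.neg_one h2, neg_one_mul]
    rw [h3]; noncomm_ring [ofNat_nsmul]
  · right; right; left
    have h2 : orderOf (w ^ 3) = 2 := by rw [orderOf_pow_of_dvd (by omega) (by omega), hm]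
    have ha : σ w * σ w * σ w = -1 := by
      rw [← map_mul, ← map_mul, ← pow_two, ← pow_succ, h.neg_one h2]
    have hne : w * w ^ 3 ≠ 1 := by
      rw [← pow_succ']
      intro e
      have := Nat.le_of_dvd (by omega) (orderOf_dvd_of_pow_eq_one e)
      omega
    have h4 : σ w * σ w - σ w + 1 = 0 := by
      refine h.mul_left_cancel₀ hne ?_
      rw [map_mul, h.neg_one h2, show (σ w * -1 - 1) * (σ w * σ w - σ w + 1) = -(σ w * σ w * σ w) - 1 by noncomm_ring [ofNat_nsmul], ha]
      noncomm_ring [ofNat_nsmul]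
    have h5 : σ w⁻¹ = 1 - σ w := by
      rw [show w⁻¹ = w * w * w ^ 3 from inv_eq_of_mul_eq_one_right (by
        rw [← pow_two, ← pow_add, ← pow_succ', show (2 : ℕ) + 3 + 1 = orderOf w from hm.symm, pow_orderOf_eq_one]), map_mul, map_mul, h.neg_one h2]
      rw [← sub_eq_zero, show σ w * σ w * -1 - (1 - σ w) = -(σ w * σ w - σ w + 1) by noncomm_ring [ofNat_nsmul], h4, neg_zero]
    rw [h5]; noncomm_ring [ofNat_nsmul]
  · right; right; right; right
    have h2 : orderOf (w ^ 5) = 2 := by rw [orderOf_pow_of_dvd (by omega) (by omega), hm]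
    have ha : σ w * σ w * σ w * σ w * σ w = -1 := by
      rw [← h.neg_one h2, map_pow]; noncomm_ring [ofNat_nsmul]
    have hne : w * w ^ 5 ≠ 1 := by
      rw [← pow_succ']
      intro e
      have := Nat.le_of_dvd (by omega) (orderOf_dvd_of_pow_eq_one e)
      omega
    set a := σ w with haw
    have h4 : a * a * a * a - a * a * a + a * a - a + 1 = 0 := by
      refine h.mul_left_cancel₀ hne ?_
      rw [map_mul, h.neg_one h2, ← haw,
        show (a * -1 - 1) * (a * a * a * a - a * a * a + a * a - a + 1) = -(a * a * a * a * a) - 1 by noncomm_ring [ofNat_nsmul], ha]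
      noncomm_ring [ofNat_nsmul]
    have h5 : σ w⁻¹ = -(a * a * a * a) := by
      rw [show w⁻¹ = w * w * w * w * w ^ 5 from inv_eq_of_mul_eq_one_right (by
        rw [show w * (w * w * w * w * w ^ 5) = w ^ 10 by group, ← hm, pow_orderOf_eq_one]), map_mul,
        h.neg_one h2, map_mul, map_mul, map_mul]
      noncomm_ring [ofNat_nsmul]
    rw [h5]
    set u := a + -(a * a * a * a) with hu
    have h6 : u * u - u - 1 = 0 := by
      rw [hu, show (a + -(a * a * a * a)) * (a + -(a * a * a * a)) - (a + -(a * a * a * a)) - 1 =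
        a * a - 2 * (a * a * a * a * a) + (a * a * a * a * a) * (a * a * a) - a + a * a * a * a - 1 by noncomm_ring [ofNat_nsmul], ha]
      rw [← h4]; noncomm_ring [ofNat_nsmul]
    rw [← sub_eq_zero, show (4 * u - 2) * (4 * u - 2) - 20 = 16 * (u * u - u - 1) by noncomm_ring [ofNat_nsmul], h6, mul_zero]

end Alg

end CfsgLib.Zassenhaus
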