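import Mathlib.LinearAlgebra.Charpoly.Basic
import Mathlib.FieldTheory.Minpoly.Field
import Mathlib.FieldTheory.IsAlgClosed.AlgebraicClosure
import Mathlib.RingTheory.Polynomial.Basic
import Mathlib.FieldTheory.Finite.Basic

/-!
Linear maps of prime order over a prime field: the degree of the minimal polynomial.
-/

set_option autoImplicit false
set_option linter.unusedSectionVars false

namespace CfsgLib.PrimeOrderAuto

open Polynomial

variable {p r : ℕ} [Fact p.Prime] [Fact r.Prime] {W : Type*} [AddCommGroup W] [Module (ZMod p) W]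
  [Module.Finite (ZMod p) W] {T : Module.End (ZMod p) W}

local notation "K" => AlgebraicClosure (ZMod p)

theorem natCast_ne_zero (hrp : r ≠ p) : (r : ZMod p) ≠ 0 := fun h => by
  rw [ZMod.natCast_eq_zero_iff] at h
  exact hrp ((Nat.prime_dvd_prime_iff_eq Fact.out Fact.out).1 h).symm

/-- A primitive `r`-th root of unity among the roots of the minimal polynomial. -/
theorem exists_root (hrp : r ≠ p) (hTr : T ^ r = 1) (hT : T ≠ 1) :
    ∃ l : K, orderOf l = r ∧ aeval l (minpoly (ZMod p) T) = 0 := by
  classical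
  have hint : IsIntegral (ZMod p) T := Algebra.IsIntegral.isIntegral T
  set μ := minpoly (ZMod p) T
  have hdvd : μ ∣ X ^ r - 1 := minpoly.dvd _ _ (by simp [hTr])
  have hsep : μ.Separable :=
    ((X_pow_sub_one_separable_iff (F := ZMod p)).2 (natCast_ne_zero hrp)).of_dvd hdvd
  by_contra hall
  push Not at hall
  have hroot : ∀ l : K, aeval l μ = 0 → l = 1 := by
    intro l hl
    have h1 : l ^ r = 1 := by
      obtain ⟨g, hg⟩ := hdvd
      have h2 := congrArg (aeval l) hg
      rwa [map_sub, map_pow, aeval_X, map_one, map_mul, hl, zero_mul, sub_eq_zero] at h2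
    by_contra hl1
    exact hall l (orderOf_eq_prime h1 hl1) hl
  have hsplit : (μ.map (algebraMap (ZMod p) K)).Splits := IsAlgClosed.splits _
  set μ' := μ.map (algebraMap (ZMod p) K) with hμ'
  have hcard : μ.natDegree ≤ 1 := by
    rw [← natDegree_map_eq_of_injective (algebraMap (ZMod p) K).injective, ← hμ',
      hsplit.natDegree_eq_card_roots,
      ← Multiset.toFinset_card_of_nodup (nodup_roots (hsep.map (f := algebraMap (ZMod p) K)))]
    refine (Finset.card_le_card (t := {1}) fun l hl => ?_).trans (Finset.card_singleton _).le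
    rw [Multiset.mem_toFinset, mem_roots', IsRoot.def, eval_map_algebraMap] at hl
    exact Finset.mem_singleton.2 (hroot l hl.2)
  have : Nontrivial (Module.End (ZMod p) W) := ⟨⟨T, 1, hT⟩⟩
  have hdeg : μ.natDegree = 1 := le_antisymm hcard (minpoly.natDegree_pos hint)
  obtain ⟨c, hc⟩ : ∃ c : ZMod p, μ = X + C c :=
    ⟨μ.coeff 0, (minpoly.monic hint).eq_X_add_C hdeg⟩
  have h1 := hroot (- algebraMap (ZMod p) K c) (by rw [hc]; simp)
  have hc1 : c = -1 := (algebraMap (ZMod p) K).injective (by
    rw [map_neg, map_one, ← h1, neg_neg])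
  have h2 := minpoly.aeval (ZMod p) T
  change aeval T μ = 0 at h2
  rw [hc, hc1] at h2
  rw [map_add, aeval_X, aeval_C, map_neg, map_one, ← sub_eq_add_neg, sub_eq_zero] at h2
  exact hT h2

theorem natDegree_le : (minpoly (ZMod p) T).natDegree ≤ Module.finrank (ZMod p) W := by
  have h := Polynomial.natDegree_le_of_dvd (LinearMap.minpoly_dvd_charpoly T)
    (LinearMap.charpoly_monic T).ne_zero
  rwa [LinearMap.charpoly_natDegree] at h

/-- The Frobenius powers of a root are roots. -/
theorem frob_root {μ : (ZMod p)[X]} {l : K} (h : aeval l μ = 0) (i : ℕ) :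
    aeval (l ^ p ^ i) μ = 0 := by
  induction i with
  | zero => simpa using h
  | succ i ih => rw [pow_succ, pow_mul, ← expand_aeval, ZMod.expand_card, map_pow, ih,
      zero_pow (Fact.out : p.Prime).ne_zero]

theorem card_roots_le {μ : (ZMod p)[X]} (hμ : μ ≠ 0) (S : Finset K)
    (hS : ∀ l ∈ S, aeval l μ = 0) : S.card ≤ μ.natDegree := by
  refine (Polynomial.card_le_degree_of_subset_roots (p := μ.map (algebraMap (ZMod p) K)) ?_).trans
    natDegree_map_le
  intro l hl
  rw [mem_roots', IsRoot.def, eval_map_algebraMap]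
  exact ⟨Polynomial.map_ne_zero hμ, hS l hl⟩

/-- The commutant of a map of prime order `r` with `p` of order `dim` modulo `r` is commutative. -/
theorem commute_of_primitive (hrp : r ≠ p) (hTr : T ^ r = 1) (hT : T ≠ 1)
    (hprim : ∀ i, 0 < i → i < Module.finrank (ZMod p) W → ¬ r ∣ p ^ i - 1)
    {f g : Module.End (ZMod p) W} (hf : Commute f T) (hg : Commute g T) : Commute f g := by
  classical
  obtain ⟨l, hl, hroot⟩ := exists_root hrp hTr hT
  set d := Module.finrank (ZMod p) W
  have hint : IsIntegral (ZMod p) T := Algebra.IsIntegral.isIntegral T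
  have hμ0 : minpoly (ZMod p) T ≠ 0 := minpoly.ne_zero hint
  have hlint : IsIntegral (ZMod p) l := Algebra.IsIntegral.isIntegral l
  have hdeg : d ≤ (minpoly (ZMod p) l).natDegree := by
    refine le_trans ?_ (card_roots_le (minpoly.ne_zero hlint)
      ((Finset.range d).image fun i => l ^ p ^ i) fun x hx => ?_)
    · rw [Finset.card_image_of_injOn, Finset.card_range]
      intro i hi j hj hij
      simp only [Finset.coe_range, Set.mem_Iio] at hi hj
      by_contra hne
      wlog hlt : i < j generalizing i j
      · exact this hij.symm hj hi (Ne.symm hne) (by omega)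
      have h1 : p ^ i ≡ p ^ j [MOD r] := by
        rw [← hl]
        exact (orderOf_pos_iff.1 (hl ▸ (Fact.out : r.Prime).pos)).pow_eq_pow_iff_modEq.1 hij
      have h2 : (r : ℕ) ∣ p ^ i * (p ^ (j - i) - 1) := by
        rw [Nat.mul_sub, mul_one, ← pow_add, Nat.add_sub_cancel' hlt.le]
        exact (Nat.modEq_iff_dvd' (Nat.pow_le_pow_right (Fact.out : p.Prime).pos hlt.le)).1 h1
      rcases (Fact.out : r.Prime).dvd_mul.1 h2 with h | h
      · exact hrp ((Nat.prime_dvd_prime_iff_eq Fact.out Fact.out).1
          ((Fact.out : r.Prime).dvd_of_dvd_pow h))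
      · exact hprim (j - i) (by omega) (by omega) h
    · obtain ⟨i, -, rfl⟩ := Finset.mem_image.1 hx
      exact frob_root (minpoly.aeval _ _) i
  have heq : minpoly (ZMod p) T = minpoly (ZMod p) l :=
    (Polynomial.eq_of_monic_of_dvd_of_natDegree_le (minpoly.monic hlint) (minpoly.monic hint)
      (minpoly.dvd _ _ hroot) (natDegree_le.trans hdeg))
  have hirr : Irreducible (minpoly (ZMod p) T) := heq ▸ minpoly.irreducible hlint
  by_cases hW : ∀ w : W, w = 0
  · exact LinearMap.ext fun w => by rw [hW w, map_zero, map_zero]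
  push Not at hW
  obtain ⟨v, hv⟩ := hW
  let ψ : (ZMod p)[X] →ₗ[ZMod p] W :=
    (LinearMap.applyₗ v).comp (aeval T).toLinearMap
  have hinj : Function.Injective (ψ.comp (degreeLT (ZMod p) d).subtype) := by
    rw [← LinearMap.ker_eq_bot, Submodule.eq_bot_iff]
    rintro ⟨g, hg⟩ hgk
    refine Subtype.ext ?_
    show g = 0
    by_contra hg0
    have hcop : IsCoprime (minpoly (ZMod p) T) g := by
      refine (hirr.coprime_iff_not_dvd).2 fun hd => ?_
      have h1 := Polynomial.natDegree_le_of_dvd hd hg0
      rw [mem_degreeLT, ← natDegree_lt_iff_degree_lt hg0] at hg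
      rw [heq] at h1
      omega
    obtain ⟨a, b, hab⟩ := hcop
    have h1 := congrArg (fun q => (aeval T q : Module.End (ZMod p) W) v) hab
    simp only [map_add, map_mul, map_one, minpoly.aeval, mul_zero, zero_add,
      Module.End.mul_apply, Module.End.one_apply] at h1
    have h2 : (aeval T g : Module.End (ZMod p) W) v = 0 := hgk
    rw [h2, map_zero] at h1
    exact hv h1.symm
  have hsurj : Function.Surjective (ψ.comp (degreeLT (ZMod p) d).subtype) := by
    have : Module.Finite (ZMod p) (degreeLT (ZMod p) d) :=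
      Module.Finite.equiv (degreeLTEquiv (ZMod p) d).symm
    refine (LinearMap.injective_iff_surjective_of_finrank_eq_finrank ?_).1 hinj
    rw [(degreeLTEquiv (ZMod p) d).finrank_eq, Module.finrank_fintype_fun_eq_card, Fintype.card_fin]
  have key : ∀ c : Module.End (ZMod p) W, Commute c T →
      ∃ q : (ZMod p)[X], c = aeval T q := by
    intro c hc
    obtain ⟨⟨q, _⟩, hq⟩ := hsurj (c v)
    have hq' : (aeval T q : Module.End (ZMod p) W) v = c v := hq
    refine ⟨q, LinearMap.ext fun w => ?_⟩
    obtain ⟨⟨u, _⟩, rfl⟩ := hsurj w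
    show c ((aeval T u : Module.End (ZMod p) W) v) = _
    have hcu : Commute c (aeval T u : Module.End (ZMod p) W) :=
      Algebra.commute_of_mem_adjoin_singleton_of_commute (aeval_mem_adjoin_singleton _ _) hc
    rw [← Module.End.mul_apply, hcu.eq, Module.End.mul_apply, ← hq', ← Module.End.mul_apply,
      ← map_mul, mul_comm, map_mul]
    rfl
  obtain ⟨q, rfl⟩ := key f hf
  obtain ⟨q', rfl⟩ := key g hg
  exact (Commute.all q q').map (aeval T)

theorem dvd_of_modEq_one {a b : ℕ} (h : 1 ≤ a) (hab : a ≡ 1 [MOD b]) : b ∣ a - 1 :=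
  (Nat.modEq_iff_dvd' h).1 hab.symm

/-- The order of a map of prime order fixing a form non-degenerate on the right. -/
theorem le_of_form (hrp : r ≠ p) (hTr : T ^ r = 1) (hT : T ≠ 1)
    {M : Type*} [AddCommGroup M] (β : W →+ W →+ M) (hβ : ∀ u v, β (T u) (T v) = β u v)
    (hnd : ∀ v, (∀ u, β u v = 0) → v = 0) :
    ∃ n, 2 * n ≤ Module.finrank (ZMod p) W ∧ r ≤ p ^ n + 1 := by
  classical
  obtain ⟨l, hl, hroot⟩ := exists_root hrp hTr hT
  have hint : IsIntegral (ZMod p) T := Algebra.IsIntegral.isIntegral T
  set μ := minpoly (ZMod p) T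
  have hr := (Fact.out : r.Prime)
  set T' := T ^ (r - 1) with hT'
  have hTT' : T * T' = 1 := by rw [hT', ← pow_succ', Nat.sub_add_cancel hr.one_le, hTr]
  have hTadj : ∀ u v, β (T u) v = β u (T' v) := fun u v => by
    conv_lhs => rw [show v = T (T' v) by rw [← Module.End.mul_apply, hTT', Module.End.one_apply]]
    rw [hβ]
  have hsmulL : ∀ (c : ℕ) (u v : W), β (c • u) v = c • β u v := fun c u v => by
    rw [map_nsmul]; rfl
  have hadj : ∀ (q : (ZMod p)[X]) (u v : W),
      β ((aeval T q : Module.End (ZMod p) W) u) v = β u ((aeval T' q : Module.End (ZMod p) W) v) := by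
    intro q
    induction q using Polynomial.induction_on' with
    | add a b ha hb =>
      intro u v
      simp only [map_add, LinearMap.add_apply, AddMonoidHom.add_apply, ha, hb]
    | monomial i c =>
      intro u v
      have hpow : ∀ i u v, β ((T ^ i) u) v = β u ((T' ^ i) v) := fun i => by
        induction i with
        | zero => intro u v; rfl
        | succ i ih =>
          intro u v
          rw [pow_succ, Module.End.mul_apply, ih, hTadj, ← Module.End.mul_apply, ← pow_succ']
      rw [aeval_monomial, aeval_monomial, Module.End.mul_apply, Module.End.mul_apply,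
        Module.algebraMap_end_apply, Module.algebraMap_end_apply, ← ZMod.natCast_zmod_val c,
        Nat.cast_smul_eq_nsmul, Nat.cast_smul_eq_nsmul, hsmulL, map_nsmul, hpow]
  have hT'μ : aeval T' μ = (0 : Module.End (ZMod p) W) := LinearMap.ext fun v => hnd _ fun u => by
    rw [← hadj, minpoly.aeval, LinearMap.zero_apply, map_zero, AddMonoidHom.zero_apply]
  have hcomp : μ ∣ μ.comp (X ^ (r - 1)) := minpoly.dvd _ _ (by
    rw [aeval_comp, map_pow, aeval_X, ← hT', hT'μ])
  have hinv : aeval (l ^ (r - 1)) μ = 0 := by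
    obtain ⟨g, hg⟩ := hcomp
    have h := congrArg (aeval l) hg
    rwa [aeval_comp, map_pow, aeval_X, map_mul, hroot, zero_mul] at h
  have hp := (Fact.out : p.Prime)
  have hpr : ¬ r ∣ p := fun h => hrp ((Nat.prime_dvd_prime_iff_eq hr hp).1 h)
  have hp0 : (p : ZMod r) ≠ 0 := by rwa [Ne, ZMod.natCast_eq_zero_iff]
  have hexj : 0 < orderOf (p : ZMod r) := Nat.pos_of_ne_zero fun h => by
    rw [orderOf_eq_zero_iff'] at h
    exact h (r - 1) (by have := hr.two_le; omega) (ZMod.pow_card_sub_one_eq_one hp0)
  set j := orderOf (p : ZMod r)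
  have hlpow : ∀ a b : ℕ, l ^ a = l ^ b ↔ (a : ZMod r) = b := fun a b => by
    rw [(orderOf_pos_iff.1 (hl ▸ hr.pos)).pow_eq_pow_iff_modEq, hl, ZMod.natCast_eq_natCast_iff]
  have hinjS : Set.InjOn (fun i => l ^ p ^ i) (Finset.range j : Set ℕ) := by
    intro a ha b hb hab
    simp only [Finset.coe_range, Set.mem_Iio] at ha hb
    have := (hlpow _ _).1 hab
    push_cast at this
    exact pow_injOn_Iio_orderOf ha hb this
  set S := (Finset.range j).image fun i => l ^ p ^ i with hS
  have hSc : S.card = j := by rw [hS, Finset.card_image_of_injOn hinjS, Finset.card_range]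
  have hμ0 : μ ≠ 0 := minpoly.ne_zero hint
  have hle : μ.natDegree ≤ Module.finrank (ZMod p) W := natDegree_le
  by_cases hneg : ∃ i < j, (p : ZMod r) ^ i = -1
  · obtain ⟨i, hi, he⟩ := hneg
    refine ⟨i, ?_, Nat.le_of_dvd (by positivity) ((ZMod.natCast_eq_zero_iff _ _).1 (by
      push_cast; rw [he, neg_add_cancel]))⟩
    rcases Nat.eq_zero_or_pos i with rfl | hipos
    · omega
    have h2 : j ∣ 2 * i := orderOf_dvd_of_pow_eq_one (by rw [mul_comm, pow_mul, he, neg_one_sq])
    have h3 : 2 * i = j := by
      obtain ⟨c, hc⟩ := h2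
      rcases (show c = 0 ∨ c = 1 ∨ 2 ≤ c by omega) with rfl | rfl | hc2
      · omega
      · omega
      · have : j * 2 ≤ j * c := Nat.mul_le_mul_left _ hc2
        omega
    rw [h3, ← hSc]
    refine (card_roots_le hμ0 S fun x hx => ?_).trans hle
    obtain ⟨i, -, rfl⟩ := Finset.mem_image.1 hx
    exact frob_root hroot i
  · push Not at hneg
    refine ⟨j, ?_, ?_⟩
    · set S' := (Finset.range j).image fun i => (l ^ (r - 1)) ^ p ^ i with hS'
      have hr1 : ((r - 1 : ℕ) : ZMod r) = -1 := by
        rw [Nat.cast_sub hr.one_le, ZMod.natCast_self, Nat.cast_one, zero_sub]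
      have hdisj : Disjoint S S' := by
        rw [Finset.disjoint_left]
        intro x hx hx'
        obtain ⟨a, ha, rfl⟩ := Finset.mem_image.1 hx
        obtain ⟨b, hb, he⟩ := Finset.mem_image.1 hx'
        rw [Finset.mem_range] at ha hb
        rw [← pow_mul, hlpow] at he
        push_cast [hr1] at he
        rw [neg_one_mul] at he
        have hj1 : (p : ZMod r) ^ j = 1 := pow_orderOf_eq_one _
        refine hneg ((a + (j - b)) % j) (Nat.mod_lt _ hexj) ?_
        rw [pow_mod_orderOf, pow_add, ← he, neg_mul, ← pow_add, Nat.add_sub_cancel' hb.le, hj1]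
      have hSc' : S'.card = j := by
        rw [hS', Finset.card_image_of_injOn, Finset.card_range]
        intro a ha b hb hab
        simp only [← pow_mul, hlpow] at hab
        push_cast [hr1] at hab
        rw [neg_one_mul, neg_one_mul, neg_inj] at hab
        simp only [Finset.coe_range, Set.mem_Iio] at ha hb
        exact pow_injOn_Iio_orderOf ha hb hab
      have h := card_roots_le hμ0 (S ∪ S') fun x hx => by
        rcases Finset.mem_union.1 hx with hx | hx
        · obtain ⟨i, -, rfl⟩ := Finset.mem_image.1 hx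
          exact frob_root hroot i
        · obtain ⟨i, -, rfl⟩ := Finset.mem_image.1 hx
          exact frob_root hinv i
      rw [Finset.card_union_of_disjoint hdisj, hSc, hSc'] at h
      omega
    · have h1 : (1 : ℕ) ≡ p ^ j [MOD r] := (ZMod.natCast_eq_natCast_iff _ _ _).1 (by
        push_cast; rw [pow_orderOf_eq_one])
      have h2 := (Nat.modEq_iff_dvd' (Nat.one_le_pow _ _ hp.pos)).1 h1
      rcases Nat.eq_zero_or_pos (p ^ j - 1) with h0 | h0
      · have := Nat.one_lt_pow hexj.ne' hp.one_lt
        omega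
      · have := Nat.le_of_dvd h0 h2
        omega

end CfsgLib.PrimeOrderAuto
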