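import Cfsg.Agent.Zassenhaus.Regular
import Mathlib.FieldTheory.Finite.GaloisField
import Mathlib.GroupTheory.SpecificGroups.ZGroup

/-!
Abelian normal subgroups of linear groups over a prime field that are regular on the non-zero vectors:
the enveloping algebra is a field.
-/

set_option autoImplicit false
set_option linter.unusedSectionVars false
set_option linter.style.haveILetI false
set_option linter.unusedVariables false

namespace CfsgLib.RegularLinear

open Subgroup

variable {p : ℕ} [Fact p.Prime]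

/-- The automorphism group of a finite domain over `ZMod p`. -/
theorem card_aut_domain (L : Type*) [CommRing L] [IsDomain L] [Finite L] [Algebra (ZMod p) L] :
    Nat.card (L ≃ₐ[ZMod p] L) = Module.finrank (ZMod p) L := by
  letI : Field L := (Finite.isField_of_domain L).toField
  exact IsGalois.card_aut_eq_finrank (ZMod p) L

/-- Finite groups inside a finite domain. -/
theorem units_domain (L : Type*) [CommRing L] [IsDomain L] [Finite L] {X : Type*} [Group X] (f : X →* L)
    (hf : Function.Injective f) : IsCyclic X ∧ Nat.card X ∣ Nat.card L - 1 := by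
  letI : Field L := (Finite.isField_of_domain L).toField
  have hf' : Function.Injective f.toHomUnits := fun x y e => hf (congrArg Units.val e)
  refine ⟨isCyclic_of_injective f.toHomUnits hf', ?_⟩
  rw [← Nat.card_units]
  exact Subgroup.card_dvd_of_injective f.toHomUnits hf'

variable {V : Type*} [AddCommGroup V] [Module (ZMod p) V]

/-- A linear group, acting as endomorphisms. -/
def act (H : Subgroup (V ≃ₗ[ZMod p] V)) : H →* Module.End (ZMod p) V where
  toFun h := (h : V ≃ₗ[ZMod p] V).toLinearMap
  map_one' := rfl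
  map_mul' _ _ := rfl

variable (H : Subgroup (V ≃ₗ[ZMod p] V))

theorem act_injective : Function.Injective (act H) := fun a b e =>
  Subtype.ext (LinearEquiv.toLinearMap_injective e)

theorem act_inv_mul (h : H) : act H h⁻¹ * act H h = 1 := by
  rw [← map_mul, inv_mul_cancel, map_one]

theorem act_mul_inv (h : H) : act H h * act H h⁻¹ = 1 := by
  rw [← map_mul, mul_inv_cancel, map_one]

theorem act_ne_zero (h : H) {v : V} (hv : v ≠ 0) : act H h v ≠ 0 := fun e =>
  hv ((h : V ≃ₗ[ZMod p] V).map_eq_zero_iff.1 e)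

/-- The enveloping algebra of a subgroup. -/
def env (A : Subgroup H) : Subalgebra (ZMod p) (Module.End (ZMod p) V) :=
  Algebra.adjoin (ZMod p) (act H '' (A : Set H))

variable {H} (A : Subgroup H)

theorem mem_env {a : H} (ha : a ∈ A) : act H a ∈ env H A :=
  Algebra.subset_adjoin ⟨a, ha, rfl⟩

theorem env_comm [IsMulCommutative A] : IsMulCommutative (env H A) := by
  refine Algebra.isMulCommutative_adjoin (ZMod p) ?_
  rintro _ ⟨a, ha, rfl⟩ _ ⟨b, hb, rfl⟩
  rw [← map_mul, ← map_mul, setLike_mul_comm ha hb]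

theorem env_conj [hn : A.Normal] (h : H) {f : Module.End (ZMod p) V} (hf : f ∈ env H A) :
    act H h * f * act H h⁻¹ ∈ env H A := by
  induction hf using Algebra.adjoin_induction with
  | mem x hx =>
    obtain ⟨a, ha, rfl⟩ := hx
    rw [← map_mul, ← map_mul]
    exact mem_env A (hn.conj_mem a ha h)
  | algebraMap r =>
    rw [← Algebra.commutes, mul_assoc, act_mul_inv, mul_one]
    exact Subalgebra.algebraMap_mem _ r
  | add x y _ _ hx hy =>
    rw [mul_add, add_mul]
    exact add_mem hx hy
  | mul x y _ _ hx hy =>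
    have : act H h * (x * y) * act H h⁻¹ = act H h * x * act H h⁻¹ * (act H h * y * act H h⁻¹) := by
      simp only [mul_assoc]
      rw [← mul_assoc (act H h⁻¹) (act H h), act_inv_mul, one_mul]
    rw [this]
    exact mul_mem hx hy

/-- The cyclic submodule generated by a vector. -/
def cyc (v : V) : Submodule (ZMod p) V :=
  (env H A).toSubmodule.map (LinearMap.applyₗ v)

theorem mem_cyc {v w : V} : w ∈ cyc A v ↔ ∃ f ∈ env H A, f v = w := Iff.rfl

theorem self_mem_cyc (v : V) : v ∈ cyc A v := ⟨1, (env H A).one_mem, rfl⟩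

theorem apply_mem_cyc {v w : V} {f : Module.End (ZMod p) V} (hf : f ∈ env H A) (hw : w ∈ cyc A v) :
    f w ∈ cyc A v := by
  obtain ⟨g, hg, rfl⟩ := (mem_cyc A).1 hw
  exact ⟨f * g, (env H A).mul_mem hf hg, rfl⟩

theorem cyc_le {v w : V} (hw : w ∈ cyc A v) : cyc A w ≤ cyc A v := by
  rintro u hu
  obtain ⟨f, hf, rfl⟩ := (mem_cyc A).1 hu
  exact apply_mem_cyc A hf hw

theorem cyc_le_invariant {W : Submodule (ZMod p) V}
    (hW : ∀ a ∈ A, ∀ v ∈ W, ((a : H) : V ≃ₗ[ZMod p] V) v ∈ W) {v : V} (hv : v ∈ W) : cyc A v ≤ W := by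
  have key : ∀ f ∈ env H A, ∀ w ∈ W, f w ∈ W := by
    intro f hf
    induction hf using Algebra.adjoin_induction with
    | mem x hx =>
      obtain ⟨a, ha, rfl⟩ := hx
      exact hW a ha
    | algebraMap r => exact fun w hw => W.smul_mem r hw
    | add x y _ _ hx hy => exact fun w hw => W.add_mem (hx w hw) (hy w hw)
    | mul x y _ _ hx hy => exact fun w hw => hx _ (hy w hw)
  intro u hu
  obtain ⟨f, hf, rfl⟩ := (mem_cyc A).1 hu
  exact key f hf v hv

theorem cyc_conj [A.Normal] (h : H) (v : V) :
    cyc A (act H h v) = (cyc A v).map (act H h) := by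
  refine le_antisymm (fun u hu => ?_) ?_
  · obtain ⟨f, hf, rfl⟩ := (mem_cyc A).1 hu
    refine ⟨(act H h⁻¹ * f * act H h⁻¹⁻¹) v, ⟨_, env_conj A h⁻¹ hf, rfl⟩, ?_⟩
    show (act H h * (act H h⁻¹ * f * act H h⁻¹⁻¹)) v = f (act H h v)
    rw [← mul_assoc, ← mul_assoc, act_mul_inv, one_mul, inv_inv]
    rfl
  · rintro _ ⟨w, hw, rfl⟩
    obtain ⟨f, hf, rfl⟩ := (mem_cyc A).1 hw
    refine ⟨act H h * f * act H h⁻¹, env_conj A h hf, ?_⟩
    show (act H h * f * act H h⁻¹ * act H h) v = (act H h * f) v
    rw [mul_assoc, act_inv_mul, mul_one]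

variable [Finite V] (hreg : ∀ v w : V, v ≠ 0 → w ≠ 0 → ∃! h : H, (h : V ≃ₗ[ZMod p] V) v = w)
  [A.Normal] [IsMulCommutative A]

include hreg

theorem finrank_cyc_eq {v w : V} (hv : v ≠ 0) (hw : w ≠ 0) :
    Module.finrank (ZMod p) (cyc A v) = Module.finrank (ZMod p) (cyc A w) := by
  obtain ⟨h, hh, -⟩ := hreg v w hv hw
  subst hh
  exact (((h : V ≃ₗ[ZMod p] V).finrank_map_eq (cyc A v)).symm.trans
    (by rw [show (h : V ≃ₗ[ZMod p] V) v = act H h v from rfl, cyc_conj A h v]; rfl))

theorem cyc_eq {v w : V} (hv : v ≠ 0) (hw : w ≠ 0) (hwv : w ∈ cyc A v) : cyc A w = cyc A v := by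
  haveI := Module.Finite.of_finite (R := ZMod p) (M := V)
  exact Submodule.eq_of_le_of_finrank_eq (cyc_le A hwv) (finrank_cyc_eq A hreg hw hv)

theorem eq_zero_of_apply {f : Module.End (ZMod p) V} (hf : f ∈ env H A) {w : V} (hw : w ≠ 0)
    (hfw : f w = 0) : f = 0 := by
  haveI := env_comm A
  refine LinearMap.ext fun u => ?_
  by_contra hne
  replace hne : f u ≠ 0 := hne
  have hu : u ≠ 0 := fun e => hne (by rw [e, map_zero])
  have hfuw : f (u + w) = f u := by rw [map_add, hfw, add_zero]
  have huw : u + w ≠ 0 := fun e => hne (by rw [← hfuw, e, map_zero])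
  have h1 : cyc A (f u) = cyc A (u + w) :=
    cyc_eq A hreg huw hne ⟨f, hf, hfuw⟩
  have h2 : cyc A (f u) = cyc A u := cyc_eq A hreg hu hne ⟨f, hf, rfl⟩
  have h3 : w ∈ cyc A u := by
    have h4 : u + w ∈ cyc A u := by rw [← h2, h1]; exact self_mem_cyc A _
    have := (cyc A u).sub_mem h4 (self_mem_cyc A u)
    rwa [add_sub_cancel_left] at this
  rw [← cyc_eq A hreg hu hw h3] at h2
  obtain ⟨g, hg, hgu⟩ : u ∈ cyc A w := by
    rw [← h2, cyc_eq A hreg hu hne ⟨f, hf, rfl⟩]
    exact self_mem_cyc A u
  have hgu' : g w = u := hgu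
  refine hne ?_
  have hc : f * g = g * f := setLike_mul_comm hf hg
  rw [← hgu', ← Module.End.mul_apply, hc, Module.End.mul_apply, hfw, map_zero]

/-- The package: the enveloping algebra of a commutative normal subgroup is a field. -/
theorem env_facts [Nontrivial V] :
    ∃ k m : ℕ, 0 < k ∧ Module.finrank (ZMod p) V = k * m ∧ IsCyclic A ∧ Nat.card A ∣ p ^ k - 1 ∧
      (centralizer (A : Set H)).index ∣ k ∧
      (∀ v : V, v ≠ 0 → Module.finrank (ZMod p) (cyc A v) = k) ∧
      (m = 1 → IsMulCommutative (centralizer (A : Set H))) ∧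
      (k = 1 → (∀ a ∈ A, ∃ c : ZMod p, ∀ v, ((a : H) : V ≃ₗ[ZMod p] V) v = c • v) ∧
        centralizer (A : Set H) = ⊤) := by
  classical
  haveI := Module.Finite.of_finite (R := ZMod p) (M := V)
  haveI := env_comm A
  obtain ⟨v₀, hv₀⟩ := exists_ne (0 : V)
  let L := env H A
  haveI : Finite (Module.End (ZMod p) V) := Finite.of_injective (fun f => (f : V → V)) DFunLike.coe_injective
  letI : CommRing L := { (inferInstance : Ring L) with mul_comm := fun a b => Subtype.ext (setLike_mul_comm a.2 b.2) }
  haveI : Nontrivial L :=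
    ⟨⟨1, 0, fun e => hv₀ (LinearMap.congr_fun (congrArg Subtype.val e) v₀)⟩⟩
  haveI : NoZeroDivisors L := ⟨fun {a b} hab => by
    by_contra hc
    push Not at hc
    obtain ⟨w, hw⟩ : ∃ w, (b : Module.End (ZMod p) V) w ≠ 0 := by
      by_contra hh
      push Not at hh
      exact hc.2 (Subtype.ext (LinearMap.ext hh))
    exact hc.1 (Subtype.ext (eq_zero_of_apply A hreg a.2 hw
      (LinearMap.congr_fun (congrArg Subtype.val hab) w)))⟩
  haveI : IsDomain L := NoZeroDivisors.to_isDomain L
  have haut := card_aut_domain (p := p) L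
  set k := Module.finrank (ZMod p) L with hk
  have hkpos : 0 < k := Module.finrank_pos
  -- every cyclic submodule has dimension `k`
  have hcyc : ∀ v : V, v ≠ 0 → Module.finrank (ZMod p) (cyc A v) = k := fun v hv => by
    have hinj : Function.Injective ((LinearMap.applyₗ v).comp (env H A).toSubmodule.subtype) := ?_
    · have h1 := LinearMap.finrank_range_of_inj hinj
      rw [LinearMap.range_comp, Submodule.range_subtype] at h1
      exact h1
    intro f g hfg
    refine Subtype.ext (sub_eq_zero.1 (eq_zero_of_apply A hreg ((env H A).sub_mem f.2 g.2) hv ?_))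
    show (f : Module.End (ZMod p) V) v - (g : Module.End (ZMod p) V) v = 0
    exact sub_eq_zero.2 hfg
  -- `V` is a vector space over `L`
  obtain ⟨m, hm⟩ : ∃ m, Module.finrank (ZMod p) V = k * m := by
    letI : Field L := (Finite.isField_of_domain L).toField
    letI : Module L V := Module.compHom V (env H A).val.toRingHom
    haveI : IsScalarTower (ZMod p) L V := ⟨fun r f v => rfl⟩
    exact ⟨Module.finrank L V, (Module.finrank_mul_finrank (ZMod p) L V).symm⟩
  have hcardL : Nat.card L = p ^ k := by
    rw [Module.natCard_eq_pow_finrank (K := ZMod p), Nat.card_zmod]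
  let ι : A →* L :=
    { toFun := fun a => ⟨act H (a : H), mem_env A a.2⟩
      map_one' := Subtype.ext (show act H (1 : H) = 1 from map_one _)
      map_mul' := fun a b => Subtype.ext (show act H ((a : H) * b) = act H (a : H) * act H (b : H) from map_mul _ _ _) }
  have hι : Function.Injective ι := fun a b e =>
    Subtype.ext (act_injective H (congrArg Subtype.val e))
  haveI : Finite A := Finite.of_injective ι hι
  obtain ⟨hAcyc, hAcard⟩ := units_domain L ι hι
  rw [hcardL] at hAcard
  -- the action of `H` on `L`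
  let γ : H →* (L ≃ₐ[ZMod p] L) :=
    { toFun := fun h => AlgEquiv.ofLinearEquiv
        { toFun := fun f => ⟨act H h * f * act H h⁻¹, env_conj A h f.2⟩
          map_add' := fun f g => Subtype.ext (by
            show act H h * ((f : Module.End (ZMod p) V) + g) * act H h⁻¹ = _
            rw [mul_add, add_mul]; rfl)
          map_smul' := fun c f => Subtype.ext (by
            show act H h * (c • (f : Module.End (ZMod p) V)) * act H h⁻¹ = _
            rw [mul_smul_comm, smul_mul_assoc]; rfl)
          invFun := fun f => ⟨act H h⁻¹ * f * act H h⁻¹⁻¹, env_conj A h⁻¹ f.2⟩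
          left_inv := fun f => Subtype.ext (by
            show act H h⁻¹ * (act H h * (f : Module.End (ZMod p) V) * act H h⁻¹) * act H h⁻¹⁻¹ = _
            rw [inv_inv, ← mul_assoc, ← mul_assoc, act_inv_mul, one_mul, mul_assoc, act_inv_mul, mul_one])
          right_inv := fun f => Subtype.ext (by
            show act H h * (act H h⁻¹ * (f : Module.End (ZMod p) V) * act H h⁻¹⁻¹) * act H h⁻¹ = _
            rw [inv_inv, ← mul_assoc, ← mul_assoc, act_mul_inv, one_mul, mul_assoc, act_mul_inv, mul_one]) }
        (Subtype.ext (by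
          show act H h * (1 : Module.End (ZMod p) V) * act H h⁻¹ = 1
          rw [mul_one, act_mul_inv]))
        (fun f g => Subtype.ext (by
          show act H h * ((f : Module.End (ZMod p) V) * g) * act H h⁻¹ =
            act H h * f * act H h⁻¹ * (act H h * g * act H h⁻¹)
          simp only [mul_assoc]
          rw [← mul_assoc (act H h⁻¹) (act H h), act_inv_mul, one_mul]))
      map_one' := AlgEquiv.ext fun f => Subtype.ext (by
        show act H 1 * (f : Module.End (ZMod p) V) * act H 1⁻¹ = f
        rw [inv_one, map_one, one_mul, mul_one])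
      map_mul' := fun a b => AlgEquiv.ext fun f => Subtype.ext (by
        show act H (a * b) * (f : Module.End (ZMod p) V) * act H (a * b)⁻¹ =
          act H a * (act H b * f * act H b⁻¹) * act H a⁻¹
        rw [mul_inv_rev, map_mul, map_mul]
        simp only [mul_assoc]) }
  have hker : γ.ker = centralizer (A : Set H) := by
    ext h
    rw [MonoidHom.mem_ker, mem_centralizer_iff]
    constructor
    · intro hh a ha
      have h1 := congrArg Subtype.val (AlgEquiv.congr_fun hh (⟨act H a, mem_env A ha⟩ : L))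
      change act H h * act H a * act H h⁻¹ = act H a at h1
      rw [← map_mul, ← map_mul] at h1
      exact (mul_inv_eq_iff_eq_mul.1 (act_injective H h1)).symm
    · intro hh
      refine AlgEquiv.ext fun f => Subtype.ext ?_
      show act H h * (f : Module.End (ZMod p) V) * act H h⁻¹ = f
      have hc : Commute (act H h) (f : Module.End (ZMod p) V) := by
        refine Algebra.commute_of_mem_adjoin_of_forall_mem_commute f.2 ?_
        rintro _ ⟨a, ha, rfl⟩
        show act H h * act H a = act H a * act H h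
        rw [← map_mul, ← map_mul, hh a ha]
      rw [hc.eq, mul_assoc, act_mul_inv, mul_one]
  refine ⟨k, m, hkpos, hm, hAcyc, hAcard, ?_, hcyc, fun hm1 => ?_, fun hk1 => ?_⟩
  · rw [← hker, Subgroup.index_ker, ← haut]
    exact Subgroup.card_subgroup_dvd_card γ.range
  · refine .of_setLike_mul_comm fun a ha b hb => ?_
    have hW : cyc A v₀ = ⊤ := Submodule.eq_top_of_finrank_eq (by rw [hcyc v₀ hv₀, hm, hm1, mul_one])
    obtain ⟨f, hf, hfv⟩ := (mem_cyc A).1 (show ((a : H) : V ≃ₗ[ZMod p] V) v₀ ∈ cyc A v₀ by rw [hW]; exact Submodule.mem_top)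
    obtain ⟨g, hg, hgv⟩ := (mem_cyc A).1 (show ((b : H) : V ≃ₗ[ZMod p] V) v₀ ∈ cyc A v₀ by rw [hW]; exact Submodule.mem_top)
    have key : ∀ c ∈ centralizer (A : Set H), ∀ q ∈ env H A, ∀ w,
        ((c : H) : V ≃ₗ[ZMod p] V) (q w) = q (((c : H) : V ≃ₗ[ZMod p] V) w) := by
      intro c hc q hq w
      have h1 : Commute (act H c) q := by
        refine Algebra.commute_of_mem_adjoin_of_forall_mem_commute hq ?_
        rintro _ ⟨x, hx, rfl⟩
        show act H c * act H x = act H x * act H c
        rw [← map_mul, ← map_mul, hc x hx]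
      exact LinearMap.congr_fun h1.eq w
    refine (hreg v₀ (act H (a * b) v₀) hv₀ (act_ne_zero H _ hv₀)).unique rfl ?_
    show ((b : H) : V ≃ₗ[ZMod p] V) (((a : H) : V ≃ₗ[ZMod p] V) v₀) =
      ((a : H) : V ≃ₗ[ZMod p] V) (((b : H) : V ≃ₗ[ZMod p] V) v₀)
    rw [← hfv, key b hb f hf, ← hgv, key a ha g hg, ← hfv]
    exact LinearMap.congr_fun (setLike_mul_comm hf hg) v₀
  · have hbot : env H A = ⊥ := Subalgebra.eq_bot_of_finrank_one hk1
    have hsc : ∀ a ∈ A, ∃ c : ZMod p, act H a = algebraMap (ZMod p) (Module.End (ZMod p) V) c := fun a ha => by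
      have h1 := mem_env A ha
      rw [hbot, Algebra.mem_bot] at h1
      obtain ⟨c, hc⟩ := h1
      exact ⟨c, hc.symm⟩
    refine ⟨fun a ha => ?_, eq_top_iff.2 fun h _ => mem_centralizer_iff.2 fun a ha => ?_⟩
    · obtain ⟨c, hc⟩ := hsc a ha
      exact ⟨c, fun v => LinearMap.congr_fun hc v⟩
    · obtain ⟨c, hc⟩ := hsc a ha
      refine act_injective H ?_
      rw [map_mul, map_mul, hc, Algebra.commutes]

end CfsgLib.RegularLinear
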