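import Cfsg.Agent.Zassenhaus.RegularBasic

/-!
Transitive linear groups over a prime field: a normal abelian subgroup spans a field, over which its
centraliser acts linearly.
-/

set_option autoImplicit false
set_option linter.unusedSectionVars false

namespace CfsgLib.TransLinear

open Subgroup CfsgLib.RegularLinear

universe u

variable {p : ℕ} [Fact p.Prime] {V : Type u} [AddCommGroup V] [Module (ZMod p) V]
  {H : Subgroup (V ≃ₗ[ZMod p] V)} (A : Subgroup H) [A.Normal] [IsMulCommutative A] [Finite V]
  (htr : ∀ v w : V, v ≠ 0 → w ≠ 0 → ∃ h : H, (h : V ≃ₗ[ZMod p] V) v = w)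

include htr

theorem finrank_cyc_eq {v w : V} (hv : v ≠ 0) (hw : w ≠ 0) :
    Module.finrank (ZMod p) (cyc A v) = Module.finrank (ZMod p) (cyc A w) := by
  obtain ⟨h, hh⟩ := htr v w hv hw
  subst hh
  exact (((h : V ≃ₗ[ZMod p] V).finrank_map_eq (cyc A v)).symm.trans
    (by rw [show (h : V ≃ₗ[ZMod p] V) v = act H h v from rfl, cyc_conj A h v]; rfl))

theorem cyc_eq {v w : V} (hv : v ≠ 0) (hw : w ≠ 0) (hwv : w ∈ cyc A v) : cyc A w = cyc A v := by
  haveI := Module.Finite.of_finite (R := ZMod p) (M := V)
  exact Submodule.eq_of_le_of_finrank_eq (cyc_le A hwv) (finrank_cyc_eq A htr hw hv)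

theorem eq_zero_of_apply {f : Module.End (ZMod p) V} (hf : f ∈ env H A) {w : V} (hw : w ≠ 0)
    (hfw : f w = 0) : f = 0 := by
  haveI := env_comm A
  refine LinearMap.ext fun u => ?_
  by_contra hne
  replace hne : f u ≠ 0 := hne
  have hu : u ≠ 0 := fun e => hne (by rw [e, map_zero])
  have hfuw : f (u + w) = f u := by rw [map_add, hfw, add_zero]
  have huw : u + w ≠ 0 := fun e => hne (by rw [← hfuw, e, map_zero])
  have h1 : cyc A (f u) = cyc A (u + w) :=
    cyc_eq A htr huw hne ⟨f, hf, hfuw⟩
  have h2 : cyc A (f u) = cyc A u := cyc_eq A htr hu hne ⟨f, hf, rfl⟩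
  have h3 : w ∈ cyc A u := by
    have h4 : u + w ∈ cyc A u := by rw [← h2, h1]; exact self_mem_cyc A _
    have := (cyc A u).sub_mem h4 (self_mem_cyc A u)
    rwa [add_sub_cancel_left] at this
  rw [← cyc_eq A htr hu hw h3] at h2
  obtain ⟨g, hg, hgu⟩ : u ∈ cyc A w := by
    rw [← h2, cyc_eq A htr hu hne ⟨f, hf, rfl⟩]
    exact self_mem_cyc A u
  have hgu' : g w = u := hgu
  refine hne ?_
  have hc : f * g = g * f := setLike_mul_comm hf hg
  rw [← hgu', ← Module.End.mul_apply, hc, Module.End.mul_apply, hfw, map_zero]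

/-- The field spanned by a normal abelian subgroup, and the linear action of its centraliser. -/
theorem exists_frame [Nontrivial V] :
    ∃ (k m : ℕ), 0 < k ∧ 0 < m ∧ Module.finrank (ZMod p) V = k * m ∧
      Nat.card A ∣ p ^ k - 1 ∧ (centralizer (A : Set H)).index ∣ k ∧
      (m = 1 → ∀ W : Submodule (ZMod p) V,
        (∀ a ∈ A, ∀ v ∈ W, ((a : H) : V ≃ₗ[ZMod p] V) v ∈ W) → W = ⊥ ∨ W = ⊤) ∧
      ∃ (L : Type u) (_ : Field L) (_ : Module L V) (_ : Finite L)
        (ι : A →* L) (Φ : centralizer (A : Set H) →* Module.End L V),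
        Module.finrank L V = m ∧ Function.Injective Φ ∧
        (∀ c v, Φ c v = ((c : H) : V ≃ₗ[ZMod p] V) v) ∧
        ∀ (a : A) (v : V), ((a : H) : V ≃ₗ[ZMod p] V) v = ι a • v := by
  classical
  haveI := Module.Finite.of_finite (R := ZMod p) (M := V)
  haveI := env_comm A
  obtain ⟨v₀, hv₀⟩ := exists_ne (0 : V)
  let L := env H A
  haveI : Finite (Module.End (ZMod p) V) := Finite.of_injective (fun f => (f : V → V)) DFunLike.coe_injective
  letI : CommRing L := { (inferInstance : Ring L) with mul_comm := fun a b => Subtype.ext (setLike_mul_comm a.2 b.2) }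
  haveI : Nontrivial L :=
    ⟨⟨1, 0, fun e => hv₀ (LinearMap.congr_fun (congrArg Subtype.val e) v₀)⟩⟩
  haveI : NoZeroDivisors L := ⟨fun {a b} hab => by
    by_contra hc
    push Not at hc
    obtain ⟨w, hw⟩ : ∃ w, (b : Module.End (ZMod p) V) w ≠ 0 := by
      by_contra hh
      push Not at hh
      exact hc.2 (Subtype.ext (LinearMap.ext hh))
    exact hc.1 (Subtype.ext (eq_zero_of_apply A htr a.2 hw
      (LinearMap.congr_fun (congrArg Subtype.val hab) w)))⟩
  haveI : IsDomain L := NoZeroDivisors.to_isDomain L
  have haut := card_aut_domain (p := p) L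
  set k := Module.finrank (ZMod p) L with hk
  have hkpos : 0 < k := Module.finrank_pos
  have hcardL : Nat.card L = p ^ k := by
    rw [Module.natCard_eq_pow_finrank (K := ZMod p), Nat.card_zmod]
  let ι : A →* L :=
    { toFun := fun a => ⟨act H (a : H), mem_env A a.2⟩
      map_one' := Subtype.ext (show act H (1 : H) = 1 from map_one _)
      map_mul' := fun a b => Subtype.ext (show act H ((a : H) * b) = act H (a : H) * act H (b : H) from map_mul _ _ _) }
  have hι : Function.Injective ι := fun a b e =>
    Subtype.ext (act_injective H (congrArg Subtype.val e))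
  haveI : Finite A := Finite.of_injective ι hι
  obtain ⟨-, hAcard⟩ := units_domain L ι hι
  rw [hcardL] at hAcard
  have hcommC : ∀ c ∈ centralizer (A : Set H), ∀ f ∈ env H A, Commute (act H c) f := by
    intro c hc f hf
    refine Algebra.commute_of_mem_adjoin_of_forall_mem_commute hf ?_
    rintro _ ⟨x, hx, rfl⟩
    show act H c * act H x = act H x * act H c
    rw [← map_mul, ← map_mul, hc x hx]
  -- the action of `H` on `L`
  let γ : H →* (L ≃ₐ[ZMod p] L) :=
    { toFun := fun h => AlgEquiv.ofLinearEquiv
        { toFun := fun f => ⟨act H h * f * act H h⁻¹, env_conj A h f.2⟩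
          map_add' := fun f g => Subtype.ext (by
            show act H h * ((f : Module.End (ZMod p) V) + g) * act H h⁻¹ = _
            rw [mul_add, add_mul]; rfl)
          map_smul' := fun c f => Subtype.ext (by
            show act H h * (c • (f : Module.End (ZMod p) V)) * act H h⁻¹ = _
            rw [mul_smul_comm, smul_mul_assoc]; rfl)
          invFun := fun f => ⟨act H h⁻¹ * f * act H h⁻¹⁻¹, env_conj A h⁻¹ f.2⟩
          left_inv := fun f => Subtype.ext (by
            show act H h⁻¹ * (act H h * (f : Module.End (ZMod p) V) * act H h⁻¹) * act H h⁻¹⁻¹ = _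
            rw [inv_inv, ← mul_assoc, ← mul_assoc, act_inv_mul, one_mul, mul_assoc, act_inv_mul, mul_one])
          right_inv := fun f => Subtype.ext (by
            show act H h * (act H h⁻¹ * (f : Module.End (ZMod p) V) * act H h⁻¹⁻¹) * act H h⁻¹ = _
            rw [inv_inv, ← mul_assoc, ← mul_assoc, act_mul_inv, one_mul, mul_assoc, act_mul_inv, mul_one]) }
        (Subtype.ext (by
          show act H h * (1 : Module.End (ZMod p) V) * act H h⁻¹ = 1
          rw [mul_one, act_mul_inv]))
        (fun f g => Subtype.ext (by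
          show act H h * ((f : Module.End (ZMod p) V) * g) * act H h⁻¹ =
            act H h * f * act H h⁻¹ * (act H h * g * act H h⁻¹)
          simp only [mul_assoc]
          rw [← mul_assoc (act H h⁻¹) (act H h), act_inv_mul, one_mul]))
      map_one' := AlgEquiv.ext fun f => Subtype.ext (by
        show act H 1 * (f : Module.End (ZMod p) V) * act H 1⁻¹ = f
        rw [inv_one, map_one, one_mul, mul_one])
      map_mul' := fun a b => AlgEquiv.ext fun f => Subtype.ext (by
        show act H (a * b) * (f : Module.End (ZMod p) V) * act H (a * b)⁻¹ =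
          act H a * (act H b * f * act H b⁻¹) * act H a⁻¹
        rw [mul_inv_rev, map_mul, map_mul]
        simp only [mul_assoc]) }
  have hker : γ.ker = centralizer (A : Set H) := by
    ext h
    rw [MonoidHom.mem_ker]
    constructor
    · intro hh
      rw [mem_centralizer_iff]
      intro a ha
      have h1 := congrArg Subtype.val (AlgEquiv.congr_fun hh (⟨act H a, mem_env A ha⟩ : L))
      change act H h * act H a * act H h⁻¹ = act H a at h1
      rw [← map_mul, ← map_mul] at h1
      exact (mul_inv_eq_iff_eq_mul.1 (act_injective H h1)).symm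
    · intro hh
      refine AlgEquiv.ext fun f => Subtype.ext ?_
      show act H h * (f : Module.End (ZMod p) V) * act H h⁻¹ = f
      rw [(hcommC h hh f f.2).eq, mul_assoc, act_mul_inv, mul_one]
  letI : Field L := (Finite.isField_of_domain L).toField
  letI : Module L V := Module.compHom V (env H A).val.toRingHom
  haveI : IsScalarTower (ZMod p) L V := ⟨fun r f v => rfl⟩
  have hfin : Module.Finite L V := Module.Finite.of_finite
  have hkm : Module.finrank (ZMod p) V = k * Module.finrank L V :=
    (Module.finrank_mul_finrank (ZMod p) L V).symm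
  refine ⟨k, Module.finrank L V, hkpos, Module.finrank_pos, hkm, hAcard, ?_, fun hm1 W hW => ?_,
    L, inferInstance, inferInstance, inferInstance, ι,
    { toFun := fun c =>
        { toFun := fun v => ((c : H) : V ≃ₗ[ZMod p] V) v
          map_add' := fun v w => map_add _ v w
          map_smul' := fun f v => LinearMap.congr_fun (hcommC c c.2 f f.2).eq v }
      map_one' := rfl
      map_mul' := fun _ _ => rfl }, rfl, fun a b e => ?_, fun _ _ => rfl, fun _ _ => rfl⟩
  · rw [← hker, Subgroup.index_ker, ← haut]
    exact Subgroup.card_subgroup_dvd_card γ.range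
  · by_cases hWb : W = ⊥
    · exact Or.inl hWb
    obtain ⟨v, hv, hv0⟩ := Submodule.exists_mem_ne_zero_of_ne_bot hWb
    refine Or.inr (eq_top_iff.2 fun w _ => ?_)
    obtain ⟨f, hf⟩ := (finrank_eq_one_iff_of_nonzero' v hv0).1 hm1 w
    exact cyc_le_invariant A hW hv ⟨f, f.2, hf⟩
  · exact Subtype.ext (Subtype.ext (LinearEquiv.ext fun v => LinearMap.congr_fun e v))

end CfsgLib.TransLinear
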